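import Groth.Agent.PerfD40.Compact
import Groth.Agent.PerfD40.SupportKill
import Groth.Agent.TriCat.Hocolim
import Groth.Agent.KFlatLib.Scheme.Grothendieck

/-!
# Perfect objects are finitely built from a perfect generator
-/

set_option linter.style.haveILetI false
set_option backward.isDefEq.respectTransparency false
set_option backward.isDefEq.respectTransparency.types false

universe u

open CategoryTheory CategoryTheory.Limits CategoryTheory.Pretriangulated AlgebraicGeometry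
open Groth.Agent.KFlatLib Groth.Agent.PerfD40 DerLim

attribute [local instance] HasDerivedCategory.standard

namespace Groth.Agent.RelPC13

variable {X : Scheme.{u}}

/-- Morphisms in the derived category form small sets. -/
lemma small_hom (K L : DCoh.D X) : Small.{u} (K ⟶ L) := by
  obtain ⟨I, f, hI, hf⟩ := exists_kInjective_res (DerivedCategory.Q.objPreimage L)
  haveI := (DerivedCategory.isIso_Q_map_iff_quasiIso _ _).2 hf
  haveI := hI
  let K₀ := (HomotopyCategory.quotient X.Modules _).obj (DerivedCategory.Q.objPreimage K)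
  let eK : DerivedCategory.Qh.obj K₀ ≅ K :=
    (DerivedCategory.quotientCompQhIso X.Modules).app _ ≪≫ DerivedCategory.Q.objObjPreimageIso K
  let eL : DerivedCategory.Qh.obj ((HomotopyCategory.quotient X.Modules _).obj I) ≅ L :=
    (DerivedCategory.quotientCompQhIso X.Modules).app _ ≪≫ (asIso (DerivedCategory.Q.map f)).symm ≪≫
      DerivedCategory.Q.objObjPreimageIso L
  haveI : Small.{u} (DerivedCategory.Qh.obj K₀ ⟶
      DerivedCategory.Qh.obj ((HomotopyCategory.quotient X.Modules _).obj I)) :=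
    small_of_surjective (CochainComplex.IsKInjective.Qh_map_bijective K₀ I).2
  exact small_of_surjective (f := fun g => eK.inv ≫ g ≫ eL.hom)
    fun g => ⟨eK.hom ≫ g ≫ eL.inv, by simp⟩

/-- A class of objects closed under isomorphisms, cones and retracts. -/
structure ThickClass (P : DCoh.D X → Prop) : Prop where
  ext₂ : ∀ T ∈ distTriang (DCoh.D X), P T.obj₁ → P T.obj₃ → P T.obj₂
  retract : ∀ {K L : DCoh.D X}, Retract K L → P L → P K

section

variable {P : DCoh.D X → Prop}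

lemma ThickClass.of_iso (hP : ThickClass P) {K L : DCoh.D X} (e : K ≅ L) (h : P K) : P L :=
  hP.retract ⟨e.inv, e.hom, e.inv_hom_id⟩ h

/-- `φ` factors through a perfect object of the class. -/
def Fact (P : DCoh.D X → Prop) {B L : DCoh.D X} (φ : B ⟶ L) : Prop :=
  ∃ (E : DCoh.D X) (g : B ⟶ E) (h : E ⟶ L), P E ∧ DCoh.IsPerfect E ∧ g ≫ h = φ

lemma Fact.postcomp {B L L' : DCoh.D X} {φ : B ⟶ L} (h : Fact P φ) (k : L ⟶ L') :
    Fact P (φ ≫ k) := by
  obtain ⟨E, g, h, h₁, h₂, rfl⟩ := h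
  exact ⟨E, g, h ≫ k, h₁, h₂, (Category.assoc _ _ _).symm⟩

lemma Fact.precomp {B B' L : DCoh.D X} {φ : B ⟶ L} (h : Fact P φ) (k : B' ⟶ B) :
    Fact P (k ≫ φ) := by
  obtain ⟨E, g, h, h₁, h₂, rfl⟩ := h
  exact ⟨E, k ≫ g, h, h₁, h₂, Category.assoc _ _ _⟩

lemma isPerfect_ext₂ {T : Triangle (DCoh.D X)} (hT : T ∈ distTriang _)
    (h₁ : DCoh.IsPerfect T.obj₁) (h₃ : DCoh.IsPerfect T.obj₃) : DCoh.IsPerfect T.obj₂ :=
  (isPerfect_iff _).2 ((locSP_two_of_three T hT).2.1 ((isPerfect_iff _).1 h₁) ((isPerfect_iff _).1 h₃))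

lemma isPerfect_ext₁ {T : Triangle (DCoh.D X)} (hT : T ∈ distTriang _)
    (h₂ : DCoh.IsPerfect T.obj₂) (h₃ : DCoh.IsPerfect T.obj₃) : DCoh.IsPerfect T.obj₁ :=
  (isPerfect_iff _).2 ((locSP_two_of_three T hT).2.2 ((isPerfect_iff _).1 h₂) ((isPerfect_iff _).1 h₃))

lemma isPerfect_shift {K : DCoh.D X} (h : DCoh.IsPerfect K) (n : ℤ) : DCoh.IsPerfect (K⟦n⟧) :=
  (isPerfect_iff _).2 (((isPerfect_iff _).1 h).shift n)

lemma Fact.add (hP : ThickClass P) {B L : DCoh.D X} {φ ψ : B ⟶ L} (h₁ : Fact P φ)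
    (h₂ : Fact P ψ) : Fact P (φ + ψ) := by
  obtain ⟨E₁, g₁, k₁, hE₁, hp₁, rfl⟩ := h₁
  obtain ⟨E₂, g₂, k₂, hE₂, hp₂, rfl⟩ := h₂
  haveI := HasBinaryBiproducts.of_hasBinaryProducts (C := DCoh.D X)
  have hT := binaryBiproductTriangle_distinguished E₁ E₂
  exact ⟨E₁ ⊞ E₂, biprod.lift g₁ g₂, biprod.desc k₁ k₂, hP.ext₂ _ hT hE₁ hE₂,
    isPerfect_ext₂ hT hp₁ hp₂, biprod.lift_desc ..⟩

variable (G : DCoh.D X) (hG : DCoh.IsPerfect G) (hGP : ∀ n : ℤ, P (G⟦n⟧))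

include hG hGP in
lemma fact_zero (hP : ThickClass P) (B L : DCoh.D X) : Fact P (0 : B ⟶ L) :=
  ⟨G⟦(0 : ℤ)⟧, 0, 0, hGP 0, isPerfect_shift hG 0, by simp⟩

include hG hGP in
/-- One step of killing: maps killed by a cone over a coproduct of shifts of `G`. -/
lemma fact_step [CompactSpace X] [QuasiSeparatedSpace X] (hP : ThickClass P) {C X₁ X₂ : DCoh.D X}
    {J : Type u} (m : J → ℤ) [HasCoproduct fun j => G⟦m j⟧] {u : C ⟶ X₁}
    {y : (∐ fun j => G⟦m j⟧) ⟶ X₁} {f : X₁ ⟶ X₂} {c : X₂ ⟶ (∐ fun j => G⟦m j⟧)⟦(1 : ℤ)⟧}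
    (hT : Triangle.mk y f c ∈ distTriang (DCoh.D X))
    (ih : ∀ (B : DCoh.D X) (φ : B ⟶ C), DCoh.IsPerfect B → φ ≫ u = 0 → Fact P φ)
    (B : DCoh.D X) (φ : B ⟶ C) (hB : DCoh.IsPerfect B) (hφ : φ ≫ u ≫ f = 0) : Fact P φ := by
  classical
  obtain ⟨ψ, hψ⟩ := Triangle.coyoneda_exact₂ _ hT (φ ≫ u) (by simpa using hφ)
  change B ⟶ ∐ fun j => G⟦m j⟧ at ψ
  change φ ≫ u = ψ ≫ y at hψ
  obtain ⟨F, hF⟩ := fixAt_of_isQCohD hB (fun j => G⟦m j⟧)
    (fun j => isQCohD_of_isPerfect (isPerfect_shift hG _)) ψ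
  have hfac : Fact P ψ := by
    rw [← hF, partProj_eq_sum, Preadditive.comp_sum]
    refine Finset.sum_induction _ (Fact P) (fun a b ha hb => Fact.add hP ha hb)
      (fact_zero G hG hGP hP _ _) fun j _ => ?_
    exact ⟨G⟦m j⟧, ψ ≫ sigmaProj _ j, Sigma.ι (fun j => G⟦m j⟧) j, hGP _, isPerfect_shift hG _,
      Category.assoc _ _ _⟩
  obtain ⟨E₁, g₁, k₁, hE₁, hp₁, rfl⟩ := hfac
  obtain ⟨B', p, q, hB'⟩ := distinguished_cocone_triangle₁ g₁
  have hp' : DCoh.IsPerfect B' := isPerfect_ext₁ hB' hB hp₁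
  have hpg : p ≫ g₁ = 0 := comp_distTriang_mor_zero₁₂ _ hB'
  obtain ⟨E₂, g₂, k₂, hE₂, hp₂, hgk⟩ := ih B' (p ≫ φ) hp' (by
    rw [Category.assoc, hψ, Category.assoc, reassoc_of% hpg, zero_comp])
  obtain ⟨W, a, b, hW⟩ := distinguished_cocone_triangle₂ (q ≫ g₂⟦(1 : ℤ)⟧')
  obtain ⟨k, hk₁, hk₂⟩ : ∃ k : B ⟶ W, p ≫ k = g₂ ≫ a ∧ g₁ ≫ 𝟙 _ = k ≫ b :=
    complete_distinguished_triangle_morphism₂ _ _ hB' hW g₂ (𝟙 _) (Category.id_comp _).symm
  obtain ⟨h, hh₁, -⟩ : ∃ h : W ⟶ C, a ≫ h = k₂ ≫ 𝟙 _ ∧ b ≫ 0 = h ≫ 0 :=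
    complete_distinguished_triangle_morphism₂ _ _ hW (contractible_distinguished C) k₂ 0 (by
      show (q ≫ g₂⟦(1 : ℤ)⟧') ≫ k₂⟦(1 : ℤ)⟧' = 0 ≫ 0
      rw [Category.assoc, ← Functor.map_comp, hgk, Functor.map_comp, ← Category.assoc,
        show q ≫ p⟦(1 : ℤ)⟧' = 0 from comp_distTriang_mor_zero₃₁ _ hB', zero_comp, zero_comp])
  rw [Category.comp_id] at hh₁
  obtain ⟨e, he⟩ := Triangle.yoneda_exact₂ _ hB' (φ - k ≫ h) (by
    show p ≫ (φ - k ≫ h) = 0
    rw [Preadditive.comp_sub, ← Category.assoc p k, hk₁, Category.assoc, hh₁, hgk, sub_self])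
  change φ - k ≫ h = g₁ ≫ e at he
  rw [sub_eq_iff_eq_add.1 he]
  exact Fact.add hP ⟨E₁, g₁, e, hE₁, hp₁, rfl⟩
    ⟨W, k, h, hP.ext₂ _ hW hE₂ hE₁, isPerfect_ext₂ hW hp₂ hp₁, rfl⟩

variable [CompactSpace X] [QuasiSeparatedSpace X]

include hG in
/-- Killing all maps out of the shifts of `G`. -/
lemma exists_kill (L : DCoh.D X) (hL : DCoh.IsQCohD L) :
    ∃ (J : Type u) (m : J → ℤ) (_ : HasCoproduct fun j => G⟦m j⟧) (L' : DCoh.D X)
      (y : (∐ fun j => G⟦m j⟧) ⟶ L) (f : L ⟶ L') (c : L' ⟶ (∐ fun j => G⟦m j⟧)⟦(1 : ℤ)⟧),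
      Triangle.mk y f c ∈ distTriang (DCoh.D X) ∧ DCoh.IsQCohD L' ∧
        ∀ (n : ℤ) (φ : G⟦n⟧ ⟶ L), φ ≫ f = 0 := by
  haveI : ∀ n : ℤ, Small.{u} (G⟦n⟧ ⟶ L) := fun n => small_hom _ _
  let J := Σ n : ℤ, Shrink.{u} (G⟦n⟧ ⟶ L)
  haveI : HasColimitsOfShape (Discrete J) (DCoh.D X) := TriCat.hasColimitsOfShape_derivedCategory
  let y : (∐ fun j : J => G⟦j.1⟧) ⟶ L := Sigma.desc fun j => (equivShrink _).symm j.2
  obtain ⟨L', f, c, hT⟩ := distinguished_cocone_triangle y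
  refine ⟨J, fun j => j.1, inferInstance, L', y, f, c, hT, isQCohD_obj₃ hT
    (isQCohD_sigma _ fun j => isQCohD_of_isPerfect (isPerfect_shift hG _)) hL, fun n φ => ?_⟩
  have h1 : φ = Sigma.ι (fun j : J => G⟦j.1⟧) ⟨n, equivShrink _ φ⟩ ≫ y := by simp [y]
  rw [h1, Category.assoc, show y ≫ f = 0 from comp_distTriang_mor_zero₁₂ _ hT, comp_zero]

include hG hGP in
/-- Perfect objects belong to every thick class containing the shifts of a perfect generator. -/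
theorem perfect_mem_of_generator (hP : ThickClass P)
    (hgen : ∀ L : DCoh.D X, DCoh.IsQCohD L → (∀ (n : ℤ) (φ : G⟦n⟧ ⟶ L), φ = 0) → IsZero L)
    (C : DCoh.D X) (hC : DCoh.IsPerfect C) : P C := by
  classical
  choose J m hc L' y f c hT hq hkill using fun L : {L : DCoh.D X // DCoh.IsQCohD L} =>
    exists_kill G hG L.1 L.2
  let S : ℕ → {L : DCoh.D X // DCoh.IsQCohD L} :=
    fun k => Nat.rec ⟨C, isQCohD_of_isPerfect hC⟩ (fun _ L => ⟨L' L, hq L⟩) k
  let K : ℕ → DCoh.D X := fun k => (S k).1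
  let t : ∀ k, K k ⟶ K (k + 1) := fun k => f (S k)
  let uu : ∀ k, C ⟶ K k := fun k => Nat.rec (motive := fun k => C ⟶ K k) (𝟙 C)
    (fun k g => g ≫ t k) k
  have hfact : ∀ (k : ℕ) (B : DCoh.D X) (φ : B ⟶ C), DCoh.IsPerfect B → φ ≫ uu k = 0 → Fact P φ := by
    intro k
    induction k with
    | zero =>
      intro B φ _ hφ
      rw [show φ = 0 from (Category.comp_id φ).symm.trans hφ]
      exact fact_zero G hG hGP hP B C
    | succ k ih =>
      haveI := hc (S k)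
      exact fun B φ hB hφ => fact_step G hG hGP hP (m (S k)) (hT (S k)) ih B φ hB hφ
  haveI : HasColimitsOfShape (Discrete (ULift.{u} ℕ)) (DCoh.D X) :=
    TriCat.hasColimitsOfShape_derivedCategory
  haveI : HasColimitsOfShape (Discrete ℕ) (DCoh.D X) :=
    hasColimitsOfShape_of_equivalence (Discrete.equivalence (Equiv.ulift.{u} : ULift.{u} ℕ ≃ ℕ))
  have hfix : ∀ {B : DCoh.D X}, DCoh.IsPerfect B → FixAt K B := fun hB =>
    (fixAt_of_isQCohD hB (fun j : ULift.{u} ℕ => K j.down) fun j => (S j.down).2).reindex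
      Equiv.ulift fun j => Iso.refl _
  have hfin : ∀ {B : DCoh.D X}, DCoh.IsPerfect B → ∀ g : B ⟶ ∐ K, TriCat.FinFactor g := fun hB g => by
    obtain ⟨F, hF⟩ := hfix hB g
    refine ⟨F, fun j => g ≫ sigmaProj K j, ?_⟩
    conv_lhs => rw [← hF, partProj_eq_sum, Preadditive.comp_sum]
    simp only [Category.assoc]
  obtain ⟨L, i, hL⟩ := TriCat.exists_isHocolim K t
  have hLq : DCoh.IsQCohD L := by
    obtain ⟨d, hd⟩ := hL
    have hs : DCoh.IsQCohD (∐ K) := isQCohD_of_iso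
      (Sigma.whiskerEquiv (f := fun j : ULift.{u} ℕ => K j.down) (g := K) Equiv.ulift fun j => Iso.refl _)
      (isQCohD_sigma _ fun j => (S j.down).2)
    exact isQCohD_obj₃ hd hs hs
  have hLz : IsZero L := hgen L hLq fun n φ => by
    have hp := isPerfect_shift hG n
    obtain ⟨ψ, rfl⟩ := TriCat.IsHocolim.exists_lift_of_injective hL (fun z hz => by
      let e := (shiftFunctorCompIsoId (DCoh.D X) (-1 : ℤ) 1 (by simp)).app (G⟦n⟧)
      obtain ⟨z₀, hz₀⟩ := (shiftFunctor (DCoh.D X) (1 : ℤ)).map_surjective (e.hom ≫ z)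
      have h0 : z₀ ≫ (𝟙 (∐ K) - shiftMap K t) = 0 := by
        apply (shiftFunctor (DCoh.D X) (1 : ℤ)).map_injective
        rw [Functor.map_comp, hz₀, Category.assoc, hz, comp_zero, Functor.map_zero]
      have := TriCat.eq_zero_of_finFactor_comp_one_sub_shiftMap K t
        (hfin (isPerfect_shift hp (-1)) z₀) h0
      rw [← cancel_epi e.hom, ← hz₀, this, Functor.map_zero, comp_zero]) φ
    obtain ⟨F, a, rfl⟩ := hfin hp ψ
    rw [Preadditive.sum_comp]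
    refine Finset.sum_eq_zero fun j _ => ?_
    rw [Category.assoc, Sigma.ι_desc, ← TriCat.IsHocolim.comp_i hL j, ← Category.assoc,
      show a j ≫ t j = 0 from hkill (S j) n (a j), zero_comp]
  obtain ⟨d, hd⟩ := hL
  obtain ⟨z, hz⟩ := Triangle.coyoneda_exact₂ _ hd (Sigma.ι K 0) (hLz.eq_of_tgt _ _)
  change C ⟶ ∐ K at z
  obtain ⟨F, a, hza⟩ := hfin hC z
  let N := F.sup id + 1
  let F₀ := Functor.ofSequence t
  let dN : ∐ K ⟶ K N := Sigma.desc fun j => if h : j ≤ N then F₀.map (homOfLE h) else 0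
  have hu : ∀ k, uu k = F₀.map (homOfLE (Nat.zero_le k)) := fun k => by
    induction k with
    | zero => exact (F₀.map_id 0).symm
    | succ k ih =>
      show uu k ≫ t k = _
      rw [ih, ← homOfLE_comp (Nat.zero_le k) (Nat.le_succ k), F₀.map_comp,
        Functor.ofSequence_map_homOfLE_succ]
  have hN : uu N = 0 := by
    have h0 : Sigma.ι K 0 ≫ dN = uu N := by
      rw [Sigma.ι_desc, dif_pos (Nat.zero_le N)]
      exact (hu N).symm
    rw [← h0, hz]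
    show (z ≫ (𝟙 (∐ K) - shiftMap K t)) ≫ dN = 0
    rw [hza, Preadditive.sum_comp, Preadditive.sum_comp]
    refine Finset.sum_eq_zero fun j hj => ?_
    have hj' : j + 1 ≤ N := Nat.succ_le_succ (Finset.le_sup (f := id) hj)
    rw [Category.assoc, Category.assoc, ← Category.assoc (Sigma.ι K j),
      TriCat.ι_one_sub_shiftMap, Preadditive.sub_comp, Category.assoc, Sigma.ι_desc, Sigma.ι_desc,
      dif_pos (by omega : j ≤ N), dif_pos hj', ← homOfLE_comp (Nat.le_succ j) hj', F₀.map_comp,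
      Functor.ofSequence_map_homOfLE_succ, sub_self, comp_zero]
  obtain ⟨E, g, h, hE, -, hgh⟩ := hfact N C (𝟙 C) hC ((Category.id_comp _).trans hN)
  exact hP.retract ⟨g, h, hgh⟩ hE

end

end Groth.Agent.RelPC13
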