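import Groth.Agent.KFlatLib.Perfect.Retract
import Mathlib.Algebra.Homology.DerivedCategory.TStructure

/-!
# Pseudo-coherence from terms and from cohomology sheaves
-/

set_option linter.style.haveILetI false

universe u

open CategoryTheory CategoryTheory.Limits AlgebraicGeometry CategoryTheory.Pretriangulated
open Groth.Agent.KFlatLib

attribute [local instance] HasDerivedCategory.standard

namespace Groth.Agent.RelPC13

variable {X : Scheme.{u}}

local notation "H" => DerivedCategory.homologyFunctor X.Modules

lemma locPC_single_shift {m : ℤ} {M : X.Modules} (i : ℤ) (h : LocPC (m - i) (DCoh.inD X M)) :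
    LocPC m ((DerivedCategory.singleFunctor X.Modules i).obj M) := by
  have h' := h.shift (-i)
  rw [show m - i - -i = m by omega] at h'
  exact h'.of_iso (((DerivedCategory.singleFunctors X.Modules).shiftIso (-i) i 0 (by omega)).app M)

lemma locPC_ext {m : ℤ} (T : Triangle (DCoh.D X)) (hT : T ∈ distinguishedTriangles)
    (h₁ : LocPC m T.obj₁) (h₃ : LocPC m T.obj₃) : LocPC m T.obj₂ :=
  (locPC_two_of_three m T hT).2.1 h₁ h₃

lemma isZero_HD_inD_of_isZero {M : X.Modules} (hM : IsZero M) (j : ℤ) :
    IsZero (DCoh.HD (DCoh.inD X M) j) :=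
  (H j).map_isZero ((DerivedCategory.singleFunctor X.Modules 0).map_isZero hM)

/-- Pseudo-coherence from the cohomology sheaves. -/
theorem locPC_of_homology_aux (n : ℤ) : ∀ (k : ℕ) (F : DCoh.D X),
    (∀ i : ℤ, n + k ≤ i → IsZero ((H i).obj F)) →
    (∀ i : ℤ, n ≤ i → LocPC (n - i) (DCoh.inD X ((H i).obj F))) → LocPC n F
  | 0, F, hb, _ => locPC_of_isZero n F fun i hi => hb i (by omega)
  | k + 1, F, hb, hfp => by
    obtain ⟨A, B, hA, hB, f, g, d, hT⟩ :=
      Triangulated.TStructure.exists_triangle (t := DerivedCategory.TStructure.t) F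
        (n + k - 1) (n + k) (by omega)
    haveI : A.IsLE (n + k - 1) := ⟨hA⟩
    haveI : B.IsGE (n + k) := ⟨hB⟩
    have hz : ∀ i, n + k ≤ i → IsZero ((H i).obj A) :=
      fun i hi => DerivedCategory.isZero_of_isLE A (n + k - 1) i (by omega)
    have hgiso : ∀ i, n + k ≤ i → IsIso ((H i).map g) := fun i hi => by
      haveI : Mono ((H i).map g) :=
        (DerivedCategory.HomologySequence.mono_homologyMap_mor₂_iff _ hT i).mpr
          ((hz i hi).eq_of_src _ _)
      haveI : Epi ((H i).map g) :=
        (DerivedCategory.HomologySequence.epi_homologyMap_mor₂_iff _ hT i (i + 1) rfl).mpr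
          ((hz (i + 1) (by omega)).eq_of_tgt _ _)
      exact isIso_of_mono_of_epi _
    haveI : B.IsLE (n + k) := (DerivedCategory.isLE_iff _ _).mpr fun i hi => by
      haveI := hgiso i hi.le
      exact (hb i (by omega)).of_iso (asIso ((H i).map g)).symm
    obtain ⟨Y, ⟨eY⟩⟩ := DerivedCategory.exists_iso_singleFunctor_obj_of_isGE_of_isLE B (n + k)
    haveI := hgiso (n + k) le_rfl
    have eH : (H (n + k)).obj F ≅ Y := asIso ((H (n + k)).map g) ≪≫ (H (n + k)).mapIso eY ≪≫
      (DerivedCategory.singleFunctorCompHomologyFunctorIso X.Modules (n + k)).app Y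
    have hBpc : LocPC n B := LocPC.of_iso eY.symm (locPC_single_shift (n + k)
      (LocPC.of_iso ((DerivedCategory.singleFunctor X.Modules 0).mapIso eH)
        (hfp (n + k) (by omega))))
    refine locPC_ext _ hT (locPC_of_homology_aux n k A hz fun i hi => ?_) hBpc
    by_cases hik : n + k ≤ i
    · exact locPC_of_isZero _ _ fun j _ => isZero_HD_inD_of_isZero (hz i hik) j
    · haveI : Epi ((H i).map f) :=
        (DerivedCategory.HomologySequence.epi_homologyMap_mor₁_iff _ hT i).mpr
          ((DerivedCategory.isZero_of_isGE B (n + k) i (by omega)).eq_of_tgt _ _)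
      haveI : Mono ((H i).map f) :=
        (DerivedCategory.HomologySequence.mono_homologyMap_mor₁_iff _ hT (i - 1) i (by omega)).mpr
          ((DerivedCategory.isZero_of_isGE B (n + k) (i - 1) (by omega)).eq_of_src _ _)
      haveI := isIso_of_mono_of_epi ((H i).map f)
      exact LocPC.of_iso
        ((DerivedCategory.singleFunctor X.Modules 0).mapIso (asIso ((H i).map f)).symm) (hfp i hi)

/-- Pseudo-coherence from the cohomology sheaves. -/
theorem locPC_of_homology (n b : ℤ) (F : DCoh.D X) (hb : ∀ i : ℤ, b < i → IsZero (DCoh.HD F i))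
    (hfp : ∀ i : ℤ, n ≤ i → LocPC (n - i) (DCoh.inD X (DCoh.HD F i))) : LocPC n F :=
  locPC_of_homology_aux n (b + 1 - n).toNat F (fun i hi => hb i (by omega)) hfp

/-- Pseudo-coherence from the terms. -/
theorem locPC_of_terms_aux (n : ℤ) : ∀ (k : ℕ) (F : CochainComplex X.Modules ℤ),
    (∀ i : ℤ, n + k ≤ i → IsZero (F.X i)) →
    (∀ i : ℤ, n ≤ i → LocPC (n - i) (DCoh.inD X (F.X i))) → LocPC n (DerivedCategory.Q.obj F)
  | 0, F, hb, _ => locPC_of_isZero n _ fun i hi =>
      (ShortComplex.isZero_homology_of_isZero_X₂ _ (hb i (by omega))).of_iso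
        ((DerivedCategory.homologyFunctorFactors X.Modules i).app F)
  | k + 1, F, hb, hfp => by
    let b := n + (k : ℤ)
    let S := (HomologicalComplex.single X.Modules (ComplexShape.up ℤ) b).obj (F.X b)
    let s : S ⟶ F := HomologicalComplex.mkHomFromSingle (𝟙 (F.X b)) fun i hi => by
      have hi' : b + 1 = i := hi
      exact (hb i (by omega)).eq_of_tgt _ _
    haveI hsm : ∀ i, Mono (s.f i) := fun i => by
      by_cases hi : i = b
      · subst hi
        simp only [s, HomologicalComplex.mkHomFromSingle_f]
        infer_instance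
      · exact ⟨fun u v _ => (HomologicalComplex.isZero_single_obj_X (ComplexShape.up ℤ) b (F.X b) i hi).eq_of_tgt u v⟩
    haveI : Mono s := HomologicalComplex.mono_of_mono_f s hsm
    let T := ShortComplex.mk s (cokernel.π s) (cokernel.condition s)
    have hT : T.ShortExact := { exact := ShortComplex.exact_of_g_is_cokernel _ (cokernelIsCokernel s) }
    have heq : ∀ i, ((T.map (HomologicalComplex.eval X.Modules (ComplexShape.up ℤ) i))).ShortExact :=
      fun i => hT.map_of_exact (HomologicalComplex.eval X.Modules (ComplexShape.up ℤ) i)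
    have hq : ∀ i, i ≠ b → IsIso ((cokernel.π s).f i) := fun i hi =>
      (heq i).isIso_g_iff.mpr (HomologicalComplex.isZero_single_obj_X (ComplexShape.up ℤ) b (F.X b) i hi)
    have hqb : IsZero ((cokernel s).X b) := by
      have he : IsIso (s.f b) := by
        simp only [s, HomologicalComplex.mkHomFromSingle_f]
        infer_instance
      exact (heq b).isIso_f_iff.mp he
    refine locPC_ext _ (DerivedCategory.triangleOfSES_distinguished hT)
      ((locPC_single_shift b (hfp b (by omega))).of_iso
        ((DerivedCategory.singleFunctorIsoCompQ X.Modules b).app _))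
      (locPC_of_terms_aux n k (cokernel s) (fun i hi => ?_) fun i hi => ?_)
    · by_cases hib : i = b
      · exact hib ▸ hqb
      · haveI := hq i hib
        exact (hb i (by omega)).of_iso (asIso ((cokernel.π s).f i)).symm
    · by_cases hib : i = b
      · subst hib
        exact locPC_of_isZero _ _ fun j _ => isZero_HD_inD_of_isZero hqb j
      · haveI := hq i hib
        exact LocPC.of_iso
          ((DerivedCategory.singleFunctor X.Modules 0).mapIso (asIso ((cokernel.π s).f i))) (hfp i hi)

/-- Pseudo-coherence from the terms. -/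
theorem locPC_of_terms (n b : ℤ) (F : CochainComplex X.Modules ℤ)
    (hb : ∀ i : ℤ, b < i → IsZero (F.X i))
    (hfp : ∀ i : ℤ, n ≤ i → LocPC (n - i) (DCoh.inD X (F.X i))) :
    LocPC n (DerivedCategory.Q.obj F) :=
  locPC_of_terms_aux n (b + 1 - n).toNat F (fun i hi => hb i (by omega)) hfp

/-- A pseudo-coherence map out of a pseudo-coherent object. -/
theorem locPC_of_isPcMap {m : ℤ} {A B : DCoh.D X} (α : A ⟶ B) (hA : LocPC m A)
    (hα : IsPcMap m α) : LocPC m B := by
  obtain ⟨C, g, δ, hT⟩ := Pretriangulated.distinguished_cocone_triangle α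
  refine locPC_ext _ hT hA (locPC_of_isZero m C fun i hi => ?_)
  haveI : Epi ((H i).map α) := (hα.mono hi).2
  haveI : IsIso ((H (i + 1)).map α) := hα.1 (i + 1) (by omega)
  have e1 : (H i).map g = 0 :=
    (DerivedCategory.HomologySequence.epi_homologyMap_mor₁_iff _ hT i).1 (inferInstance : Epi ((H i).map α))
  have e2 : DerivedCategory.HomologySequence.δ (Triangle.mk α g δ) i (i + 1) rfl = 0 :=
    (DerivedCategory.HomologySequence.mono_homologyMap_mor₁_iff _ hT i (i + 1) rfl).1
      (inferInstance : Mono ((H (i + 1)).map α))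
  exact (DerivedCategory.HomologySequence.exact₃ _ hT i (i + 1) rfl).isZero_of_both_zeros e1 e2

end Groth.Agent.RelPC13
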