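import Groth.Agent.RelPC13.Push
import Groth.Agent.RelPC13.Devissage

/-!
# Transfer of pseudo-coherence along pushforwards

If `f` is a closed embedding on spaces and the pushforward of the structure sheaf is pseudo-coherent,
then `E` is `m`-pseudo-coherent if and only if `f_* E` is, for every `E` in `D(O_X)`.
-/

set_option linter.style.haveILetI false
set_option backward.isDefEq.respectTransparency false
set_option backward.isDefEq.respectTransparency.types false

universe u

open CategoryTheory CategoryTheory.Limits AlgebraicGeometry TopologicalSpace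
open CategoryTheory.Pretriangulated Groth.Agent.KFlatLib

attribute [local instance] HasDerivedCategory.standard

namespace Groth.Agent.RelPC13

variable {X Y : Scheme.{u}}

/-- The pushforwards of the free modules of finite rank are pseudo-coherent. -/
def PCPush (f : X ⟶ Y) [IsClEmb f] : Prop :=
  ∀ (n : ℕ) (m : ℤ), LocPC m ((pD f).obj (DCoh.inD X (FlatMod.freeMod X n)))

/-- Restriction of a free module. -/
noncomputable def rhoFreeIso {U : Scheme.{u}} (j : U ⟶ X) [IsOpenImmersion j] (n : ℕ) :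
    (rho j).obj (DCoh.inD X (FlatMod.freeMod X n)) ≅ DCoh.inD U (FlatMod.freeMod U n) :=
  ((Scheme.Modules.restrictFunctor j).mapDerivedCategorySingleFunctor 0).app _ ≪≫
    (DerivedCategory.singleFunctor U.Modules 0).mapIso
      ((Scheme.Modules.restrictFunctorIsoPullback j).app _ ≪≫ pullFreeIso j n)

variable (f : X ⟶ Y) [IsClEmb f]

lemma PCPush.restrict {f : X ⟶ Y} [IsClEmb f] (h : PCPush f) (V : Y.Opens) :
    PCPush (f ∣_ V) := fun n m =>
  (((h n m).restrict V.ι).of_iso (pDRho f V _)).of_iso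
    ((pD (f ∣_ V)).mapIso (rhoFreeIso (f ⁻¹ᵁ V).ι n))

lemma exists_preimage_eq (U : X.Opens) : ∃ V : Y.Opens, f ⁻¹ᵁ V = U := by
  obtain ⟨O, hO, hO'⟩ := ((IsClEmb.emb (f := f)).isInducing.isOpen_iff).1 U.2
  exact ⟨⟨O, hO⟩, Opens.ext hO'⟩

lemma isZero_modules_of_isEmpty [IsEmpty X] (M : X.Modules) : IsZero M :=
  isZero_of_stalk M fun x => isEmptyElim x

/-- Away from the image, pushforwards vanish. -/
lemma locPC_push_of_image {m : ℤ} {E : DCoh.D X}
    (h : ∀ x : X, ∃ V : Y.Opens, f.base x ∈ V ∧ LocPC m ((rho V.ι).obj ((pD f).obj E))) :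
    LocPC m ((pD f).obj E) := LocPC.of_local fun y => by
  by_cases hy : y ∈ Set.range f.base
  · obtain ⟨x, rfl⟩ := hy
    obtain ⟨V, hV, h'⟩ := h x
    exact ⟨_, V.ι, inferInstance, ⟨⟨_, hV⟩, rfl⟩, h'⟩
  · let V : Y.Opens := ⟨(Set.range f.base)ᶜ, (IsClEmb.emb (f := f)).isClosed_range.isOpen_compl⟩
    refine ⟨_, V.ι, inferInstance, ⟨⟨y, hy⟩, rfl⟩, ?_⟩
    haveI : IsEmpty (f ⁻¹ᵁ V : Scheme.{u}) := ⟨fun z => z.2 ⟨z.1, rfl⟩⟩
    exact LocPC.of_iso (pDRho f V E).symm (locPC_of_isZero m _ fun i _ =>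
      ((Scheme.Modules.pushforward (f ∣_ V)).map_isZero
        (isZero_modules_of_isEmpty _)).of_iso (hdPDIso (f ∣_ V) _ i))

variable {f}

lemma PCPush.locPC_push_locFree (h : PCPush f) {A : X.Modules} (hA : FlatMod.IsFinLocFree A)
    (m : ℤ) : LocPC m ((pD f).obj (DCoh.inD X A)) := locPC_push_of_image f fun x => by
  obtain ⟨U, n, hx, ⟨e⟩⟩ := hA x
  obtain ⟨V, rfl⟩ := exists_preimage_eq f U
  exact ⟨V, hx, LocPC.of_iso (pDRho f V _).symm (((h.restrict V) n m).of_iso ((pD (f ∣_ V)).mapIso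
    (((Scheme.Modules.restrictFunctor (f ⁻¹ᵁ V).ι).mapDerivedCategorySingleFunctor 0).app A ≪≫
      (DerivedCategory.singleFunctor _ 0).mapIso e).symm))⟩

lemma PCPush.locPC_push_strictlyPerfect (h : PCPush f) {P : CochainComplex X.Modules ℤ}
    (hP : DCoh.IsStrictlyPerfect P) (m : ℤ) :
    LocPC m ((pD f).obj (DerivedCategory.Q.obj P)) := by
  obtain ⟨⟨a, b, hab⟩, hf⟩ := hP
  refine LocPC.of_iso (pDQ f P).symm (locPC_of_terms m b _
    (fun i hi => (Scheme.Modules.pushforward f).map_isZero (hab i (Or.inr hi))) fun i _ => ?_)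
  exact (h.locPC_push_locFree (hf i) _).of_iso (pDSingle f _)

/-- Pushforward preserves pseudo-coherence. -/
theorem PCPush.locPC_push (h : PCPush f) {m : ℤ} {E : DCoh.D X} (hE : LocPC m E) :
    LocPC m ((pD f).obj E) := locPC_push_of_image f fun x => by
  obtain ⟨U, j, _, hx, P, α, hP, hα⟩ := hE x
  obtain ⟨V, hV⟩ := exists_preimage_eq f j.opensRange
  have hr : Set.range (f ⁻¹ᵁ V).ι.base ⊆ Set.range j.base := by
    rw [hV]; simp
  let i := IsOpenImmersion.lift j (f ⁻¹ᵁ V).ι hr
  have hi : i ≫ j = (f ⁻¹ᵁ V).ι := IsOpenImmersion.lift_fac _ _ _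
  haveI : IsOpenImmersion (i ≫ j) := by rw [hi]; infer_instance
  haveI : IsOpenImmersion i := IsOpenImmersion.of_comp i j
  refine ⟨V, ?_, LocPC.of_iso (pDRho f V E).symm ?_⟩
  · have : x ∈ f ⁻¹ᵁ V := by rw [hV]; exact hx
    exact this
  · exact locPC_of_isPcMap
      ((pD (f ∣_ V)).map (((rhoQ i).app P).inv ≫ (rho i).map α ≫ (rhoComp i j _ hi E).hom))
      ((h.restrict V).locPC_push_strictlyPerfect (isStrictlyPerfect_restrict i hP) m)
      (((hα.map_exact _).comp_iso _ _).map_exact _)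

lemma eq_zero_of_push {M N : X.Modules} (g : M ⟶ N)
    (hg : (Scheme.Modules.pushforward f).map g = 0) : g = 0 := by
  let F := Scheme.Modules.pushforward f
  haveI : IsIso (kernel.ι g) := by
    let S := ShortComplex.mk (kernel.ι g) g (kernel.condition g)
    have hS : S.Exact := ShortComplex.exact_of_f_is_kernel S (kernelIsKernel g)
    haveI : Epi (F.map (kernel.ι g)) := ((S.map F).exact_iff_epi hg).1 (hS.map F)
    haveI : Epi (kernel.ι g) := by
      refine Preadditive.epi_of_isZero_cokernel _ (isZero_of_push f ?_)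
      exact (isZero_cokernel_of_epi (F.map (kernel.ι g))).of_iso (PreservesCokernel.iso F _)
    exact isIso_of_mono_of_epi _
  exact (cancel_epi (kernel.ι g)).1 ((kernel.condition g).trans comp_zero.symm)

variable (f) in
lemma faithful_push : (Scheme.Modules.pushforward f).Faithful :=
  ⟨fun {M N g g'} hgg' => sub_eq_zero.1
    (eq_zero_of_push (f := f) (g - g') (by rw [Functor.map_sub, hgg', sub_self]))⟩

lemma isFT_iso {X : Scheme.{u}} {M N : X.Modules} (e : M ≅ N) (h : CohB1.IsFT M) : CohB1.IsFT N :=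
  isFT_of_epi_free fun x => by
    obtain ⟨W, n, p, hx, hp⟩ := exists_epi_free_of_isFT h x
    exact ⟨W, n, p ≫ ((Scheme.Modules.restrictFunctor W.ι).mapIso e).hom, hx,
      epi_comp' hp inferInstance⟩

variable (f) in
/-- Finite type is detected after pushforward. -/
lemma isFT_of_push {H : X.Modules} (hH : CohB1.IsFT ((Scheme.Modules.pushforward f).obj H)) :
    CohB1.IsFT H := isFT_of_epi_free fun x => by
  obtain ⟨V, n, p, hx, hp⟩ := exists_epi_free_of_isFT hH (f.base x)
  let f' := f ∣_ V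
  haveI := faithful_push f'
  let H' := H.restrict (f ⁻¹ᵁ V).ι
  let adj := Scheme.Modules.pullbackPushforwardAdjunction f'
  let p' : FlatMod.freeMod (V : Scheme.{u}) n ⟶ (Scheme.Modules.pushforward f').obj H' :=
    p ≫ (pushRestrictIso f V).hom.app H
  haveI : Epi p' := epi_comp' hp inferInstance
  haveI : Epi (adj.counit.app H') := inferInstance
  exact ⟨f ⁻¹ᵁ V, n, (pullFreeIso f' n).inv ≫ (Scheme.Modules.pullback f').map p' ≫
    adj.counit.app H', hx, epi_comp' inferInstance (epi_comp' inferInstance inferInstance)⟩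

/-- A map onto the top cohomology sheaf lifts locally to a map out of a free module. -/
lemma exists_top_lift {b : ℤ} {E : DCoh.D X} [E.IsLE b] {n : ℕ}
    (q : FlatMod.freeMod X n ⟶ DCoh.HD E b) [Epi q] (x : X) :
    ∃ (W : X.Opens) (γ : (DerivedCategory.singleFunctor (W : Scheme.{u}).Modules b).obj
        (FlatMod.freeMod (W : Scheme.{u}) n) ⟶ (rho W.ι).obj E), x ∈ W ∧
      Epi ((DerivedCategory.homologyFunctor (W : Scheme.{u}).Modules b).map γ) := by
  obtain ⟨K, hK, ⟨e⟩⟩ := E.exists_iso_Q_obj_of_isLE b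
  haveI : IsIso (K.homologyι b) :=
    K.isIso_homologyι b (b + 1) (by simp)
      ((K.isZero_of_isStrictlyLE b (b + 1) (by omega)).eq_of_tgt _ _)
  let g : FlatMod.freeMod X n ⟶ K.opcycles b :=
    q ≫ ((DerivedCategory.homologyFunctor X.Modules b).mapIso e ≪≫
      (DerivedCategory.homologyFunctorFactors X.Modules b).app K).hom ≫ K.homologyι b
  haveI : Epi g := epi_comp' inferInstance (epi_comp' inferInstance inferInstance)
  obtain ⟨W, h, hx, hh⟩ := exists_lift_free (K.pOpcycles b) g x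
  let R := Scheme.Modules.restrictFunctor W.ι
  let K' := (rCx W.ι).obj K
  let ef : (FlatMod.freeMod X n).restrict W.ι ≅ FlatMod.freeMod (W : Scheme.{u}) n :=
    (Scheme.Modules.restrictFunctorIsoPullback W.ι).app _ ≪≫ pullFreeIso W.ι n
  let S := (HomologicalComplex.single (W : Scheme.{u}).Modules (ComplexShape.up ℤ) b).obj
    (FlatMod.freeMod (W : Scheme.{u}) n)
  let s : S ⟶ K' := HomologicalComplex.mkHomFromSingle (ef.inv ≫ h) fun i hi =>
    (R.map_isZero (K.isZero_of_isStrictlyLE b i (by simp at hi; omega))).eq_of_tgt _ _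
  have hc : IsColimit ((CokernelCofork.ofπ (K.pOpcycles b) (K.d_pOpcycles (b - 1) b)).map R) :=
    CokernelCofork.mapIsColimit _ (K.opcyclesIsCokernel (b - 1) b (by simp)) R
  obtain ⟨φ, hφ⟩ := CokernelCofork.IsColimit.desc' hc (K'.pOpcycles b) (K'.d_pOpcycles (b - 1) b)
  have hφ' : R.map (K.pOpcycles b) ≫ φ = K'.pOpcycles b := hφ
  haveI : Epi φ := epi_of_epi_fac hφ'
  haveI : Epi (h ≫ R.map (K.pOpcycles b)) := by rw [hh]; infer_instance
  haveI : Epi (s.f b ≫ K'.pOpcycles b) := by
    rw [← hφ']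
    simp only [s, HomologicalComplex.mkHomFromSingle_f, Category.assoc]
    exact epi_comp' inferInstance (epi_comp' inferInstance (by
      rw [← Category.assoc]
      exact epi_comp' inferInstance inferInstance))
  haveI : Epi (HomologicalComplex.opcyclesMap s b) :=
    epi_of_epi_fac (HomologicalComplex.p_opcyclesMap s b)
  haveI : IsIso (S.homologyι b) := S.isIso_homologyι b (b + 1) (by simp)
    ((HomologicalComplex.isZero_single_obj_X (ComplexShape.up ℤ) b _ (b + 1) (by omega)).eq_of_tgt _ _)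
  haveI : IsIso (K'.homologyι b) := K'.isIso_homologyι b (b + 1) (by simp)
    ((R.map_isZero (K.isZero_of_isStrictlyLE b (b + 1) (by omega))).eq_of_tgt _ _)
  have hs : Epi (HomologicalComplex.homologyMap s b) := by
    have : HomologicalComplex.homologyMap s b =
        S.homologyι b ≫ HomologicalComplex.opcyclesMap s b ≫ inv (K'.homologyι b) := by
      rw [← HomologicalComplex.homologyι_naturality_assoc, IsIso.hom_inv_id, Category.comp_id]
    rw [this]
    exact epi_comp' inferInstance (epi_comp' inferInstance inferInstance)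
  refine ⟨W, ((DerivedCategory.singleFunctorIsoCompQ (W : Scheme.{u}).Modules b).app _).hom ≫
    DerivedCategory.Q.map s ≫ (((rhoQ W.ι).app K).inv ≫ (rho W.ι).map e.inv), hx, ?_⟩
  exact ((isPcMap_of_homologyMap b s (fun i hi => by
    have h1 : IsZero (S.homology i) := ShortComplex.isZero_homology_of_isZero_X₂ _
      (HomologicalComplex.isZero_single_obj_X (ComplexShape.up ℤ) b _ i (by omega))
    have h2 : IsZero (K'.homology i) := ShortComplex.isZero_homology_of_isZero_X₂ _
      (R.map_isZero (K.isZero_of_isStrictlyLE b i (by omega)))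
    exact ⟨0, h1.eq_of_src _ _, h2.eq_of_src _ _⟩) hs).comp_iso
      ((DerivedCategory.singleFunctorIsoCompQ (W : Scheme.{u}).Modules b).app _).hom _).2

lemma PCPush.locPC_of_push_aux (m : ℤ) (k : ℕ) : ∀ {X Y : Scheme.{u}} (f : X ⟶ Y) [IsClEmb f],
    PCPush f → ∀ E : DCoh.D X, (∀ i, m + k ≤ i → IsZero (DCoh.HD E i)) →
      LocPC m ((pD f).obj E) → LocPC m E := by
  induction k with
  | zero => exact fun f _ _ E hE _ => locPC_of_isZero m E fun i hi => hE i (by simpa using hi)
  | succ k ih =>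
    intro X Y f _ hf E hE hpc
    refine LocPC.of_local fun x => ?_
    have hft : CohB1.IsFT (DCoh.HD E (m + k)) := by
      refine isFT_of_push f (isFT_iso (hdPDIso f E (m + k))
        (isFT_top (hpc.mono (by omega)) fun i hi => ?_))
      exact ((Scheme.Modules.pushforward f).map_isZero (hE i (by push_cast; omega))).of_iso
        (hdPDIso f E i)
    obtain ⟨W, n, q, hxW, hq⟩ := exists_epi_free_of_isFT hft x
    let E' := (rho W.ι).obj E
    haveI : E'.IsLE (m + k) := (DerivedCategory.isLE_iff _ _).2 fun i hi =>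
      ((Scheme.Modules.restrictFunctor W.ι).map_isZero (hE i (by push_cast; omega))).of_iso
        (hdRhoIso W.ι E i)
    let q' : FlatMod.freeMod (W : Scheme.{u}) n ⟶ DCoh.HD E' (m + k) :=
      q ≫ (hdRhoIso W.ι E (m + k)).inv
    haveI : Epi q' := epi_comp' hq inferInstance
    obtain ⟨W₁, γ, hx₁, hγ⟩ := exists_top_lift q' ⟨x, hxW⟩
    obtain ⟨V, hV⟩ := exists_preimage_eq f (W.ι ''ᵁ W₁)
    let j := W₁.ι ≫ W.ι
    have hr : Set.range (f ⁻¹ᵁ V).ι.base ⊆ Set.range j.base := by
      rw [hV]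
      rintro _ ⟨⟨_, y, hy, rfl⟩, rfl⟩
      exact ⟨⟨y, hy⟩, rfl⟩
    let i := IsOpenImmersion.lift j (f ⁻¹ᵁ V).ι hr
    have hi : i ≫ j = (f ⁻¹ᵁ V).ι := IsOpenImmersion.lift_fac _ _ _
    haveI : IsOpenImmersion (i ≫ j) := by rw [hi]; infer_instance
    haveI : IsOpenImmersion i := IsOpenImmersion.of_comp i j
    refine ⟨_, (f ⁻¹ᵁ V).ι, inferInstance, ⟨⟨x, ?_⟩, rfl⟩, ?_⟩
    · rw [hV]
      exact ⟨⟨x, hxW⟩, hx₁, rfl⟩
    let G := (rho (f ⁻¹ᵁ V).ι).obj E
    let S := (DerivedCategory.singleFunctor (f ⁻¹ᵁ V : Scheme.{u}).Modules (m + k)).obj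
      (FlatMod.freeMod (f ⁻¹ᵁ V : Scheme.{u}) n)
    let eS : (rho i).obj ((DerivedCategory.singleFunctor (W₁ : Scheme.{u}).Modules (m + k)).obj
        (FlatMod.freeMod (W₁ : Scheme.{u}) n)) ≅ S :=
      ((Scheme.Modules.restrictFunctor i).mapDerivedCategorySingleFunctor (m + k)).app _ ≪≫
        (DerivedCategory.singleFunctor _ (m + k)).mapIso
          ((Scheme.Modules.restrictFunctorIsoPullback i).app _ ≪≫ pullFreeIso i n)
    let eG : (rho i).obj ((rho W₁.ι).obj E') ≅ G :=
      (rho i).mapIso (rhoComp W₁.ι W.ι j rfl E) ≪≫ rhoComp i j _ hi E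
    let β : S ⟶ G := eS.inv ≫ (rho i).map γ ≫ eG.hom
    have hβ : Epi ((DerivedCategory.homologyFunctor _ (m + k)).map β) := by
      haveI : Epi ((DerivedCategory.homologyFunctor _ (m + k)).map ((rho i).map γ)) :=
        by
          haveI := hγ
          change Epi (((rho i) ⋙ DerivedCategory.homologyFunctor _ (m + k)).map γ)
          rw [← NatIso.naturality_2 (mapDCHomologyIso (Scheme.Modules.restrictFunctor i) (m + k)) γ]
          haveI : Epi ((DerivedCategory.homologyFunctor _ (m + k) ⋙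
            Scheme.Modules.restrictFunctor i).map γ) :=
            (Scheme.Modules.restrictFunctor i).map_epi _
          exact epi_comp' inferInstance (epi_comp' inferInstance inferInstance)
      simp only [β, Functor.map_comp]
      exact epi_comp' inferInstance (epi_comp' inferInstance inferInstance)
    have hG : ∀ d, m + k < d → IsZero (DCoh.HD G d) := fun d hd =>
      ((Scheme.Modules.restrictFunctor _).map_isZero (hE d (by push_cast; omega))).of_iso
        (hdRhoIso _ E d)
    have hf' := hf.restrict V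
    have hSfree : LocSP (DerivedCategory.Q.obj
        ((HomologicalComplex.single (f ⁻¹ᵁ V : Scheme.{u}).Modules (ComplexShape.up ℤ) 0).obj
          (FlatMod.freeMod (f ⁻¹ᵁ V : Scheme.{u}) n))) :=
      (isPerfect_iff _).1 (isPerfect_of_rep (Iso.refl _) fun _ =>
        ⟨⊤, trivial, _, isStrictlyPerfect_restrict _ (isStrictlyPerfect_single n), ⟨Iso.refl _⟩⟩)
    have hS : ∀ l : ℤ, LocPC l S := fun l => locPC_single_shift (m + k)
      ((hSfree.locPC _).of_iso ((DerivedCategory.singleFunctorIsoCompQ _ 0).app _).symm)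
    obtain ⟨C, g, δ, hT⟩ := Pretriangulated.distinguished_cocone_triangle β
    have hC : ∀ d, m + k ≤ d → IsZero (DCoh.HD C d) := fun d hd => by
      have hSd : IsZero (DCoh.HD S (d + 1)) :=
        DerivedCategory.isZero_of_isLE _ (m + k) (d + 1) (by omega)
      refine (DerivedCategory.HomologySequence.exact₃ _ hT d (d + 1) rfl).isZero_of_both_zeros ?_
        (hSd.eq_of_tgt _ _)
      rcases eq_or_lt_of_le hd with rfl | hd'
      · exact (DerivedCategory.HomologySequence.epi_homologyMap_mor₁_iff _ hT (m + k)).1 hβ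
      · exact (hG d hd').eq_of_src _ _
    have hpC : LocPC m ((pD (f ∣_ V)).obj C) :=
      (locPC_two_of_three m _ ((pD (f ∣_ V)).map_distinguished _ hT)).1
        (hf'.locPC_push (hS (m + 1))) ((hpc.restrict V.ι).of_iso (pDRho f V E))
    exact locPC_ext _ hT (hS m) (ih (f ∣_ V) hf' C hC hpC)

/-- Pseudo-coherence is detected after pushforward. -/
theorem PCPush.locPC_of_push (h : PCPush f) {m : ℤ} {E : DCoh.D X}
    (hE : LocPC m ((pD f).obj E)) : LocPC m E := LocPC.of_local fun x => by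
  obtain ⟨U, j, _, ⟨u', hu⟩, P, α, hP, hα⟩ := hE (f.base x)
  obtain ⟨a, b, hab⟩ := hP.1
  let V := j.opensRange
  refine ⟨_, (f ⁻¹ᵁ V).ι, inferInstance, ⟨⟨x, ⟨u', hu⟩⟩, rfl⟩, ?_⟩
  refine PCPush.locPC_of_push_aux m (max b m + 1 - m).toNat (f ∣_ V) (h.restrict V) _
    (fun i hi => isZero_of_push (f ∣_ V) ?_) ((hE.restrict V.ι).of_iso (pDRho f V E))
  haveI := hα.1 i (by omega)
  have hz : IsZero (DCoh.HD ((rho j).obj ((pD f).obj E)) i) :=
    ((ShortComplex.isZero_homology_of_isZero_X₂ _ (hab i (Or.inr (by omega)))).of_iso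
      ((DerivedCategory.homologyFunctorFactors U.Modules i).app P)).of_iso
        (asIso ((DerivedCategory.homologyFunctor U.Modules i).map α)).symm
  refine IsZero.of_iso ?_ ((hdPDIso (f ∣_ V) _ i).symm ≪≫
    (DerivedCategory.homologyFunctor _ i).mapIso ((pDRho f V E).symm ≪≫
      (rhoComp (rangeHom j) j _ (rangeHom_fac j) _).symm) ≪≫ hdRhoIso (rangeHom j) _ i)
  exact (Scheme.Modules.restrictFunctor _).map_isZero hz

/-- The transfer theorem. -/
theorem PCPush.locPC_iff (h : PCPush f) {m : ℤ} (E : DCoh.D X) :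
    LocPC m ((pD f).obj E) ↔ LocPC m E :=
  ⟨h.locPC_of_push, h.locPC_push⟩

end Groth.Agent.RelPC13
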