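import Groth.Agent.RelPC13.Closure
import Groth.Agent.PerfMor.FlatPC

/-!
# Relative pseudo-coherence over a flat finitely presented base
-/

set_option linter.style.haveILetI false
set_option backward.isDefEq.respectTransparency false

universe u

open CategoryTheory CategoryTheory.Limits AlgebraicGeometry TopologicalSpace Opposite MvPolynomial
open Groth.Agent.KFlatLib Groth.Agent.H9Misc.DRingRelPC

attribute [local instance] HasDerivedCategory.standard

namespace Groth.Agent.RelPC13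

variable {X P S : Scheme.{u}}

/-- Charts of flat morphisms locally of finite presentation are pseudo-coherent. -/
theorem pcHom_chart_of_flat (g : P ⟶ S) [Flat g] [LocallyOfFinitePresentation g]
    {W : P.Opens} (hW : IsAffineOpen W) {V : S.Opens} (hV : IsAffineOpen V) {h : W ≤ g ⁻¹ᵁ V}
    {n : ℕ} {φ : MvPolynomial (Fin n) Γ(S, V) →+* Γ(P, W)} (hφ : DerSch.IsChart g W V h φ) :
    PCHom φ := by
  have h1 : (g.appLE V W h).hom.Flat := g.flat_appLE hV hW h
  have h2 : (g.appLE V W h).hom.FinitePresentation := g.finitePresentation_appLE hV hW h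
  letI := (g.appLE V W h).hom.toAlgebra
  haveI : Module.Flat Γ(S, V) Γ(P, W) := h1
  haveI : Algebra.FinitePresentation Γ(S, V) Γ(P, W) := h2
  exact (PerfMor.q_of_flat_fp Γ(S, V) Γ(P, W)).pcHom φ hφ.1 hφ.2

/-- The closed embedding given by such a chart is a transfer morphism. -/
theorem pcPush_imm_of_flat (g : P ⟶ S) [Flat g] [LocallyOfFinitePresentation g]
    {W : P.Opens} (hW : IsAffineOpen W) {V : S.Opens} (hV : IsAffineOpen V) {h : W ≤ g ⁻¹ᵁ V}
    {n : ℕ} {φ : MvPolynomial (Fin n) Γ(S, V) →+* Γ(P, W)} (hφ : DerSch.IsChart g W V h φ)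
    [IsClEmb (imm W φ)] : PCPush (imm W φ) := by
  haveI : IsIso W.toSpecΓ := inferInstanceAs (IsIso hW.isoSpec.hom)
  haveI : IsClosedImmersion (Spec.map (CommRingCat.ofHom φ)) :=
    IsClosedImmersion.spec_of_surjective _ hφ.1
  exact PCPush.comp rfl (pcPush_of_isIso W.toSpecΓ)
    (pcPush_spec (CommRingCat.ofHom φ) (pcHom_chart_of_flat g hW hV hφ))

variable (i : X ⟶ P) [IsClosedImmersion i]

set_option linter.unusedSectionVars false

/-- The chart induced on a closed subscheme. -/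
theorem isChart_comp_closedImm {g : P ⟶ S} {W : P.Opens} (hW : IsAffineOpen W) {V : S.Opens}
    {h : W ≤ g ⁻¹ᵁ V} {n : ℕ} {φ : MvPolynomial (Fin n) Γ(S, V) →+* Γ(P, W)}
    (hφ : DerSch.IsChart g W V h φ) (h' : i ⁻¹ᵁ W ≤ (i ≫ g) ⁻¹ᵁ V) :
    DerSch.IsChart (i ≫ g) (i ⁻¹ᵁ W) V h' ((i.app W).hom.comp φ) := by
  refine ⟨(i.app_surjective W hW).comp hφ.1, ?_⟩
  rw [RingHom.comp_assoc, hφ.2, ← CommRingCat.hom_comp, Scheme.Hom.app_eq_appLE,
    Scheme.Hom.appLE_comp_appLE]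

lemma imm_comp_closedImm {W : P.Opens} {Q : Type u} [CommRing Q] (φ : Q →+* Γ(P, W)) :
    (i ∣_ W) ≫ imm W φ = imm (i ⁻¹ᵁ W) ((i.app W).hom.comp φ) := by
  simp only [imm, ← Scheme.Opens.toSpecΓ_naturality_assoc, ← Spec.map_comp]
  rfl

/-- Charts of `P` test pseudo-coherence of the direct image. -/
theorem spc_comp_closedImm_iff (g : P ⟶ S) [Flat g] [LocallyOfFinitePresentation g] {m : ℤ}
    (E : DCoh.D X) {W : P.Opens} (hW : IsAffineOpen W) {V : S.Opens} (hV : IsAffineOpen V)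
    {h : W ≤ g ⁻¹ᵁ V} {n : ℕ} {φ : MvPolynomial (Fin n) Γ(S, V) →+* Γ(P, W)}
    (hφ : DerSch.IsChart g W V h φ) :
    SPC m E (i ⁻¹ᵁ W) ((i.app W).hom.comp φ) ↔ LocPC m ((rho W.ι).obj ((pD i).obj E)) := by
  haveI := isClEmb_imm hW hφ.1
  haveI := isClEmb_imm (hW.preimage i) (χ := (i.app W).hom.comp φ)
    ((i.app_surjective W hW).comp hφ.1)
  rw [spc_iff_locPC]
  have h1 := ipc_comp_iff (m := m) (E := E) (j := (i ⁻¹ᵁ W).ι) (c := i ∣_ W)
    (pcPush_imm_of_flat g hW hV hφ) (imm_comp_closedImm i φ)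
  exact h1.trans ⟨fun h => LocPC.of_iso (pDRho i W E).symm h,
    fun h => LocPC.of_iso (pDRho i W E) h⟩

/-- Pseudo-coherence relative to a composite with a closed immersion into a flat finitely
presented scheme is pseudo-coherence of the direct image. -/
theorem rel_closedImm_iff (g : P ⟶ S) [Flat g] [LocallyOfFinitePresentation g] (m : ℤ)
    (E : DCoh.D X) :
    DerSch.IsPseudoCoherentRel (i ≫ g) m E ↔ LocPC m ((pD i).obj E) := by
  have hle : ∀ {W : P.Opens} {V : S.Opens}, W ≤ g ⁻¹ᵁ V → i ⁻¹ᵁ W ≤ (i ≫ g) ⁻¹ᵁ V :=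
    fun h => fun x hx => h hx
  constructor
  · refine fun hE => LocPC.of_local fun y => ?_
    obtain ⟨_, ⟨V, hV, rfl⟩, hyV, -⟩ := S.isBasis_affineOpens.exists_subset_of_mem_open
      (show g.base y ∈ (⊤ : S.Opens) from trivial) (⊤ : S.Opens).2
    obtain ⟨_, ⟨W, hW, rfl⟩, hyW, hWV⟩ := P.isBasis_affineOpens.exists_subset_of_mem_open
      (show y ∈ g ⁻¹ᵁ V from hyV) (g ⁻¹ᵁ V).2
    obtain ⟨n, φ, hφ⟩ := exists_chart (f := g) hWV (g.finiteType_appLE hV hW hWV)
    refine ⟨_, Scheme.Opens.ι W, inferInstance, ⟨⟨y, hyW⟩, rfl⟩, (spc_comp_closedImm_iff i g E hW hV hφ).1 ?_⟩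
    exact (pcOn_of_isPseudoCoherentRel hE (hW.preimage i) hV (hle hWV)).2 n _
      (isChart_comp_closedImm i hW hφ (hle hWV))
  · intro hE
    refine ⟨inferInstance, Set.univ, by simpa [iSup_univ] using iSup_affineOpens_eq_top S,
      fun V _ => ?_⟩
    refine ⟨(fun W : P.affineOpens => (⟨i ⁻¹ᵁ (W : P.Opens), W.2.preimage i⟩ : X.affineOpens)) ''
      {W | (W : P.Opens) ≤ g ⁻¹ᵁ (V : S.Opens)}, le_antisymm (iSup₂_le ?_) fun x hx => ?_, ?_⟩
    · rintro _ ⟨W, hW, rfl⟩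
      exact hle hW
    · obtain ⟨_, ⟨W, hW, rfl⟩, hxW, hWle⟩ :=
        P.isBasis_affineOpens.exists_subset_of_mem_open
          (show i.base x ∈ g ⁻¹ᵁ (V : S.Opens) from hx) (g ⁻¹ᵁ (V : S.Opens)).2
      simp only [Opens.mem_iSup]
      exact ⟨_, ⟨⟨W, hW⟩, hWle, rfl⟩, hxW⟩
    · rintro _ ⟨W, hW, rfl⟩ h'
      obtain ⟨n, φ, hφ⟩ := exists_chart (f := g) hW (g.finiteType_appLE V.2 W.2 hW)
      exact ⟨n, _, isChart_comp_closedImm i W.2 hφ h', (chartPC_iff _
        (isClEmb_imm (W.2.preimage i) ((i.app_surjective _ W.2).comp hφ.1)) E).2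
          ((spc_comp_closedImm_iff i g E W.2 V.2 hφ).2 (hE.restrict _))⟩

end Groth.Agent.RelPC13
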