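import Groth.Agent.RelPC13.Push
import Groth.Prelude.Def_RefHull

/-!
# Stalks of pushforwards along closed embeddings, with their module structures
-/

set_option linter.style.haveILetI false
set_option backward.isDefEq.respectTransparency false
set_option backward.isDefEq.respectTransparency.types false

universe u

open CategoryTheory CategoryTheory.Limits AlgebraicGeometry TopologicalSpace Opposite
open Groth.Agent.KFlatLib

attribute [local instance] HasDerivedCategory.standard

namespace Groth.Agent.RelPC13

variable {X Y : Scheme.{u}} (f : X ⟶ Y) [IsClEmb f] (x : X)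

/-- The comparison of stalks, linear over the local ring. -/
noncomputable def stalkPushHom (M : X.Modules) :
    (DerSch.stalkFunctor Y (f.base x)).obj ((Scheme.Modules.pushforward f).obj M) ⟶
      (ModuleCat.restrictScalars (f.stalkMap x).hom).obj ((DerSch.stalkFunctor X x).obj M) :=
  ModuleCat.ofHom
    (X := (DerSch.stalkFunctor Y (f.base x)).obj ((Scheme.Modules.pushforward f).obj M))
    (Y := (ModuleCat.restrictScalars (f.stalkMap x).hom).obj ((DerSch.stalkFunctor X x).obj M))
    { toFun := fun m => (TopCat.Presheaf.stalkPushforward Ab.{u} f.base M.presheaf x).hom m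
      map_add' := fun a b =>
        map_add (TopCat.Presheaf.stalkPushforward Ab.{u} f.base M.presheaf x).hom a b
      map_smul' := fun r m => by
        obtain ⟨U₁, hx₁, a, rfl⟩ := Y.presheaf.exists_germ_eq r
        obtain ⟨U₂, hx₂, s, rfl⟩ :=
          ((Scheme.Modules.pushforward f).obj M).presheaf.exists_germ_eq (x := f.base x) m
        let U := U₁ ⊓ U₂
        have hx : f.base x ∈ U := ⟨hx₁, hx₂⟩
        let a' := Y.presheaf.map (homOfLE (inf_le_left : U ≤ U₁)).op a
        let s' := ((Scheme.Modules.pushforward f).obj M).presheaf.map
          (homOfLE (inf_le_right : U ≤ U₂)).op s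
        rw [← TopCat.Presheaf.germ_res_apply Y.presheaf (homOfLE (inf_le_left : U ≤ U₁)) _ hx a,
          ← TopCat.Presheaf.germ_res_apply ((Scheme.Modules.pushforward f).obj M).presheaf
            (homOfLE (inf_le_right : U ≤ U₂)) _ hx s]
        have e : ∀ t, (TopCat.Presheaf.stalkPushforward Ab.{u} f.base M.presheaf x).hom
            (((Scheme.Modules.pushforward f).obj M).presheaf.germ U (f.base x) hx t) =
              M.presheaf.germ (f ⁻¹ᵁ U) x hx t := fun t =>
          TopCat.Presheaf.stalkPushforward_germ_apply (C := Ab.{u}) f.base M.presheaf U x hx t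
        have e₁ : Y.presheaf.germ U (f.base x) hx a' •
            ((Scheme.Modules.pushforward f).obj M).presheaf.germ U (f.base x) hx s' =
              ((Scheme.Modules.pushforward f).obj M).presheaf.germ U (f.base x) hx (a' • s') :=
          (Mero.germ_smul ((Scheme.Modules.pushforward f).obj M) U (f.base x) hx a' s').symm
        refine (congrArg _ e₁).trans ((e _).trans ?_)
        show M.presheaf.germ (f ⁻¹ᵁ U) x hx ((f.app U).hom a' •
          (show Γ(M, f ⁻¹ᵁ U) from s')) = _
        rw [Mero.germ_smul]
        refine Eq.trans ?_ (congrArg (fun t => (f.stalkMap x).hom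
          (Y.presheaf.germ U (f.base x) hx a') • t) (e s').symm)
        rw [Scheme.Hom.germ_stalkMap_apply] }

/-- Stalks of a pushforward, as modules. -/
noncomputable def stalkPushModIso :
    Scheme.Modules.pushforward f ⋙ DerSch.stalkFunctor Y (f.base x) ≅
      DerSch.stalkFunctor X x ⋙ ModuleCat.restrictScalars (f.stalkMap x).hom :=
  haveI : ∀ M, IsIso (stalkPushHom f x M) := fun M => by
    haveI : IsIso (TopCat.Presheaf.stalkPushforward Ab.{u} f.base M.presheaf x) :=
      TopCat.Presheaf.stalkPushforward.stalkPushforward_iso_of_isInducing Ab.{u}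
        (IsClEmb.emb (f := f)).isInducing M.presheaf x
    exact (ConcreteCategory.isIso_iff_bijective _).2 (ConcreteCategory.bijective_of_isIso
      (TopCat.Presheaf.stalkPushforward Ab.{u} f.base M.presheaf x))
  NatIso.ofComponents (fun M => asIso (stalkPushHom f x M)) fun {M N} φ =>
    ModuleCat.hom_ext (LinearMap.ext fun m => congrArg (fun g => g.hom m)
      (stalkPushforward_naturality' f.base ((toAb X ⋙ TopCat.Sheaf.forget _ _).map φ) x))

end Groth.Agent.RelPC13
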