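import Groth.Agent.RelPC13.Thick
import Groth.Agent.H9Misc.DRingTorFaithful

/-!
# Tor amplitude over a thickened base
-/

set_option linter.style.haveILetI false
set_option backward.isDefEq.respectTransparency false
set_option backward.isDefEq.respectTransparency.types false

universe u

open CategoryTheory CategoryTheory.Limits

attribute [local instance] HasDerivedCategory.standard

namespace Groth.Agent.RelPC13

open H9Misc

variable {A' A B' B : Type u} [CommRing A'] [CommRing A] [CommRing B'] [CommRing B]
  (α' : A' →+* B') (α : A →+* B) (φ : A' →+* A) (ψ : B' →+* B) (w : ψ.comp α' = α.comp φ)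

/-- `m ↦ 1 ⊗ m`, as a map over `A'`. -/
noncomputable def unitSquare (M : ModuleCat.{u} B') :
    (ModuleCat.restrictScalars α').obj M ⟶ (ModuleCat.restrictScalars φ).obj
      ((ModuleCat.restrictScalars α).obj ((ModuleCat.extendScalars.{u, u, u} ψ).obj M)) :=
  ModuleCat.ofHom (X := (ModuleCat.restrictScalars α').obj M)
    (Y := (ModuleCat.restrictScalars φ).obj
      ((ModuleCat.restrictScalars α).obj ((ModuleCat.extendScalars.{u, u, u} ψ).obj M)))
    { toFun := fun m => ((ModuleCat.extendRestrictScalarsAdj.{u} ψ).unit.app M).hom m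
      map_add' := fun m n => map_add ((ModuleCat.extendRestrictScalarsAdj.{u} ψ).unit.app M).hom m n
      map_smul' := fun r m => by
        refine (((ModuleCat.extendRestrictScalarsAdj.{u} ψ).unit.app M).hom.map_smul (α' r)
          (show M from m)).trans ?_
        show (ψ (α' r) : B) • (_ : (ModuleCat.extendScalars.{u, u, u} ψ).obj M) = α (φ r) • _
        rw [← RingHom.comp_apply ψ, w, RingHom.comp_apply] }

/-- Base change along a square. -/
noncomputable def bcSquare :
    ModuleCat.restrictScalars α' ⋙ ModuleCat.extendScalars.{u, u, u} φ ⟶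
      ModuleCat.extendScalars.{u, u, u} ψ ⋙ ModuleCat.restrictScalars α where
  app M := ((ModuleCat.extendRestrictScalarsAdj.{u} φ).homEquiv _ _).symm (unitSquare α' α φ ψ w M)
  naturality {M N} f := by
    dsimp only [Functor.comp_map, Functor.comp_obj]
    rw [← Adjunction.homEquiv_naturality_left_symm, ← Adjunction.homEquiv_naturality_right_symm]
    refine congrArg _ ?_
    refine ModuleCat.hom_ext (LinearMap.ext fun m => ?_)
    exact congrArg (fun g => g.hom (show M from m))
      ((ModuleCat.extendRestrictScalarsAdj.{u} ψ).unit.naturality f)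

lemma bcSquare_unit (M : ModuleCat.{u} B') (m : (ModuleCat.restrictScalars α').obj M) :
    ((bcSquare α' α φ ψ w).app M).hom
        (((ModuleCat.extendRestrictScalarsAdj.{u} φ).unit.app _).hom m) =
      ((ModuleCat.extendRestrictScalarsAdj.{u} ψ).unit.app M).hom m := by
  have h : (ModuleCat.extendRestrictScalarsAdj.{u} φ).unit.app _ ≫
      (ModuleCat.restrictScalars φ).map ((bcSquare α' α φ ψ w).app M) = unitSquare α' α φ ψ w M :=
    (((ModuleCat.extendRestrictScalarsAdj.{u} φ).homEquiv_unit ..).symm).trans
      (Equiv.apply_symm_apply _ _)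
  exact congrArg (fun g => g.hom m) h

lemma surjective_unit {R S : Type u} [CommRing R] [CommRing S] (χ : R →+* S)
    (hχ : Function.Surjective χ) (M : ModuleCat.{u} R) :
    Function.Surjective ((ModuleCat.extendRestrictScalarsAdj.{u} χ).unit.app M) := by
  letI := χ.toAlgebra
  exact TensorProduct.mk_surjective _ _ _ hχ

variable (hφ : Function.Surjective φ) (hψ : Function.Surjective ψ)
  (hker : RingHom.ker ψ ≤ (RingHom.ker φ).map α')

include hφ hψ hker

lemma isIso_bcSquare (M : ModuleCat.{u} B') : IsIso ((bcSquare α' α φ ψ w).app M) := by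
  rw [ConcreteCategory.isIso_iff_bijective]
  refine ⟨(injective_iff_map_eq_zero ((bcSquare α' α φ ψ w).app M).hom).2 fun z hz => ?_,
    fun z => ?_⟩
  · obtain ⟨m, rfl⟩ := surjective_unit φ hφ _ z
    replace hz := (bcSquare_unit α' α φ ψ w M m).symm.trans hz
    let p : Submodule B' M := (RingHom.ker ψ) • ⊤
    let Q : ModuleCat.{u} B' := ModuleCat.of B' (M ⧸ p)
    let π : M ⟶ Q := ModuleCat.ofHom p.mkQ
    haveI := DRingNilp.isIso_unit ψ hψ Q fun r hr x => by
      obtain ⟨y, rfl⟩ := p.mkQ_surjective x
      exact (Submodule.Quotient.mk_eq_zero p).2 (Submodule.smul_mem_smul hr Submodule.mem_top)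
    have hm : (show M from m) ∈ p := by
      rw [← Submodule.Quotient.mk_eq_zero p]
      apply (ConcreteCategory.bijective_of_isIso
        ((ModuleCat.extendRestrictScalarsAdj.{u} ψ).unit.app Q)).1
      refine (congrArg (fun g => g.hom (show M from m))
        ((ModuleCat.extendRestrictScalarsAdj.{u} ψ).unit.naturality π)).trans ?_
      refine (congrArg ((ModuleCat.restrictScalars ψ).map
        ((ModuleCat.extendScalars.{u, u, u} ψ).map π)).hom hz).trans ?_
      exact (map_zero _).trans (map_zero _).symm
    let K : AddSubgroup M :=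
      (AddMonoidHom.mk' (fun x : M => ((ModuleCat.extendRestrictScalarsAdj.{u} φ).unit.app
        ((ModuleCat.restrictScalars α').obj M)).hom x) fun x y => map_add _ x y).ker
    show (show M from m) ∈ K
    refine Submodule.smul_induction_on (p := fun y => y ∈ K) hm (fun r hr x _ => ?_)
      fun y z hy hz => K.add_mem hy hz
    replace hr := hker hr
    revert x
    refine Submodule.span_induction (p := fun r _ => ∀ x ∈ (⊤ : Submodule B' M), r • x ∈ K)
      ?_ ?_ ?_ ?_ hr
    · rintro _ ⟨c, hc, rfl⟩ x -
      show ((ModuleCat.extendRestrictScalarsAdj.{u} φ).unit.app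
        ((ModuleCat.restrictScalars α').obj M)).hom
          (c • (show (ModuleCat.restrictScalars α').obj M from x)) = 0
      rw [map_smul]
      show φ c • (_ : (ModuleCat.extendScalars.{u, u, u} φ).obj _) = 0
      rw [RingHom.mem_ker.1 hc, zero_smul]
    · intro x _
      rw [zero_smul]
      exact K.zero_mem
    · intro r s _ _ hr hs x hx
      rw [add_smul]
      exact K.add_mem (hr x hx) (hs x hx)
    · intro b r _ hr x hx
      rw [smul_eq_mul, mul_comm, mul_smul]
      exact hr (b • x) Submodule.mem_top
  · obtain ⟨m, rfl⟩ := surjective_unit ψ hψ M z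
    exact ⟨_, bcSquare_unit α' α φ ψ w M m⟩

include w

/-- Tor amplitude over a thickened base. -/
theorem amp_of_square (hnil : IsNilpotent (RingHom.ker φ)) (hflat : α'.Flat)
    {P : DRing.Cx B'} (hP : ∀ n, Module.Flat B' (P.X n)) (c : ℤ)
    (hc : ∀ n, c < n → IsZero (P.X n)) {a b : ℤ}
    (h : DRing.HasTorAmplitudeIn A a b
      (DRing.toD ((DRing.restrictCx α).obj ((DRingLTensor.extC' ψ).obj P)))) :
    DRing.HasTorAmplitudeIn A' a b (DRing.toD ((DRing.restrictCx α').obj P)) := by
  haveI := DRingLBase.hasLBaseChange φ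
  letI := α'.toAlgebra
  haveI : Module.Flat A' B' := hflat
  have hfl : ∀ n, Module.Flat A' (((DRing.restrictCx α').obj P).X n) := fun n => by
    letI : Module A' (P.X n) := Module.compHom _ α'
    haveI : IsScalarTower A' B' (P.X n) := .of_compHom ..
    haveI := hP n
    exact Module.Flat.trans A' B' (P.X n)
  have hKF : DRingLTensor.IsKF ((DRing.restrictCx α').obj P) :=
    DRingTor.isKF_of_flat (b := c) hfl fun n hn =>
      (ModuleCat.restrictScalars α').map_isZero (hc n hn)
  refine (DRingNilp.amp_lbase_iff φ hφ hnil _ a b).1 ?_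
  obtain ⟨e₁⟩ := DRingLBase.nonempty_lbase_iso φ hKF
  haveI : ∀ M, IsIso ((bcSquare α' α φ ψ w).app M) := isIso_bcSquare α' α φ ψ w hφ hψ hker
  let e₂ : (DRingLTensor.extC' φ).obj ((DRing.restrictCx α').obj P) ≅
      (DRing.restrictCx α).obj ((DRingLTensor.extC' ψ).obj P) :=
    HomologicalComplex.Hom.isoOfComponents (fun n => asIso ((bcSquare α' α φ ψ w).app (P.X n)))
      fun i j _ => ((bcSquare α' α φ ψ w).naturality (P.d i j)).symm
  exact DRingTorFaithful.of_iso (e₁ ≪≫ DerivedCategory.Q.mapIso e₂).symm h

end Groth.Agent.RelPC13
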