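import Groth.Agent.RelPC13.ThickPC
import Groth.Agent.RelPC13.AmpSquare
import Groth.Agent.H23.GysinPb
import Groth.Prelude.Def_DerSch
import Mathlib.AlgebraicGeometry.Morphisms.Flat

/-!
# Relative tor amplitude along a thickening of the base
-/

set_option linter.style.haveILetI false
set_option backward.isDefEq.respectTransparency false
set_option backward.isDefEq.respectTransparency.types false

universe u

open CategoryTheory CategoryTheory.Limits AlgebraicGeometry TopologicalSpace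
open Groth.Agent.KFlatLib Groth.Agent.H9Misc

attribute [local instance] HasDerivedCategory.standard

namespace Groth.Agent.RelPC13

variable {X X' Y Y' : Scheme.{u}}

/-- Tor amplitude at a point depends on the class only. -/
lemma hasTorAmplitudeAt_of_iso (f : X ⟶ Y) {F G : CochainComplex X.Modules ℤ}
    (e : DCoh.toD X F ≅ DCoh.toD X G) {a b : ℤ} (x : X)
    (h : DerSch.HasTorAmplitudeAt f a b F x) : DerSch.HasTorAmplitudeAt f a b G x :=
  DRingTorFaithful.of_iso (((DerSch.stalkOver f x).mapDerivedCategoryFactors.app F).symm ≪≫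
    (DerSch.stalkOver f x).mapDerivedCategory.mapIso e ≪≫
      (DerSch.stalkOver f x).mapDerivedCategoryFactors.app G) h

lemma sq_apply {f : X ⟶ Y} {f' : X' ⟶ Y'} {i : X ⟶ X'} {j : Y ⟶ Y'} (w : i ≫ f' = f ≫ j) (x : X) :
    j.base (f.base x) = f'.base (i.base x) := by
  have := congrArg (fun t : X ⟶ Y' => t.base x) w
  exact this.symm

/-- The map of local rings of the bases. -/
noncomputable def sqMap {f : X ⟶ Y} {f' : X' ⟶ Y'} {i : X ⟶ X'} {j : Y ⟶ Y'}
    (w : i ≫ f' = f ≫ j) (x : X) :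
    Y'.presheaf.stalk (f'.base (i.base x)) ⟶ Y.presheaf.stalk (f.base x) :=
  Y'.presheaf.stalkSpecializes (specializes_of_eq (sq_apply w x)) ≫ j.stalkMap (f.base x)

lemma sqMap_comp {f : X ⟶ Y} {f' : X' ⟶ Y'} {i : X ⟶ X'} {j : Y ⟶ Y'}
    (w : i ≫ f' = f ≫ j) (x : X) :
    f'.stalkMap (i.base x) ≫ i.stalkMap x = sqMap w x ≫ f.stalkMap x := by
  have := Scheme.Hom.stalkMap_congr_hom _ _ w x
  rw [Scheme.Hom.stalkMap_comp, Scheme.Hom.stalkMap_comp, TopCat.Presheaf.stalkCongr_hom] at this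
  rw [sqMap, Category.assoc]
  exact this

lemma ker_le_map_sqMap {f : X ⟶ Y} {f' : X' ⟶ Y'} {i : X ⟶ X'} {j : Y ⟶ Y'} [IsClosedImmersion j]
    (sq : IsPullback i f f' j) (x : X) :
    RingHom.ker (i.stalkMap x).hom ≤
      (RingHom.ker (sqMap sq.w x).hom).map (f'.stalkMap (i.base x)).hom := by
  obtain ⟨e, hei, hef⟩ : ∃ e : X ≅ pullback f' j, e.hom ≫ pullback.fst f' j = i ∧
      e.hom ≫ pullback.snd f' j = f :=
    ⟨sq.isoPullback, sq.isoPullback_hom_fst, sq.isoPullback_hom_snd⟩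
  subst hei hef
  intro t ht
  have ht' : t ∈ RingHom.ker ((pullback.fst f' j).stalkMap (e.hom x)).hom := by
    rw [RingHom.mem_ker] at ht ⊢
    apply (ConcreteCategory.bijective_of_isIso (e.hom.stalkMap x)).1
    rw [map_zero]
    refine Eq.trans ?_ ht
    rw [Scheme.Hom.stalkMap_comp]
    rfl
  have h := H23.GysinPb.ker_stalkMap_fst_le f' j (e.hom x) ht'
  have hspec := sq_apply sq.w x
  refine (Ideal.map_le_iff_le_comap.2 ?_ :
    Ideal.map (H23.GysinPb.baseMap f' j (e.hom x)).hom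
      (RingHom.ker (j.stalkMap (pullback.snd f' j (e.hom x))).hom) ≤ _) h
  intro c hc
  rw [Ideal.mem_comap]
  refine Ideal.mem_map_of_mem ((f'.stalkMap _).hom)
    (x := (Y'.presheaf.stalkSpecializes
      (specializes_of_eq (H23.GysinPb.apply_fst_eq f' j (e.hom x)))).hom c) ?_
  rw [RingHom.mem_ker, sqMap]
  refine Eq.trans ?_ hc
  show (Y'.presheaf.stalkSpecializes _ ≫ Y'.presheaf.stalkSpecializes _ ≫ j.stalkMap _).hom c = _
  rw [← Category.assoc, TopCat.Presheaf.stalkSpecializes_comp,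
    TopCat.Presheaf.stalkSpecializes_refl]
  rfl

/-- Tor amplitude over the thickened base, at a point. -/
theorem hasTorAmplitudeAt_thick {f : X ⟶ Y} {f' : X' ⟶ Y'} {i : X ⟶ X'} {j : Y ⟶ Y'}
    [IsClosedImmersion i] [IsClosedImmersion j] [Flat f'] (sq : IsPullback i f f' j) (hj : Thick j)
    [DCoh.HasLpull i] (E' : DCoh.D X') (hE' : LocPC 0 E') (F : CochainComplex X.Modules ℤ)
    (eF : DCoh.toD X F ≅ (DCoh.Lpull i).obj E') (x : X) {a b : ℤ}
    (h : DerSch.HasTorAmplitudeAt f a b F x) (G : CochainComplex X'.Modules ℤ)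
    (eG : DCoh.toD X' G ≅ E') : DerSch.HasTorAmplitudeAt f' a b G (i.base x) := by
  let R := repK E'
  refine hasTorAmplitudeAt_of_iso f' (repKIso E' ≪≫ eG.symm) _ ?_
  let S := (stalkCx (i.base x)).obj R
  -- a bound at the stalk
  obtain ⟨c, hc⟩ : ∃ c : ℤ, ∀ n, c < n → IsZero (S.homology n) := by
    obtain ⟨V, hVa, hxV⟩ : ∃ V : X'.Opens, IsAffineOpen V ∧ i.base x ∈ V := by
      obtain ⟨V, hV, hx, -⟩ := TopologicalSpace.Opens.isBasis_iff_nbhd.1 X'.isBasis_affineOpens
        (show i.base x ∈ (⊤ : X'.Opens) from trivial)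
      exact ⟨V, hV, hx⟩
    haveI : CompactSpace (V : Scheme.{u}) := isCompact_iff_compactSpace.1 hVa.isCompact
    obtain ⟨c, hc⟩ := exists_bound_of_locPC (hE'.restrict V.ι)
    refine ⟨c, fun n hn => ?_⟩
    have h1 := (DerSch.stalkFunctor (V : Scheme.{u}) ⟨i.base x, hxV⟩).map_isZero
      ((hc n hn).of_iso (restrictHDIso V.ι E' n).symm)
    exact ((isZero_stalk_of_restrict V.ι ⟨i.base x, hxV⟩ h1).of_iso
      ((DerSch.stalkFunctor X' _).mapIso
        ((hdQIso R n).symm ≪≫ (DerivedCategory.homologyFunctor X'.Modules n).mapIso (repKIso E')))).of_iso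
      ((R.sc n).mapHomologyIso (DerSch.stalkFunctor X' (i.base x)))
  obtain ⟨P, ρ, hρ, hflat, hz⟩ :=
    (ringCover (X'.presheaf.stalk (i.base x))).exists_bounded_resolution S c hc
  haveI := hρ
  haveI : P.IsStrictlyLE c := (CochainComplex.isStrictlyLE_iff _ _).2 hz
  have hP : DRingLTensor.IsKF P :=
    kFlat_of_isStrictlyLE c fun n => flatObj_ringCover _ (hflat n)
  have hS : DRingLTensor.IsKF S := (kFlat_iff_stalk R).1 (isKFlat_repK E') (i.base x)
  let α := (f.stalkMap x).hom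
  let α' := (f'.stalkMap (i.base x)).hom
  haveI : QuasiIso ((DRing.restrictCx α').map ρ) :=
    inferInstanceAs (QuasiIso
      (((ModuleCat.restrictScalars α').mapHomologicalComplex (ComplexShape.up ℤ)).map ρ))
  haveI : IsIso (DerivedCategory.Q.map ((DRing.restrictCx α').map ρ)) :=
    (DerivedCategory.isIso_Q_map_iff_quasiIso _ _).2 inferInstance
  haveI : QuasiIso ((DRingLTensor.extC' (i.stalkMap x).hom).map ρ) :=
    KFlatLib.quasiIso_extendScalars (i.stalkMap x).hom ρ hP hS
  haveI : QuasiIso ((DRing.restrictCx α).map ((DRingLTensor.extC' (i.stalkMap x).hom).map ρ)) :=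
    inferInstanceAs (QuasiIso (((ModuleCat.restrictScalars α).mapHomologicalComplex (ComplexShape.up ℤ)).map
      ((DRingLTensor.extC' (i.stalkMap x).hom).map ρ)))
  haveI : IsIso (DerivedCategory.Q.map
      ((DRing.restrictCx α).map ((DRingLTensor.extC' (i.stalkMap x).hom).map ρ))) :=
    (DerivedCategory.isIso_Q_map_iff_quasiIso _ _).2 inferInstance
  refine DRingTorFaithful.of_iso (asIso (DerivedCategory.Q.map ((DRing.restrictCx α').map ρ))) ?_
  refine amp_of_square α' α (sqMap sq.w x).hom (i.stalkMap x).hom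
    (congrArg CommRingCat.Hom.hom (sqMap_comp sq.w x)) ?_ (i.stalkMap_surjective x)
    (ker_le_map_sqMap sq x) ?_ (Flat.stalkMap f' (i.base x)) hflat c hz ?_
  · exact (hj.stalkSurj (f.base x)).comp (ConcreteCategory.bijective_of_isIso
      (Y'.presheaf.stalkCongr (.of_eq (sq_apply sq.w x).symm)).hom).2
  · obtain ⟨n, hn⟩ := hj.nil (f.base x)
    let σ := (Y'.presheaf.stalkCongr (.of_eq (sq_apply sq.w x).symm)).hom
    refine ⟨n, eq_bot_iff.2 fun t ht => ?_⟩
    have h1 : σ.hom t ∈ RingHom.ker (j.stalkMap (f.base x)).hom ^ n :=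
      Ideal.le_comap_pow σ.hom n
        (Ideal.pow_right_mono (fun s hs => by exact hs) n ht)
    rw [hn, Ideal.zero_eq_bot, Ideal.mem_bot] at h1
    rw [Ideal.mem_bot]
    exact (ConcreteCategory.bijective_of_isIso σ).1 (h1.trans (map_zero _).symm)
  · refine DRingTorFaithful.of_iso (DerivedCategory.Q.mapIso ((DRing.restrictCx α).mapIso
      (stalkPullCxIso i x R)) ≪≫ (asIso (DerivedCategory.Q.map
        ((DRing.restrictCx α).map ((DRingLTensor.extC' (i.stalkMap x).hom).map ρ)))).symm) ?_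
    exact hasTorAmplitudeAt_of_iso f (eF ≪≫ (lpullRepIso i E').symm) x h

end Groth.Agent.RelPC13
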