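import Groth.Agent.RelPC13.SegAmp
import Groth.Agent.RelPC13.StalkPush
import Groth.Agent.RelPC13.FlatBase
import Groth.Agent.RelPC13.ThickAmp
import Groth.Agent.KFlatLib.Scheme.TildePC
import Groth.Agent.KFlatLib.Perfect.LocFreeLocus
import Groth.Agent.QCoh.LocFree

/-!
# Relative tor amplitude of a pseudo-coherent object at a point, from the fibre
-/

set_option linter.style.haveILetI false
set_option backward.isDefEq.respectTransparency false
set_option backward.isDefEq.respectTransparency.types false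

universe u

open CategoryTheory CategoryTheory.Limits AlgebraicGeometry TopologicalSpace Opposite
open Groth.Agent.KFlatLib Groth.Agent.H9Misc

attribute [local instance] HasDerivedCategory.standard

namespace Groth.Agent.RelPC13

section Lift

variable {R : Type u} [CommRing R]

/-- Maps out of K-projective complexes in the derived category are maps of complexes. -/
lemma exists_map_of_kProjective {G P : DRing.Cx R} [CochainComplex.IsKProjective G]
    (α : DerivedCategory.Q.obj G ⟶ DerivedCategory.Q.obj P) :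
    ∃ γ : G ⟶ P, DerivedCategory.Q.map γ = α := by
  let e := DerivedCategory.quotientCompQhIso (ModuleCat.{u} R)
  obtain ⟨g', hg'⟩ := (CochainComplex.IsKProjective.Qh_map_bijective G
    ((HomotopyCategory.quotient _ _).obj P)).2 (e.hom.app G ≫ α ≫ e.inv.app P)
  obtain ⟨g, rfl⟩ := (HomotopyCategory.quotient _ _).map_surjective g'
  refine ⟨g, ?_⟩
  have := e.hom.naturality g
  simp only [Functor.comp_map] at this
  rw [hg'] at this
  simp only [Category.assoc, Iso.inv_hom_id_app] at this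
  erw [Category.comp_id, cancel_epi] at this
  exact this.symm

/-- Restrictions along composites. -/
noncomputable def resComp {R₁ R₂ R₃ : Type u} [CommRing R₁] [CommRing R₂] [CommRing R₃]
    (f : R₁ →+* R₂) (g : R₂ →+* R₃) (gf : R₁ →+* R₃) (h : gf = g.comp f) :
    ModuleCat.restrictScalars.{u} gf ≅ ModuleCat.restrictScalars g ⋙ ModuleCat.restrictScalars f :=
  ModuleCat.restrictScalarsComp' f g gf h

/-- Restriction of finite free modules along an isomorphism. -/
lemma finite_free_restrict {R₁ R₂ : Type u} [CommRing R₁] [CommRing R₂] (f : R₁ →+* R₂)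
    (hf : Function.Bijective f) (M : ModuleCat.{u} R₂) [Module.Finite R₂ M] [Module.Free R₂ M] :
    Module.Finite R₁ ((ModuleCat.restrictScalars f).obj M) ∧
      Module.Free R₁ ((ModuleCat.restrictScalars f).obj M) := by
  letI := f.toAlgebra
  letI : Module R₁ M := Module.compHom M f
  haveI : IsScalarTower R₁ R₂ M := .of_compHom ..
  let e : R₁ ≃ₗ[R₁] R₂ := LinearEquiv.ofBijective (Algebra.linearMap R₁ R₂) hf
  haveI : Module.Finite R₁ R₂ := Module.Finite.equiv e
  haveI : Module.Free R₁ R₂ := Module.Free.of_equiv e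
  exact ⟨Module.Finite.trans R₂ M, Module.Free.trans (R := R₁) (S := R₂) (M := M)⟩

end Lift

variable {X Y S : Scheme.{u}}

/-- Stalks of restrictions to opens. -/
noncomputable def stalkRestrictModIso (V : Y.Opens) (w : V) :
    Scheme.Modules.restrictFunctor V.ι ⋙ DerSch.stalkFunctor (V : Scheme.{u}) w ⋙
      ModuleCat.restrictScalars (V.ι.stalkMap w).hom ≅
    DerSch.stalkFunctor Y (V.ι.base w) :=
  let φ := (V.ι.stalkMap w).hom
  have hb : Function.Bijective φ := ConcreteCategory.bijective_of_isIso (V.ι.stalkMap w)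
  haveI : ∀ M, IsIso ((ModuleCat.extendRestrictScalarsAdj.{u} φ).unit.app M) := fun M =>
    DRingNilp.isIso_unit φ hb.2 M fun r hr m => by
      rw [(RingHom.injective_iff_ker_eq_bot φ).1 hb.1, Ideal.mem_bot] at hr
      rw [hr, zero_smul]
  haveI := NatIso.isIso_of_isIso_app (ModuleCat.extendRestrictScalarsAdj.{u} φ).unit
  Functor.isoWhiskerRight (Scheme.Modules.restrictFunctorIsoPullback V.ι) _ ≪≫
    (Functor.associator _ _ _).symm ≪≫
    Functor.isoWhiskerRight (stalkPullbackIso V.ι w) _ ≪≫ Functor.associator _ _ _ ≪≫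
    Functor.isoWhiskerLeft _ (asIso (ModuleCat.extendRestrictScalarsAdj.{u} φ).unit).symm ≪≫
    Functor.rightUnitor _

/-- A pseudo-coherent object has finite free approximations on stalks. -/
theorem exists_free_approx {K : DCoh.D Y} (hK : ∀ n : ℤ, LocPC n K) (z : Y)
    {P : DRing.Cx (Y.presheaf.stalk z)}
    (eP : DerivedCategory.Q.obj P ≅ (DerSch.stalkFunctor Y z).mapDerivedCategory.obj K) (n : ℤ) :
    ∃ (G : DRing.Cx (Y.presheaf.stalk z)) (γ : G ⟶ P), DRing.TermwiseFiniteFree G ∧
      (∃ c : ℤ, ∀ i, c < i → IsZero (G.X i)) ∧ IsPcMap n (DerivedCategory.Q.map γ) := by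
  obtain ⟨V, hzV, hV⟩ := (isPseudoCoherentD_iff n K).2 (hK n) z
  obtain ⟨E, α, hE, hα⟩ := hV (repK K) ⟨repKIso K⟩
  let w : (V : Scheme.{u}) := ⟨z, hzV⟩
  let Φ : (V : Scheme.{u}).Modules ⥤ ModuleCat.{u} (Y.presheaf.stalk z) :=
    DerSch.stalkFunctor (V : Scheme.{u}) w ⋙ ModuleCat.restrictScalars (V.ι.stalkMap w).hom
  haveI : Φ.Additive := inferInstance
  haveI : PreservesFiniteLimits Φ := comp_preservesFiniteLimits _ _
  haveI : PreservesFiniteColimits Φ := comp_preservesFiniteColimits _ _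
  let R := Φ.mapHomologicalComplex (ComplexShape.up ℤ)
  obtain ⟨⟨a, b, hab⟩, hflf⟩ := hE
  have hfree : DRing.TermwiseFiniteFree (R.obj E) := fun i => by
    haveI : Module.Free ((V : Scheme.{u}).presheaf.stalk w)
        ((DerSch.stalkFunctor (V : Scheme.{u}) w).obj (E.X i)) :=
      QCoh.free_stalk_of_isFinLocFree (hflf i) w
    haveI : Module.Finite ((V : Scheme.{u}).presheaf.stalk w)
        ((DerSch.stalkFunctor (V : Scheme.{u}) w).obj (E.X i)) :=
      QCoh.finite_stalk_of_isFT (QCoh.isQCoh_of_isFinLocFree (hflf i))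
        (QCoh.isFT_of_isFP (QCoh.isFP_of_isFinLocFree (hflf i))) w
    exact finite_free_restrict (V.ι.stalkMap w).hom
      (ConcreteCategory.bijective_of_isIso (V.ι.stalkMap w)) _
  have hz : ∀ i, i < a ∨ b < i → IsZero ((R.obj E).X i) := fun i hi => Φ.map_isZero (hab i hi)
  haveI : CochainComplex.IsKProjective (R.obj E) :=
    isKProjective_of_isBddFree (R := CommRingCat.of (Y.presheaf.stalk z)) ⟨⟨a, b, hz⟩, hfree⟩
  let σ := stalkRestrictModIso V w
  let eF : DerivedCategory.Q.obj (R.obj ((DCoh.restrictCx V).obj (repK K))) ≅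
      DerivedCategory.Q.obj P :=
    DerivedCategory.Q.mapIso ((NatIso.mapHomologicalComplex σ (ComplexShape.up ℤ)).app (repK K)) ≪≫
      ((DerSch.stalkFunctor Y z).mapDerivedCategoryFactors.app (repK K)).symm ≪≫
      (DerSch.stalkFunctor Y z).mapDerivedCategory.mapIso (repKIso K) ≪≫ eP.symm
  obtain ⟨γ, hγ⟩ := exists_map_of_kProjective (P := P)
    ((Φ.mapDerivedCategoryFactors.app E).inv ≫ Φ.mapDerivedCategory.map α ≫
      (Φ.mapDerivedCategoryFactors.app ((DCoh.restrictCx V).obj (repK K)) ≪≫ eF).hom)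
  refine ⟨R.obj E, γ, hfree, ⟨b, fun i hi => hz i (Or.inr hi)⟩, ?_⟩
  rw [hγ]
  exact (IsPcMap.map_exact Φ hα).comp_iso _ _

/-- The pushforward along the identity. -/
noncomputable def pDId (G : DCoh.D X) : (pD (𝟙 X)).obj G ≅ G :=
  (pD (𝟙 _)).mapIso (repIso G).symm ≪≫ pDQ _ _ ≪≫
    DerivedCategory.Q.mapIso ((NatIso.mapHomologicalComplex (Scheme.Modules.pushforwardId _)
      (ComplexShape.up ℤ)).app _ ≪≫ (Functor.mapHomologicalComplexIdIso _ _).app _) ≪≫ repIso G

lemma isLocalHom_sqMap {X' S' : Scheme.{u}} {f : X ⟶ S} {f' : X' ⟶ S'} {i : X ⟶ X'}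
    {j : S ⟶ S'} (w : i ≫ f' = f ≫ j) (x : X) : IsLocalHom (sqMap w x).hom := by
  rw [sqMap, CommRingCat.hom_comp]
  haveI : IsLocalHom (S'.presheaf.stalkSpecializes (specializes_of_eq (sq_apply w x))).hom :=
    isLocalHom_of_isIso (S'.presheaf.stalkCongr (.of_eq (sq_apply w x).symm)).hom
  exact RingHom.isLocalHom_comp _ _

open IsLocalRing MvPolynomial in
/-- Tor amplitude over a local ring of the base from the fibre, over a localised polynomial
ring. -/
theorem amp_of_fibre_polyLoc {R A O : Type u} [CommRing R] [CommRing A] [CommRing O]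
    [IsLocalRing A] [IsLocalRing O] (p : Ideal R) [p.IsPrime] [Algebra R A]
    [IsLocalization.AtPrime A p] {ι : Type} [Finite ι] (q : Ideal (MvPolynomial ι R)) [q.IsPrime]
    [Algebra (MvPolynomial ι R) O] [IsLocalization.AtPrime O q] (θ : A →+* O) [IsLocalHom θ]
    (hCθ : ∀ r : R, θ (algebraMap R A r) = algebraMap (MvPolynomial ι R) O (C r))
    {P : DRing.Cx O} (hflat : ∀ i, Module.Flat A (((DRing.restrictCx θ).obj P).X i))
    (c : ℤ) (hc : ∀ i, c < i → IsZero (P.X i))
    (hpc : ∀ n : ℤ, ∃ (G : DRing.Cx O) (γ : G ⟶ P), DRing.TermwiseFiniteFree G ∧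
      (∃ c' : ℤ, ∀ i, c' < i → IsZero (G.X i)) ∧ IsPcMap n (DerivedCategory.Q.map γ))
    {a b : ℤ} (h : ∀ i : ℤ, (i < a ∨ b < i) →
      ((DRingLTensor.tensC (ModuleCat.of A (A ⧸ maximalIdeal A))).obj
        ((DRing.restrictCx θ).obj P)).ExactAt i) :
    DRing.HasTorAmplitudeIn A a b (DRing.toD ((DRing.restrictCx θ).obj P)) := by
  let PR := MvPolynomial ι R
  let A' := MvPolynomial ι A
  let ψ : A' →+* O := eval₂Hom θ fun i => algebraMap PR O (MvPolynomial.X i)
  letI : Algebra A' O := ψ.toAlgebra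
  letI : Algebra A O := θ.toAlgebra
  haveI : IsScalarTower A A' O := .of_algebraMap_eq fun a => (eval₂Hom_C θ _ a).symm
  letI : Algebra PR A' := MvPolynomial.algebraMvPolynomial
  have hψ : algebraMap PR O = ψ.comp (MvPolynomial.map (algebraMap R A)) := by
    refine MvPolynomial.ringHom_ext (fun r => ?_) fun i => ?_
    · rw [RingHom.comp_apply, map_C, eval₂Hom_C, hCθ]
    · rw [RingHom.comp_apply, map_X, eval₂Hom_X']
  haveI : IsScalarTower PR A' O := .of_algebraMap_eq fun s => RingHom.congr_fun hψ s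
  let M := p.primeCompl.map (C : R →+* PR)
  haveI : IsLocalization M A' := MvPolynomial.isLocalization p.primeCompl A
  have hMle : M ≤ q.primeCompl := by
    rintro _ ⟨r, hr, rfl⟩ hmem
    have hu : IsUnit (algebraMap PR O (C r)) := by
      rw [← hCθ]
      exact (IsLocalization.map_units A (⟨r, hr⟩ : p.primeCompl)).map θ
    exact (IsLocalization.AtPrime.isUnit_to_map_iff O q _).1 hu hmem
  let Q : Ideal A' := (maximalIdeal O).comap ψ
  haveI : Q.IsPrime := Ideal.IsPrime.comap ψ
  haveI : IsLocalization.AtPrime O Q := by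
    haveI := IsLocalization.isLocalization_of_submonoid_le A' O M q.primeCompl hMle
    refine IsLocalization.of_le (q.primeCompl.map (algebraMap PR A')) Q.primeCompl ?_
      fun r hr => notMem_maximalIdeal.1 hr
    rintro _ ⟨s, hs, rfl⟩ hmem
    refine hmem ?_
    rw [show ψ (algebraMap PR A' s) = algebraMap PR O s from
      (IsScalarTower.algebraMap_apply PR A' O s).symm]
    exact IsLocalization.map_units O (⟨s, hs⟩ : q.primeCompl)
  have hQ : Q.comap C = maximalIdeal A := by
    rw [Ideal.comap_comap, show ψ.comp C = θ from RingHom.ext fun a => eval₂Hom_C θ _ a]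
    exact le_antisymm (fun r hr hu => hr (hu.map θ))
      fun r hr => mem_nonunits_iff.2 fun hu => hr (isUnit_of_map_unit θ r hu)
  exact Seg.amp_of_fibre_pc Q hQ (S := O) (P := P) hflat c hc hpc h

/-- The stalk on affine space of the pushforward from a chart, as an object. -/
noncomputable def chartStalkIso {U : X.Opens} {T : Scheme.{u}} (cc : (U : Scheme.{u}) ⟶ T)
    [IsClosedImmersion cc] (u₀ : (U : Scheme.{u})) (E : DCoh.D X)
    {P₀ : DRing.Cx (X.presheaf.stalk (U.ι.base u₀))}
    (e₀ : DerivedCategory.Q.obj P₀ ≅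
      (DerSch.stalkFunctor X (U.ι.base u₀)).mapDerivedCategory.obj E) :
    DerivedCategory.Q.obj ((DRing.restrictCx (cc.stalkMap u₀ ≫ inv (U.ι.stalkMap u₀)).hom).obj P₀) ≅
      (DerSch.stalkFunctor T (cc.base u₀)).mapDerivedCategory.obj
        ((pD cc).obj ((rho U.ι).obj E)) :=
  let β := (cc.stalkMap u₀ ≫ inv (U.ι.stalkMap u₀)).hom
  let ρi := (U.ι.stalkMap u₀).hom
  let σ : DerSch.stalkFunctor X (U.ι.base u₀) ⋙ ModuleCat.restrictScalars β ≅
      Scheme.Modules.restrictFunctor U.ι ⋙ Scheme.Modules.pushforward cc ⋙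
        DerSch.stalkFunctor T (cc.base u₀) :=
    Functor.isoWhiskerRight (stalkRestrictModIso U u₀).symm _ ≪≫ Functor.associator _ _ _ ≪≫
      Functor.isoWhiskerLeft _ (Functor.associator _ _ _ ≪≫ Functor.isoWhiskerLeft _
        ((resComp β ρi (ρi.comp β) rfl).symm ≪≫ eqToIso (congrArg ModuleCat.restrictScalars
          (show ρi.comp β = (cc.stalkMap u₀).hom by
            show ((cc.stalkMap u₀ ≫ inv (U.ι.stalkMap u₀)) ≫ U.ι.stalkMap u₀).hom = _
            rw [Category.assoc, IsIso.inv_hom_id, Category.comp_id]))) ≪≫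
        (stalkPushModIso cc u₀).symm)
  let F := DerivedCategory.Q.objPreimage E
  let F₁ := ((Scheme.Modules.restrictFunctor U.ι).mapHomologicalComplex (ComplexShape.up ℤ)).obj F
  let F₂ := ((Scheme.Modules.pushforward cc).mapHomologicalComplex (ComplexShape.up ℤ)).obj F₁
  ((ModuleCat.restrictScalars β).mapDerivedCategoryFactors.app P₀).symm ≪≫
    (ModuleCat.restrictScalars β).mapDerivedCategory.mapIso (e₀ ≪≫
      (DerSch.stalkFunctor X _).mapDerivedCategory.mapIso (repIso E).symm ≪≫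
      (DerSch.stalkFunctor X _).mapDerivedCategoryFactors.app F) ≪≫
    (ModuleCat.restrictScalars β).mapDerivedCategoryFactors.app _ ≪≫
    DerivedCategory.Q.mapIso ((NatIso.mapHomologicalComplex σ (ComplexShape.up ℤ)).app F) ≪≫
    ((DerSch.stalkFunctor T (cc.base u₀)).mapDerivedCategoryFactors.app F₂).symm ≪≫
    (DerSch.stalkFunctor T (cc.base u₀)).mapDerivedCategory.mapIso
      ((pDQ cc F₁).symm ≪≫ (pD cc).mapIso
        (((rhoQ U.ι).app F).symm ≪≫ (rho U.ι).mapIso (repIso E)))

open IsLocalRing MvPolynomial in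
set_option maxHeartbeats 2000000 in
/-- Relative tor amplitude at a point from the fibre. -/
theorem amp_of_fibre_point {f : X ⟶ S} [Flat f] [LocallyOfFinitePresentation f] {E : DCoh.D X}
    (hpc : ∀ n : ℤ, LocPC n E) (x : X) {a b : ℤ} {P₀ : DRing.Cx (X.presheaf.stalk x)}
    (hflat : ∀ i, Module.Flat (X.presheaf.stalk x) (P₀.X i)) (c : ℤ)
    (hc : ∀ i, c < i → IsZero (P₀.X i))
    (e₀ : DerivedCategory.Q.obj P₀ ≅ (DerSch.stalkFunctor X x).mapDerivedCategory.obj E)
    (h : ∀ i : ℤ, (i < a ∨ b < i) →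
      ((DRingLTensor.tensC (ModuleCat.of (S.presheaf.stalk (f.base x))
          (S.presheaf.stalk (f.base x) ⧸ maximalIdeal (S.presheaf.stalk (f.base x))))).obj
        ((DRing.restrictCx (f.stalkMap x).hom).obj P₀)).ExactAt i) :
    DRing.HasTorAmplitudeIn (S.presheaf.stalk (f.base x)) a b
      (DRing.toD ((DRing.restrictCx (f.stalkMap x).hom).obj P₀)) := by
  obtain ⟨V, hV, hxV⟩ : ∃ V : S.Opens, IsAffineOpen V ∧ f.base x ∈ V := by
    obtain ⟨V, hV, hx, -⟩ := TopologicalSpace.Opens.isBasis_iff_nbhd.1 S.isBasis_affineOpens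
      (show f.base x ∈ (⊤ : S.Opens) from trivial)
    exact ⟨V, hV, hx⟩
  obtain ⟨U, hU, hxU, hUV⟩ : ∃ U : X.Opens, IsAffineOpen U ∧ x ∈ U ∧ U ≤ f ⁻¹ᵁ V := by
    obtain ⟨U, h1, h2, h3⟩ := TopologicalSpace.Opens.isBasis_iff_nbhd.1 X.isBasis_affineOpens
      (show x ∈ f ⁻¹ᵁ V from hxV)
    exact ⟨U, h1, h2, h3⟩
  obtain ⟨n, φ, hφ⟩ := exists_chart (f := f) hUV (f.finiteType_appLE hV hU hUV)
  let u₀ : (U : Scheme.{u}) := ⟨x, hxU⟩
  let R' := Γ(S, V)
  let PR := MvPolynomial (Fin n) R'
  let cc := imm U φ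
  haveI := isClosedImmersion_imm hU hφ.1
  let gC := Spec.map (CommRingCat.ofHom (C : R' →+* PR))
  haveI : Flat gC := Flat.SpecMap_iff.2
    (RingHom.flat_algebraMap_iff.2 (inferInstanceAs (Module.Flat R' PR)))
  haveI : LocallyOfFinitePresentation gC := HasRingHomProperty.Spec_iff.2
    (RingHom.finitePresentation_algebraMap.2 (inferInstanceAs (Algebra.FinitePresentation R' PR)))
  let g : Spec (CommRingCat.of PR) ⟶ S := gC ≫ hV.fromSpec
  have w : U.ι ≫ f = cc ≫ g := by
    have h1 := IsAffineOpen.SpecMap_appLE_fromSpec f hV hU hUV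
    have hX : imm U φ ≫ gC = U.toSpecΓ ≫ Spec.map (f.appLE V U hUV) := by
      rw [imm_comp]
      show U.toSpecΓ ≫ Spec.map (CommRingCat.ofHom (φ.comp C)) = _
      rw [hφ.2]
      rfl
    rw [← Category.assoc cc gC, hX, Category.assoc, h1, ← Category.assoc, hU.toSpecΓ_fromSpec]
  -- pseudo-coherence on affine space
  let EU := (rho U.ι).obj E
  have hK : ∀ m : ℤ, LocPC m ((pD cc).obj EU) := fun m => by
    have h1 : DerSch.IsPseudoCoherentRel (𝟙 (U : Scheme.{u}) ≫ (U.ι ≫ f)) m EU :=
      (rel_closedImm_iff (𝟙 _) (U.ι ≫ f) m EU).2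
        (((hpc m).restrict U.ι).of_iso (pDId EU).symm)
    rw [Category.id_comp, w] at h1
    exact (rel_closedImm_iff cc g m EU).1 h1
  let z : Spec (CommRingCat.of PR) := cc.base u₀
  let Oz := (Spec (CommRingCat.of PR)).presheaf.stalk z
  let A := S.presheaf.stalk (f.base x)
  let θ : A →+* Oz := (sqMap w u₀).hom
  let ιs := U.ι.stalkMap u₀
  let β : Oz →+* X.presheaf.stalk x := (cc.stalkMap u₀ ≫ inv ιs).hom
  have hβθ : (f.stalkMap x).hom = β.comp θ := by
    have h1 := sqMap_comp w u₀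
    have h2 : f.stalkMap (U.ι.base u₀) = sqMap w u₀ ≫ cc.stalkMap u₀ ≫ inv ιs := by
      rw [← Category.assoc, IsIso.eq_comp_inv]
      exact h1
    exact congrArg CommRingCat.Hom.hom h2
  letI aR : Algebra R' A := (S.presheaf.germ V (f.base x) hxV).hom.toAlgebra
  let p := (hV.primeIdealOf ⟨f.base x, hxV⟩).asIdeal
  haveI : IsLocalization p.primeCompl A := hV.isLocalization_stalk ⟨f.base x, hxV⟩
  letI : Algebra PR Oz := StructureSheaf.stalkAlgebra (CommRingCat.of PR) z
  haveI : IsLocalization.AtPrime Oz z.asIdeal :=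
    StructureSheaf.IsLocalization.to_stalk (CommRingCat.of PR) z
  have hCθ : ∀ r : R', θ (algebraMap R' A r) = algebraMap PR Oz (C r) := fun r => by
    have hzV : g.base z ∈ V := by
      have := sq_apply w u₀
      show g.base (cc.base u₀) ∈ V
      rw [this]
      exact hxV
    show (g.stalkMap z).hom ((S.presheaf.stalkSpecializes _).hom
      ((S.presheaf.germ V (f.base x) hxV).hom r)) = _
    refine (congrArg (g.stalkMap z).hom
      (TopCat.Presheaf.germ_stalkSpecializes_apply S.presheaf hxV _ r)).trans ?_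
    refine (Scheme.Hom.germ_stalkMap_apply g V z hzV r).trans ?_
    have happ : g.app V = hV.fromSpec.app V ≫ gC.app (hV.fromSpec ⁻¹ᵁ V) := rfl
    rw [happ, hV.fromSpec_app_self, Category.assoc, Scheme.Hom.naturality, ← Category.assoc,
      show (Scheme.ΓSpecIso Γ(S, V)).inv ≫ gC.app ⊤ =
        CommRingCat.ofHom (C : R' →+* PR) ≫ (Scheme.ΓSpecIso (CommRingCat.of PR)).inv from
        (Scheme.ΓSpecIso_inv_naturality _).symm,
      CategoryTheory.comp_apply, CategoryTheory.comp_apply]
    refine (TopCat.Presheaf.germ_res_apply (Spec (CommRingCat.of PR)).presheaf _ _ _ _).trans ?_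
    rfl
  haveI : IsLocalHom θ := isLocalHom_sqMap w u₀
  let P := (DRing.restrictCx β).obj P₀
  let eP : DerivedCategory.Q.obj P ≅
      (DerSch.stalkFunctor (Spec (CommRingCat.of PR)) z).mapDerivedCategory.obj ((pD cc).obj EU) :=
    chartStalkIso cc u₀ E e₀
  have hflatα : (f.stalkMap x).hom.Flat := Flat.stalkMap f x
  let eα : (DRing.restrictCx (f.stalkMap x).hom).obj P₀ ≅
      (DRing.restrictCx θ).obj P :=
    (NatIso.mapHomologicalComplex (resComp θ β _ hβθ) (ComplexShape.up ℤ)).app P₀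
  refine DRingTorFaithful.of_iso (DerivedCategory.Q.mapIso eα).symm
    (amp_of_fibre_polyLoc p z.asIdeal θ hCθ (P := P) (fun i => ?_) c
      (fun i hi => (ModuleCat.restrictScalars β).map_isZero (hc i hi))
      (exists_free_approx hK z eP) fun i hi =>
        (h i hi).of_iso ((DRingLTensor.tensC _).mapIso eα))
  have hi : Module.Flat A ((ModuleCat.restrictScalars (f.stalkMap x).hom).obj (P₀.X i)) := by
    letI := (f.stalkMap x).hom.toAlgebra
    haveI : Module.Flat A (X.presheaf.stalk x) := hflatα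
    letI : Module A (P₀.X i) := Module.compHom _ (f.stalkMap x).hom
    haveI : IsScalarTower A (X.presheaf.stalk x) (P₀.X i) := .of_compHom ..
    haveI := hflat i
    exact Module.Flat.trans A (X.presheaf.stalk x) (P₀.X i)
  exact @Module.Flat.of_linearEquiv _ _ _ _ _ _ _ _ hi
    ((resComp θ β _ hβθ).app (P₀.X i)).toLinearEquiv.symm

end Groth.Agent.RelPC13
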