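import Groth.Agent.H9Misc.DRingTorFaithful
import Groth.Agent.RelPC13.FibreAmp
import Groth.Agent.VarGeom.Normal
import Groth.Agent.KFlatLib.Scheme.TildeD
import Groth.Agent.KFlatLib.Scheme.PCQCoh

/-!
# Relative tor amplitude passes to generalisations
-/

set_option linter.style.haveILetI false
set_option backward.isDefEq.respectTransparency false
set_option backward.isDefEq.respectTransparency.types false

universe u

open CategoryTheory CategoryTheory.Limits MonoidalCategory AlgebraicGeometry TopologicalSpace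
open Groth.Agent.KFlatLib Groth.Agent.H9Misc
open DRingLTensor DRingTor DRingTorLTensor DRingTorLocal DRingTorDescent

attribute [local instance] HasDerivedCategory.standard

namespace Groth.Agent.RelPC13

section Algebra

variable {A A' B B' : Type u} [CommRing A] [CommRing A'] [CommRing B] [CommRing B']

/-- `A' ⊗_A N = N` for a localisation `A → A'`. -/
lemma isIso_counit_localization (τ : A →+* A') (S : Submonoid A)
    (hS : @IsLocalization _ _ S A' _ τ.toAlgebra) (N : ModuleCat.{u} A') :
    IsIso ((ModuleCat.extendRestrictScalarsAdj.{u} τ).counit.app N) := by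
  letI := τ.toAlgebra
  haveI := hS
  letI : Module A N := Module.compHom _ τ
  haveI : IsScalarTower A A' N := .of_compHom ..
  haveI := isLocalizedModule_id S N A'
  have hb := IsLocalizedModule.isBaseChange S A' (LinearMap.id : N →ₗ[A] N)
  rw [ConcreteCategory.isIso_iff_bijective]
  let e := hb.equiv
  have key : ∀ z : TensorProduct A A' N,
      ((ModuleCat.extendRestrictScalarsAdj.{u} τ).counit.app N).hom z = e z := fun z => by
    induction z using TensorProduct.induction_on with
    | zero => exact (map_zero _).trans (map_zero e).symm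
    | tmul a n =>
      refine Eq.trans ?_ (hb.equiv_tmul a n).symm
      rfl
    | add x y hx hy =>
      refine (map_add _ x y).trans ?_
      exact (congrArg₂ (· + ·) hx hy).trans (map_add e x y).symm
  exact ⟨fun z w h => e.injective ((key z).symm.trans (h.trans (key w))),
    fun n => ⟨e.symm n, (key _).trans (e.apply_symm_apply n)⟩⟩

variable (α : A →+* B) (α' : A' →+* B') (τ : A →+* A') (σ : B →+* B')

/-- Tor amplitude passes to localisations. -/
theorem amp_localize (w : α'.comp τ = σ.comp α) (hσ : σ.Flat) (hτ : τ.Flat)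
    (hc : ∀ N : ModuleCat.{u} A', IsIso ((ModuleCat.extendRestrictScalarsAdj.{u} τ).counit.app N))
    {K : DRing.Cx B} {a b : ℤ}
    (h : DRing.HasTorAmplitudeIn A a b (DRing.toD ((DRing.restrictCx α).obj K))) :
    DRing.HasTorAmplitudeIn A' a b
      (DRing.toD ((DRing.restrictCx α').obj ((extC' σ).obj K))) := by
  let N := (DRing.restrictCx α').obj ((extC' σ).obj K)
  haveI : Module.Flat B (resB σ) := hσ
  let L : DRing.Cx B := (DRing.restrictCx σ).obj ((extC' σ).obj K)
  have h1 : DRing.HasTorAmplitudeIn A a b (DRing.toD ((DRing.restrictCx α).obj L)) := by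
    refine (DRingTorFaithful.restrict_iff α L a b).2 fun M F f hf hF i hi => ?_
    let eK : ((tensorRight (resB σ)).mapHomologicalComplex (ComplexShape.up ℤ)).obj K ≅ L :=
      HomologicalComplex.Hom.isoOfComponents (fun n => (extResIso σ).app (K.X n))
        (fun p q _ => ((extResIso σ).hom.naturality (K.d p q)).symm)
    refine (exactAt_iff_of_iso (whiskerRightIso eK ((extC' α).obj F)) i).1 ?_
    refine (exactAt_iff_of_iso (tensCTensorIso (resB σ) K ((extC' α).obj F)) i).2 ?_
    exact ((DRingTorFaithful.restrict_iff α K a b).1 h M F f hf hF i hi).map (tensorRight (resB σ))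
  obtain ⟨E, hz, hfl, ⟨e⟩⟩ := h1
  let eN : (DRing.restrictCx α).obj L ≅ (DRing.restrictCx τ).obj N :=
    HomologicalComplex.Hom.isoOfComponents
      (fun n => (((resComp α σ (σ.comp α) rfl).app _).symm ≪≫
        (resComp τ α' (σ.comp α) w.symm).app _))
      (fun p q _ => rfl)
  haveI := ModuleCat.preservesFiniteLimits_extendScalars_of_flat hτ
  haveI : PreservesFiniteColimits (ModuleCat.extendScalars.{u, u, u} τ) := by
    haveI : (ModuleCat.extendScalars.{u, u, u} τ).IsLeftAdjoint :=
      (ModuleCat.extendRestrictScalarsAdj τ).isLeftAdjoint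
    infer_instance
  let ec : (extC' τ).obj ((DRing.restrictCx τ).obj N) ≅ N :=
    haveI := hc
    HomologicalComplex.Hom.isoOfComponents
      (fun n => asIso ((ModuleCat.extendRestrictScalarsAdj.{u} τ).counit.app (N.X n)))
      (fun p q _ => ((ModuleCat.extendRestrictScalarsAdj.{u} τ).counit.naturality (N.d p q)).symm)
  refine ⟨(extC' τ).obj E, fun i hi => (ModuleCat.extendScalars τ).map_isZero (hz i hi), fun i => ?_,
    ⟨((ModuleCat.extendScalars.{u, u, u} τ).mapDerivedCategoryFactors.app E).symm ≪≫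
      (ModuleCat.extendScalars τ).mapDerivedCategory.mapIso (e ≪≫ DerivedCategory.Q.mapIso eN) ≪≫
      (ModuleCat.extendScalars.{u, u, u} τ).mapDerivedCategoryFactors.app _ ≪≫
      DerivedCategory.Q.mapIso ec⟩⟩
  haveI := hfl i
  exact DRingLBase.flat_extendScalars τ (E.X i)

end Algebra

variable {X Y Z : Scheme.{u}}

/-- Stalks of restrictions along open immersions. -/
noncomputable def stalkRestrictModIso' (j : Z ⟶ Y) [IsOpenImmersion j] (z : Z) :
    Scheme.Modules.restrictFunctor j ⋙ DerSch.stalkFunctor Z z ⋙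
      ModuleCat.restrictScalars (j.stalkMap z).hom ≅
    DerSch.stalkFunctor Y (j.base z) :=
  let φ := (j.stalkMap z).hom
  have hb : Function.Bijective φ := ConcreteCategory.bijective_of_isIso (j.stalkMap z)
  haveI : ∀ M, IsIso ((ModuleCat.extendRestrictScalarsAdj.{u} φ).unit.app M) := fun M =>
    DRingNilp.isIso_unit φ hb.2 M fun r hr m => by
      rw [(RingHom.injective_iff_ker_eq_bot φ).1 hb.1, Ideal.mem_bot] at hr
      rw [hr, zero_smul]
  haveI := NatIso.isIso_of_isIso_app (ModuleCat.extendRestrictScalarsAdj.{u} φ).unit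
  Functor.isoWhiskerRight (Scheme.Modules.restrictFunctorIsoPullback j) _ ≪≫
    (Functor.associator _ _ _).symm ≪≫
    Functor.isoWhiskerRight (stalkPullbackIso j z) _ ≪≫ Functor.associator _ _ _ ≪≫
    Functor.isoWhiskerLeft _ (asIso (ModuleCat.extendRestrictScalarsAdj.{u} φ).unit).symm ≪≫
    Functor.rightUnitor _

/-- Tor amplitude at a point, read on an affine model. -/
noncomputable def affineModelIso {R : CommRingCat.{u}} {f : X ⟶ Y} (j : Spec R ⟶ X)
    [IsOpenImmersion j] {E : DCoh.D X} {G : CochainComplex X.Modules ℤ} (eG : DCoh.toD X G ≅ E)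
    (N : DRing.Cx R)
    (eN : (DCoh.tildeD R).obj (DerivedCategory.Q.obj N) ≅ (rho j).obj E) (z : Spec R) :
    DRing.toD ((DRing.restrictCx (f.stalkMap (j.base z) ≫ j.stalkMap z).hom).obj
        ((extC' (toStalkHom z)).obj N)) ≅
      DRing.toD ((DerSch.stalkCxOver f (j.base z)).obj G) :=
  let c := ComplexShape.up ℤ
  let β := (f.stalkMap (j.base z) ≫ j.stalkMap z).hom
  let σ : Scheme.Modules.restrictFunctor j ⋙ DerSch.stalkFunctor (Spec R) z ⋙
      ModuleCat.restrictScalars β ≅ DerSch.stalkOver f (j.base z) :=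
    Functor.isoWhiskerLeft _ (Functor.isoWhiskerLeft _
      (resComp (f.stalkMap (j.base z)).hom (j.stalkMap z).hom β rfl)) ≪≫
      (Functor.isoWhiskerRight (stalkRestrictModIso' j z)
        (ModuleCat.restrictScalars (f.stalkMap (j.base z)).hom) :)
  let Tz := DerSch.stalkFunctor (Spec R) z ⋙ ModuleCat.restrictScalars β
  let T₀ := ((Scheme.Modules.restrictFunctor j).mapHomologicalComplex c).obj G
  DerivedCategory.Q.mapIso ((DRing.restrictCx β).mapIso
      ((NatIso.mapHomologicalComplex (stalkTildeIso z) c).app N).symm) ≪≫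
    (Tz.mapDerivedCategoryFactors.app
      (((tilde.functor R).mapHomologicalComplex c).obj N)).symm ≪≫
    Tz.mapDerivedCategory.mapIso ((tildeQ N).symm ≪≫ eN ≪≫ ((rho j).mapIso eG).symm ≪≫
      (rhoQ j).app G) ≪≫
    Tz.mapDerivedCategoryFactors.app T₀ ≪≫
    DerivedCategory.Q.mapIso ((NatIso.mapHomologicalComplex σ c).app G)

/-- Relative tor amplitude passes to generalisations. -/
theorem hasTorAmplitudeAt_generalize {f : X ⟶ Y} {E : DCoh.D X} (hpc : ∀ n : ℤ, LocPC n E)
    {G : CochainComplex X.Modules ℤ} (eG : DCoh.toD X G ≅ E) {x' x : X} (hx : x' ⤳ x) {a b : ℤ}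
    (h : DerSch.HasTorAmplitudeAt f a b G x) : DerSch.HasTorAmplitudeAt f a b G x' := by
  obtain ⟨U, hU, hxU⟩ : ∃ U : X.Opens, IsAffineOpen U ∧ x ∈ U := by
    obtain ⟨V, hV, hx, -⟩ := TopologicalSpace.Opens.isBasis_iff_nbhd.1 X.isBasis_affineOpens
      (show x ∈ (⊤ : X.Opens) from trivial)
    exact ⟨V, hV, hx⟩
  obtain ⟨z, rfl⟩ : ∃ z, hU.fromSpec.base z = x := by
    exact hU.range_fromSpec.ge hxU
  obtain ⟨z', rfl⟩ : ∃ z', hU.fromSpec.base z' = x' := by
    exact hU.range_fromSpec.ge (hx.mem_open U.isOpen (hU.range_fromSpec.le ⟨z, rfl⟩))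
  have hz : z' ⤳ z := hU.fromSpec.isOpenEmbedding.isEmbedding.isInducing.specializes_iff.1 hx
  let j := hU.fromSpec
  have hq : DCoh.IsQCohD ((rho j).obj E) := fun i => isQCoh_HD_of_pseudoCoherent
    ((isPseudoCoherentD_iff (i - 1) _).2 ((hpc (i - 1)).restrict j)) i (by omega)
  obtain ⟨M, ⟨eM⟩⟩ := exists_tildeD_iso hq
  let N := DerivedCategory.Q.objPreimage M
  let eN := (DCoh.tildeD _).mapIso (DerivedCategory.Q.objObjPreimageIso M) ≪≫ eM
  refine DRingTorFaithful.of_iso (affineModelIso (f := f) j eG N eN z') ?_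
  have h1 := DRingTorFaithful.of_iso (affineModelIso (f := f) j eG N eN z).symm h
  let τ := Y.presheaf.stalkSpecializes (f.base.hom.map_specializes hx)
  let σ := (Spec Γ(X, U)).presheaf.stalkSpecializes hz
  have hρ : toStalkHom z' = σ.hom.comp (toStalkHom z) := by
    rw [toStalkHom, toStalkHom, ← CommRingCat.hom_comp, Category.assoc,
      TopCat.Presheaf.germ_stalkSpecializes]
  have hw : (f.stalkMap (j.base z') ≫ j.stalkMap z').hom.comp τ.hom =
      σ.hom.comp (f.stalkMap (j.base z) ≫ j.stalkMap z).hom := by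
    rw [← CommRingCat.hom_comp, ← CommRingCat.hom_comp,
      Scheme.Hom.stalkSpecializes_stalkMap_assoc f _ _ hx,
      Scheme.Hom.stalkSpecializes_stalkMap j _ _ hz, Category.assoc]
  obtain ⟨S, hS⟩ := VarGeom.exists_isLocalization_stalkSpecializes (f.base.hom.map_specializes hx)
  obtain ⟨S', hS'⟩ := VarGeom.exists_isLocalization_stalkSpecializes hz
  have hτ : τ.hom.Flat := by
    letI := τ.hom.toAlgebra
    exact RingHom.flat_algebraMap_iff.2 (@IsLocalization.flat _ _ _ _ _ S hS)
  have hσ : σ.hom.Flat := by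
    letI := σ.hom.toAlgebra
    exact RingHom.flat_algebraMap_iff.2 (@IsLocalization.flat _ _ _ _ _ S' hS')
  refine DRingTorFaithful.of_iso (DerivedCategory.Q.mapIso ((DRing.restrictCx _).mapIso
    ((NatIso.mapHomologicalComplex (eqToIso (congrArg ModuleCat.extendScalars hρ) ≪≫
      ModuleCat.extendScalarsComp _ _) (ComplexShape.up ℤ)).app N).symm)) ?_
  exact amp_localize _ _ τ.hom σ.hom hw hσ hτ
    (isIso_counit_localization τ.hom S hS) h1

end Groth.Agent.RelPC13
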