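import Groth.Agent.RelPC13.Local
import Groth.Agent.KFlatLib.Scheme.PCQCoh
import Groth.Agent.QCoh.LocFree
import Groth.Agent.KZ.ClosedDev

/-!
# Closure properties of relative pseudo-coherence
-/

set_option linter.style.haveILetI false
set_option backward.isDefEq.respectTransparency false

universe u

open CategoryTheory CategoryTheory.Limits AlgebraicGeometry TopologicalSpace Opposite MvPolynomial
open Groth.Agent.KFlatLib CategoryTheory.Pretriangulated

attribute [local instance] HasDerivedCategory.standard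

namespace Groth.Agent.RelPC13

variable {X S : Scheme.{u}} {f : X ⟶ S} {m : ℤ} {E K : DCoh.D X}

/-- The functor used in the test: restrict, then push forward. -/
noncomputable abbrev immD (U : X.Opens) {Q : Type u} [CommRing Q] (χ : Q →+* Γ(X, U))
    [IsClEmb (imm U χ)] : DCoh.D X ⥤ DCoh.D (Spec (CommRingCat.of Q)) :=
  rho U.ι ⋙ pD (imm U χ)

lemma spc_iff_locPC {U : X.Opens} {Q : Type u} [CommRing Q] (χ : Q →+* Γ(X, U))
    [IsClEmb (imm U χ)] : SPC m E U χ ↔ LocPC m ((immD U χ).obj E) :=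
  ⟨fun h => h.2, fun h => ⟨inferInstance, h⟩⟩

/-- A property of relative pseudo-coherence follows from the same one for all the test functors. -/
theorem pcOn_of_immD {U : X.Opens} {V : S.Opens} (hU : IsAffineOpen U) (h : U ≤ f ⁻¹ᵁ V)
    (key : ∀ {n : ℕ} (φ : MvPolynomial (Fin n) Γ(S, V) →+* Γ(X, U)) [IsClEmb (imm U φ)],
      DerSch.IsChart f U V h φ → LocPC m ((immD U φ).obj E)) : PCOn f m E U V :=
  ⟨h, fun _ φ hφ => by
    haveI := isClEmb_imm hU hφ.1
    exact (spc_iff_locPC φ).2 (key φ hφ)⟩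

theorem PCOn.locPC {U : X.Opens} {V : S.Opens} (hp : PCOn f m E U V) {h : U ≤ f ⁻¹ᵁ V} {n : ℕ}
    {φ : MvPolynomial (Fin n) Γ(S, V) →+* Γ(X, U)} [IsClEmb (imm U φ)]
    (hφ : DerSch.IsChart f U V h φ) : LocPC m ((immD U φ).obj E) :=
  (spc_iff_locPC φ).1 (hp.2 n φ hφ)

theorem isPseudoCoherentRel_of_immD [LocallyOfFiniteType f]
    (key : ∀ (U : X.affineOpens) (V : S.affineOpens) (h : (U : X.Opens) ≤ f ⁻¹ᵁ (V : S.Opens)) (n : ℕ)
      (φ : MvPolynomial (Fin n) Γ(S, (V : S.Opens)) →+* Γ(X, (U : X.Opens)))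
      [IsClEmb (imm (U : X.Opens) φ)],
      DerSch.IsChart f U V h φ → LocPC m ((immD (U : X.Opens) φ).obj E)) :
    DerSch.IsPseudoCoherentRel f m E :=
  isPseudoCoherentRel_of_forall fun U V h => pcOn_of_immD U.2 h fun φ _ hφ => key U V h _ φ hφ

theorem locPC_immD_of_rel (hE : DerSch.IsPseudoCoherentRel f m E) (U : X.affineOpens)
    (V : S.affineOpens) {h : (U : X.Opens) ≤ f ⁻¹ᵁ (V : S.Opens)} {n : ℕ}
    {φ : MvPolynomial (Fin n) Γ(S, (V : S.Opens)) →+* Γ(X, (U : X.Opens))}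
    [IsClEmb (imm (U : X.Opens) φ)] (hφ : DerSch.IsChart f U V h φ) :
    LocPC m ((immD (U : X.Opens) φ).obj E) :=
  (pcOn_of_isPseudoCoherentRel hE U.2 V.2 h).locPC hφ

/-- Cohomology of the test object. -/
noncomputable def hdImmDIso (U : X.Opens) {Q : Type u} [CommRing Q] (χ : Q →+* Γ(X, U))
    [IsClEmb (imm U χ)] (E : DCoh.D X) (i : ℤ) :
    DCoh.HD ((immD U χ).obj E) i ≅
      (Scheme.Modules.pushforward (imm U χ)).obj ((DCoh.HD E i).restrict U.ι) :=
  hdPDIso (imm U χ) _ i ≪≫ (Scheme.Modules.pushforward (imm U χ)).mapIso (hdRhoIso U.ι E i)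

/-- The test object of a module in degree zero. -/
noncomputable def immDSingle (U : X.Opens) {Q : Type u} [CommRing Q] (χ : Q →+* Γ(X, U))
    [IsClEmb (imm U χ)] (M : X.Modules) :
    (immD U χ).obj (DCoh.inD X M) ≅
      DCoh.inD _ ((Scheme.Modules.pushforward (imm U χ)).obj (M.restrict U.ι)) :=
  (pD (imm U χ)).mapIso (((Scheme.Modules.restrictFunctor U.ι).mapDerivedCategorySingleFunctor 0).app M) ≪≫
    pDSingle (imm U χ) _

theorem rel_of_iso {E' : DCoh.D X} (e : E ≅ E') (h : DerSch.IsPseudoCoherentRel f m E) :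
    DerSch.IsPseudoCoherentRel f m E' := by
  haveI := h.1
  exact isPseudoCoherentRel_of_immD fun U V _ n φ _ hφ =>
    (locPC_immD_of_rel h U V hφ).of_iso ((immD (U : X.Opens) φ).mapIso e)

theorem rel_mono {m' : ℤ} (hm : m ≤ m') (h : DerSch.IsPseudoCoherentRel f m E) :
    DerSch.IsPseudoCoherentRel f m' E := by
  haveI := h.1
  exact isPseudoCoherentRel_of_immD fun U V _ n φ _ hφ => (locPC_immD_of_rel h U V hφ).mono hm

theorem rel_two_of_three (T : Triangle (DCoh.D X)) (hT : T ∈ distinguishedTriangles) :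
    (DerSch.IsPseudoCoherentRel f (m + 1) T.obj₁ → DerSch.IsPseudoCoherentRel f m T.obj₂ →
      DerSch.IsPseudoCoherentRel f m T.obj₃) ∧
    (DerSch.IsPseudoCoherentRel f m T.obj₁ → DerSch.IsPseudoCoherentRel f m T.obj₃ →
      DerSch.IsPseudoCoherentRel f m T.obj₂) ∧
    (DerSch.IsPseudoCoherentRel f (m + 1) T.obj₂ → DerSch.IsPseudoCoherentRel f m T.obj₃ →
      DerSch.IsPseudoCoherentRel f (m + 1) T.obj₁) := by
  refine ⟨fun h1 h2 => ?_, fun h1 h2 => ?_, fun h1 h2 => ?_⟩ <;> haveI := h1.1 <;>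
    refine isPseudoCoherentRel_of_immD fun U V _ n φ _ hφ => ?_ <;>
    have := locPC_two_of_three m _ ((immD (U : X.Opens) φ).map_distinguished T hT)
  · exact this.1 (locPC_immD_of_rel h1 U V hφ) (locPC_immD_of_rel h2 U V hφ)
  · exact this.2.1 (locPC_immD_of_rel h1 U V hφ) (locPC_immD_of_rel h2 U V hφ)
  · exact this.2.2 (locPC_immD_of_rel h1 U V hφ) (locPC_immD_of_rel h2 U V hφ)

theorem rel_biprod [HasBinaryBiproduct E K] (h : DerSch.IsPseudoCoherentRel f m (E ⊞ K)) :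
    DerSch.IsPseudoCoherentRel f m E ∧ DerSch.IsPseudoCoherentRel f m K := by
  haveI := h.1
  have key : ∀ (U : X.affineOpens) (V : S.affineOpens) (h' : (U : X.Opens) ≤ f ⁻¹ᵁ (V : S.Opens))
      (n : ℕ) (φ : MvPolynomial (Fin n) Γ(S, (V : S.Opens)) →+* Γ(X, (U : X.Opens)))
      [IsClEmb (imm (U : X.Opens) φ)], DerSch.IsChart f U V h' φ →
      LocPC m ((immD (U : X.Opens) φ).obj E) ∧ LocPC m ((immD (U : X.Opens) φ).obj K) :=
    fun U V _ n φ _ hφ => by
      haveI := preservesBinaryBiproducts_of_preservesBiproducts (immD (U : X.Opens) φ)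
      exact locPC_summand m _ _
        ((locPC_immD_of_rel h U V hφ).of_iso ((immD (U : X.Opens) φ).mapBiprod E K))
  exact ⟨isPseudoCoherentRel_of_immD fun U V h' n φ _ hφ => (key U V h' n φ hφ).1,
    isPseudoCoherentRel_of_immD fun U V h' n φ _ hφ => (key U V h' n φ hφ).2⟩

theorem rel_of_terms (F : CochainComplex X.Modules ℤ) (b : ℤ) (hb : ∀ i : ℤ, b < i → IsZero (F.X i))
    (h : ∀ i : ℤ, DerSch.IsPseudoCoherentRel f (m - i) (DCoh.inD X (F.X i))) :
    DerSch.IsPseudoCoherentRel f m (DCoh.toD X F) := by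
  haveI := (h 0).1
  refine isPseudoCoherentRel_of_immD fun U V _ n φ _ hφ => ?_
  refine LocPC.of_iso ((pD (imm (U : X.Opens) φ)).mapIso ((rhoQ (U : X.Opens).ι).app F) ≪≫
    pDQ (imm (U : X.Opens) φ) _).symm (locPC_of_terms m b _ (fun i hi => ?_) fun i _ => ?_)
  · exact (Scheme.Modules.pushforward _).map_isZero
      ((Scheme.Modules.restrictFunctor _).map_isZero (hb i hi))
  · exact (locPC_immD_of_rel (h i) U V hφ).of_iso (immDSingle _ φ _)

theorem rel_of_homology (b : ℤ) [E.IsLE b]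
    (h : ∀ i : ℤ, DerSch.IsPseudoCoherentRel f (m - i) (DCoh.inD X (DCoh.HD E i))) :
    DerSch.IsPseudoCoherentRel f m E := by
  haveI := (h 0).1
  refine isPseudoCoherentRel_of_immD fun U V _ n φ _ hφ => ?_
  refine locPC_of_homology m b _ (fun i hi => ?_) fun i _ => ?_
  · exact ((Scheme.Modules.pushforward _).map_isZero ((Scheme.Modules.restrictFunctor _).map_isZero
      (DerivedCategory.isZero_of_isLE E b i hi))).of_iso (hdImmDIso _ φ E i)
  · exact (locPC_immD_of_rel (h i) U V hφ).of_iso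
      (immDSingle _ φ _ ≪≫ (DerivedCategory.singleFunctor _ 0).mapIso (hdImmDIso _ φ E i).symm)

lemma isQCoh_of_push {Y : Scheme.{u}} (c : Y ⟶ S) [IsClosedImmersion c] {M : Y.Modules}
    (h : Coh.IsQCoh ((Scheme.Modules.pushforward c).obj M)) : Coh.IsQCoh M := by
  let adj := Scheme.Modules.pullbackPushforwardAdjunction c
  haveI : IsIso (adj.counit.app M) := KZ.ClosedDev.isIso_counit c h
  exact isQCoh_of_iso (asIso (adj.counit.app M)) (QCoh.isQCoh_pullback c h)

theorem rel_isQCoh_HD (hE : DerSch.IsPseudoCoherentRel f m E) (i : ℤ) (hi : m < i) :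
    Coh.IsQCoh (DCoh.HD E i) := by
  haveI := hE.1
  have key : ∀ x : X, ∃ U : X.Opens, x ∈ U ∧ Coh.IsQCoh ((DCoh.HD E i).restrict U.ι) := fun x => by
    obtain ⟨_, ⟨V, hV, rfl⟩, hxV, -⟩ :=
      S.isBasis_affineOpens.exists_subset_of_mem_open (show f.base x ∈ (⊤ : S.Opens) from trivial) (⊤ : S.Opens).2
    obtain ⟨_, ⟨U, hU, rfl⟩, hxU, hUV⟩ :=
      X.isBasis_affineOpens.exists_subset_of_mem_open (show x ∈ f ⁻¹ᵁ V from hxV) (f ⁻¹ᵁ V).2
    obtain ⟨n, φ, hφ⟩ := exists_chart hUV (f.finiteType_appLE hV hU hUV)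
    haveI := isClosedImmersion_imm hU hφ.1
    haveI := isClEmb_imm hU hφ.1
    refine ⟨U, hxU, isQCoh_of_push (imm U φ) (isQCoh_of_iso (hdImmDIso U φ E i) ?_)⟩
    exact isQCoh_HD_of_pseudoCoherent
      ((isPseudoCoherentD_iff m _).2 (locPC_immD_of_rel hE ⟨U, hU⟩ ⟨V, hV⟩ hφ)) i hi
  choose U hx hq using key
  exact QCoh.isQCoh_of_isOpenCover U (TopologicalSpace.IsOpenCover.mk (top_le_iff.1 fun x _ =>
    TopologicalSpace.Opens.mem_iSup.2 ⟨x, hx x⟩)) hq

end Groth.Agent.RelPC13
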