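import Groth.Agent.RelPC13.PushTilde
import Groth.Agent.RelFP.Scheme

/-!
# Relative pseudo-coherence of a module in degree zero
-/

set_option linter.style.haveILetI false
set_option backward.isDefEq.respectTransparency false
set_option backward.isDefEq.respectTransparency.types false

universe u

open CategoryTheory CategoryTheory.Limits AlgebraicGeometry TopologicalSpace Opposite MvPolynomial
open Groth.Agent.KFlatLib

attribute [local instance] HasDerivedCategory.standard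

namespace Groth.Agent.RelPC13

variable {X S : Scheme.{u}} {f : X ⟶ S} {M : X.Modules}

lemma isFT_freeMod (n : ℕ) : CohB1.IsFT (FlatMod.freeMod X n) :=
  isFT_of_epi_free fun x => ⟨⊤, n,
    ((Scheme.Modules.restrictFunctorIsoPullback (⊤ : X.Opens).ι).app _ ≪≫
      pullFreeIso (⊤ : X.Opens).ι n).inv, trivial, inferInstance⟩

theorem rel_single_pos [LocallyOfFiniteType f] {m : ℤ} (hm : 0 < m) :
    DerSch.IsPseudoCoherentRel f m (DCoh.inD X M) :=
  isPseudoCoherentRel_of_immD fun U _ _ _ φ _ _ => locPC_of_isZero m _ fun i hi =>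
    ((Scheme.Modules.pushforward _).map_isZero ((Scheme.Modules.restrictFunctor _).map_isZero
      (hd_single_isZero M i (by omega)))).of_iso (hdImmDIso (U : X.Opens) φ _ i)

lemma exists_chart_pair (f : X ⟶ S) [LocallyOfFiniteType f] (x : X) :
    ∃ (U : X.affineOpens) (V : S.affineOpens) (h : (U : X.Opens) ≤ f ⁻¹ᵁ (V : S.Opens)) (n : ℕ)
      (φ : MvPolynomial (Fin n) Γ(S, (V : S.Opens)) →+* Γ(X, (U : X.Opens))),
      x ∈ (U : X.Opens) ∧ DerSch.IsChart f U V h φ := by
  obtain ⟨_, ⟨V, hV, rfl⟩, hxV, -⟩ := S.isBasis_affineOpens.exists_subset_of_mem_open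
    (show f.base x ∈ (⊤ : S.Opens) from trivial) (⊤ : S.Opens).2
  obtain ⟨_, ⟨U, hU, rfl⟩, hxU, hUV⟩ := X.isBasis_affineOpens.exists_subset_of_mem_open
    (show x ∈ f ⁻¹ᵁ V from hxV) (f ⁻¹ᵁ V).2
  obtain ⟨n, φ, hφ⟩ := exists_chart hUV (f.finiteType_appLE hV hU hUV)
  exact ⟨⟨U, hU⟩, ⟨V, hV⟩, hUV, n, φ, hxU, hφ⟩

lemma isFT_of_restrict {U : X → X.Opens} (hx : ∀ x, x ∈ U x)
    (h : ∀ x, CohB1.IsFT (M.restrict (U x).ι)) : CohB1.IsFT M := isFT_of_epi_free fun x => by
  obtain ⟨W, n, p, hxW, hp⟩ := exists_epi_free_of_isFT (h x) ⟨x, hx x⟩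
  let V : X.Opens := (U x).ι ''ᵁ W
  let σ : (V : Scheme.{u}) ⟶ (W : Scheme.{u}) := ((U x).ι.isoImage W).inv
  have hσ : σ ≫ W.ι ≫ (U x).ι = V.ι := (U x).ι.isoImage_inv_ι W
  exact ⟨V, n, (pullFreeIso σ n).inv ≫ (Scheme.Modules.restrictFunctorIsoPullback σ).inv.app _ ≫
    (Scheme.Modules.restrictFunctor σ).map p ≫
      ((Scheme.Modules.restrictFunctor σ).mapIso (restrict₂Iso W.ι (U x).ι _ rfl M) ≪≫
        restrict₂Iso σ (W.ι ≫ (U x).ι) V.ι hσ M).hom, ⟨⟨x, hx x⟩, hxW, rfl⟩, inferInstance⟩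

theorem rel_single_zero [LocallyOfFiniteType f] :
    DerSch.IsPseudoCoherentRel f 0 (DCoh.inD X M) ↔ CohB1.IsFT M := by
  constructor
  · intro hE
    have key : ∀ x : X, ∃ U : X.Opens, x ∈ U ∧ CohB1.IsFT (M.restrict U.ι) := fun x => by
      obtain ⟨U, V, h, n, φ, hx, hφ⟩ := exists_chart_pair f x
      haveI := isClEmb_imm U.2 hφ.1
      refine ⟨U, hx, isFT_of_push (imm (U : X.Opens) φ) ?_⟩
      have h0 := (locPC_immD_of_rel hE U V hφ).of_iso (immDSingle (U : X.Opens) φ M)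
      exact isFT_iso (hdSingleIso _) (isFT_top h0 fun i hi => hd_single_isZero _ i (by omega))
    choose U hx hU using key
    exact isFT_of_restrict hx hU
  · intro hM
    refine isPseudoCoherentRel_of_immD fun U V _ n φ _ hφ => ?_
    let c := imm (U : X.Opens) φ
    have hU : CohB1.IsFT (M.restrict (U : X.Opens).ι) := by
      have h0 := ((locPC_of_isFT M hM).restrict (U : X.Opens).ι).of_iso
        (((Scheme.Modules.restrictFunctor (U : X.Opens).ι).mapDerivedCategorySingleFunctor 0).app M)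
      exact isFT_iso (hdSingleIso _) (isFT_top h0 fun i hi => hd_single_isZero _ i (by omega))
    have hfree : ∀ k, LocPC 0 ((pD c).obj (DCoh.inD _ (FlatMod.freeMod (U : Scheme.{u}) k))) := fun k =>
      LocPC.of_iso ((pD c).mapIso (rhoFreeIso (U : X.Opens).ι k))
        ((spc_inD_iff (isQCoh_freeMod k) U.2 φ 0).2 (by
          haveI := finite_chartModule (isQCoh_freeMod k) (isFT_freeMod k) U.2 φ hφ.1
          exact H9Misc.DRingPC.pc_zero_of_finite _))
    refine LocPC.of_iso (immDSingle (U : X.Opens) φ M ≪≫ Iso.refl _).symm ?_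
    refine LocPC.of_iso (pDSingle c _) (locPC_push_of_image c fun x => ?_)
    obtain ⟨W, k, p, hxW, hp⟩ := exists_epi_free_of_isFT hU x
    obtain ⟨O, rfl⟩ := exists_preimage_eq c W
    refine ⟨O, hxW, LocPC.of_iso (pDRho c O _).symm ?_⟩
    let R := Scheme.Modules.restrictFunctor (c ⁻¹ᵁ O).ι
    refine LocPC.of_iso ((pD (c ∣_ O)).mapIso ((R.mapDerivedCategorySingleFunctor 0).app _).symm) ?_
    haveI : Epi ((Scheme.Modules.pushforward (c ∣_ O)).map p) := inferInstance
    refine locPC_of_isPcMap ((pDSingle (c ∣_ O) _).hom ≫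
      (DerivedCategory.singleFunctor _ 0).map ((Scheme.Modules.pushforward (c ∣_ O)).map p) ≫
        (pDSingle (c ∣_ O) _).inv) ?_ ((isPcMap_single_map _).comp_iso _ _)
    exact LocPC.of_iso ((pD (c ∣_ O)).mapIso (rhoFreeIso (c ⁻¹ᵁ O).ι k))
      (LocPC.of_iso (pDRho c O _) ((hfree k).restrict O.ι))

lemma isQCoh_of_isFP {N : X.Modules} (h : CohB1.IsFP N) : Coh.IsQCoh N := by
  haveI := h
  exact (inferInstance : SheafOfModules.IsQuasicoherent (R := X.ringCatSheaf) N)

theorem rel_single_negOne [LocallyOfFiniteType f] :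
    DerSch.IsPseudoCoherentRel f (-1) (DCoh.inD X M) ↔ (Coh.IsQCoh M ∧ Flatn.IsRelFP f M) := by
  constructor
  · intro hE
    have key : ∀ x : X, ∃ U : X.Opens, x ∈ U ∧ Coh.IsQCoh (M.restrict U.ι) := fun x => by
      obtain ⟨U, V, h, n, φ, hx, hφ⟩ := exists_chart_pair f x
      haveI := isClEmb_imm U.2 hφ.1
      haveI := isClosedImmersion_imm U.2 hφ.1
      refine ⟨U, hx, isQCoh_of_push (imm (U : X.Opens) φ) ?_⟩
      have h0 := (locPC_immD_of_rel hE U V hφ).of_iso (immDSingle (U : X.Opens) φ M)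
      have h1 := isFP_top h0 fun i hi => hd_single_isZero _ i (by omega)
      rw [show (-1 : ℤ) + 1 = 0 by norm_num] at h1
      exact isQCoh_of_iso (hdSingleIso _) (isQCoh_of_isFP h1)
    choose U hx hU using key
    have hM : Coh.IsQCoh M := QCoh.isQCoh_of_isOpenCover U (TopologicalSpace.IsOpenCover.mk
      (top_le_iff.1 fun x _ => TopologicalSpace.Opens.mem_iSup.2 ⟨x, hx x⟩)) hU
    haveI := hM
    refine ⟨hM, RelFP.isRelFP_of_forall fun U V h => ?_⟩
    obtain ⟨n, φ, hφ⟩ := exists_chart h (f.finiteType_appLE V.2 U.2 h)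
    haveI := isClEmb_imm U.2 hφ.1
    letI := (f.appLE (V : S.Opens) (U : X.Opens) h).hom.toAlgebra
    exact ⟨n, { φ with commutes' := RingHom.congr_fun hφ.2 }, hφ.1,
      @H9Misc.DRingPC.finitePresentation_of_pc _ _ (chartModule M (U : X.Opens) φ) _ _
        ((spc_inD_iff hM U.2 φ (-1)).1 (locPC_immD_of_rel hE U V hφ))⟩
  · rintro ⟨hM, hP⟩
    haveI := hM
    refine isPseudoCoherentRel_of_immD fun U V h n φ _ hφ => (spc_inD_iff hM U.2 φ (-1)).2 ?_
    letI := (f.appLE (V : S.Opens) (U : X.Opens) h).hom.toAlgebra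
    haveI : Algebra.FiniteType Γ(S, (V : S.Opens)) Γ(X, (U : X.Opens)) := f.finiteType_appLE V.2 U.2 h
    let ψ : MvPolynomial (Fin n) Γ(S, (V : S.Opens)) →ₐ[Γ(S, (V : S.Opens))] Γ(X, (U : X.Opens)) :=
      { φ with commutes' := RingHom.congr_fun hφ.2 }
    have hv : RelFP.FPVia ψ.toRingHom Γ(M, (U : X.Opens)) :=
      (RelFP.rel_iff ψ (RingHom.Finite.of_surjective _ hφ.1)).1 (RelFP.relFPOn_of_isRelFP hP U V h)
    haveI : Module.FinitePresentation (MvPolynomial (Fin n) Γ(S, (V : S.Opens)))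
      (chartModule M (U : X.Opens) φ) := hv
    exact H9Misc.DRingPC.pc_neg_one_of_finitePresentation _

end Groth.Agent.RelPC13
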