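import Groth.Agent.KFlatLib.Scheme.ClosedPush
import Groth.Agent.KFlatLib.Scheme.RpushRestrict
import Groth.Agent.KFlatLib.Perfect.Top
import Groth.Agent.KFlatLib.PsiC

/-!
# Pushforward along morphisms which are closed embeddings of spaces, on derived categories

If the underlying map of `f` is a closed embedding, `f_*` is exact on all modules, so it induces a
functor `pD f` on derived categories.
-/

set_option linter.style.haveILetI false
set_option backward.isDefEq.respectTransparency false
set_option backward.isDefEq.respectTransparency.types false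

universe u

open CategoryTheory CategoryTheory.Limits AlgebraicGeometry TopologicalSpace Opposite
open Groth.Agent.KFlatLib

attribute [local instance] HasDerivedCategory.standard

namespace Groth.Agent.RelPC13

/-- The underlying map is a closed embedding. -/
class IsClEmb {X Y : Scheme.{u}} (f : X ⟶ Y) : Prop where
  emb : Topology.IsClosedEmbedding f.base

variable {X Y Z : Scheme.{u}}

instance isClEmb_of_isClosedImmersion (f : X ⟶ Y) [IsClosedImmersion f] : IsClEmb f :=
  ⟨f.isClosedEmbedding⟩

lemma isClEmb_comp (f : X ⟶ Y) (g : Y ⟶ Z) [IsClEmb f] [IsClEmb g] : IsClEmb (f ≫ g) :=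
  ⟨(IsClEmb.emb (f := g)).comp (IsClEmb.emb (f := f))⟩

lemma isClEmb_of_comp (f : X ⟶ Y) (g : Y ⟶ Z) [IsClEmb (f ≫ g)] [IsClEmb g] : IsClEmb f := by
  refine ⟨?_⟩
  have h : Topology.IsClosedEmbedding (g.base ∘ f.base) := IsClEmb.emb (f := f ≫ g)
  exact Topology.IsClosedEmbedding.of_comp (IsClEmb.emb (f := g)).isEmbedding h

instance isClEmb_morphismRestrict (f : X ⟶ Y) [IsClEmb f] (V : Y.Opens) : IsClEmb (f ∣_ V) := by
  refine ⟨?_⟩
  rw [morphismRestrict_base]
  exact (IsClEmb.emb (f := f)).restrictPreimage _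

section Exact

variable (f : X ⟶ Y) [IsClEmb f]

/-- The stalk of a pushforward at a point of the image. -/
noncomputable def stalkPushIso (x : X) :
    Scheme.Modules.pushforward f ⋙ stalkAb (X := Y) (f.base x) ≅ stalkAb (X := X) x :=
  haveI : ∀ M : X.Modules,
      IsIso (TopCat.Presheaf.stalkPushforward Ab.{u} f.base M.presheaf x) := fun M =>
    TopCat.Presheaf.stalkPushforward.stalkPushforward_iso_of_isInducing Ab.{u}
      (IsClEmb.emb (f := f)).isInducing M.presheaf x
  NatIso.ofComponents (fun M => asIso (TopCat.Presheaf.stalkPushforward Ab.{u} f.base M.presheaf x))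
    fun {M N} φ => stalkPushforward_naturality' f.base ((toAb X ⋙ TopCat.Sheaf.forget _ _).map φ) x

lemma isZero_stalk_push (y : Y) (hy : y ∉ Set.range f.base) (M : X.Modules) :
    IsZero ((Scheme.Modules.pushforward f ⋙ stalkAb (X := Y) y).obj M) := by
  rw [AddCommGrpCat.isZero_iff_subsingleton]
  refine ⟨fun a b => ?_⟩
  let W : Y.Opens := ⟨(Set.range f.base)ᶜ, (IsClEmb.emb (f := f)).isClosed_range.isOpen_compl⟩
  have key : ∀ a : TopCat.Presheaf.stalk (C := Ab.{u}) ((Scheme.Modules.pushforward f).obj M).presheaf y,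
      a = 0 := fun a => by
    obtain ⟨V, hV, s, rfl⟩ := TopCat.Presheaf.exists_germ_eq
      (((Scheme.Modules.pushforward f).obj M).presheaf) (x := y) a
    have he : f ⁻¹ᵁ (V ⊓ W) = ⊥ := by
      ext z
      simp only [Opens.coe_bot, Set.mem_empty_iff_false, iff_false]
      exact fun h => h.2 ⟨z, rfl⟩
    haveI : Subsingleton Γ(M, f ⁻¹ᵁ (V ⊓ W)) := by
      rw [he]
      exact AddCommGrpCat.subsingleton_of_isZero
        (TopCat.Sheaf.isTerminalOfEmpty (⟨M.presheaf, M.isSheaf⟩ : TopCat.Sheaf Ab.{u} X)).isZero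
    rw [← TopCat.Presheaf.germ_res_apply ((Scheme.Modules.pushforward f).obj M).presheaf
      (homOfLE inf_le_left : V ⊓ W ⟶ V) y ⟨hV, hy⟩ s]
    rw [Subsingleton.elim (α := Γ(M, f ⁻¹ᵁ (V ⊓ W))) (((Scheme.Modules.pushforward f).obj M).presheaf.map
      (homOfLE inf_le_left : V ⊓ W ⟶ V).op s) 0]
    exact map_zero _
  exact (key a).trans (key b).symm

instance preservesFiniteColimits_push : PreservesFiniteColimits (Scheme.Modules.pushforward f) where
  preservesFiniteColimits K _ _ := ⟨fun {F} => by
    haveI : IsIso (colimit.post F (Scheme.Modules.pushforward f)) := isIso_of_stalk _ fun y => by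
      let S := stalkAb (X := Y) y
      haveI : PreservesColimit F (Scheme.Modules.pushforward f ⋙ S) := by
        by_cases hy : y ∈ Set.range f.base
        · obtain ⟨x, rfl⟩ := hy
          exact preservesColimit_of_natIso F (stalkPushIso f x).symm
        · exact ⟨fun {c} hc => ⟨{
            desc := fun t => 0
            fac := fun t i => (isZero_stalk_push f y hy (F.obj i)).eq_of_src _ _
            uniq := fun t m _ => (isZero_stalk_push f y hy c.pt).eq_of_src _ _ }⟩⟩
      haveI : IsIso (colimit.post (F ⋙ Scheme.Modules.pushforward f) S ≫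
          S.map (colimit.post F (Scheme.Modules.pushforward f))) := by
        rw [colimit.post_post F (Scheme.Modules.pushforward f) S]
        exact (inferInstance : IsIso (colimit.post F (Scheme.Modules.pushforward f ⋙ S)))
      have h : IsIso (S.map (colimit.post F (Scheme.Modules.pushforward f))) :=
        IsIso.of_isIso_comp_left (colimit.post (F ⋙ Scheme.Modules.pushforward f) S) _
      exact @isIso_of_reflects_iso _ _ _ _ _ _ _
        (forget₂ (ModuleCat (Y.presheaf.stalk y)) AddCommGrpCat) h _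
    exact preservesColimit_of_isIso_post _ F⟩

instance preservesFiniteLimits_push : PreservesFiniteLimits (Scheme.Modules.pushforward f) where
  preservesFiniteLimits _ _ _ := inferInstance

/-- `f_*` on derived categories. -/
noncomputable abbrev pD : DCoh.D X ⥤ DCoh.D Y :=
  (Scheme.Modules.pushforward f).mapDerivedCategory

/-- `pD` on the class of a complex. -/
noncomputable def pDQ (F : CochainComplex X.Modules ℤ) :
    (pD f).obj (DerivedCategory.Q.obj F) ≅
      DerivedCategory.Q.obj (((Scheme.Modules.pushforward f).mapHomologicalComplex _).obj F) :=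
  (Scheme.Modules.pushforward f).mapDerivedCategoryFactors.app F

/-- Cohomology sheaves of `pD`. -/
noncomputable def hdPDIso (E : DCoh.D X) (i : ℤ) :
    DCoh.HD ((pD f).obj E) i ≅ (Scheme.Modules.pushforward f).obj (DCoh.HD E i) :=
  (mapDCHomologyIso (Scheme.Modules.pushforward f) i).app E

lemma isZero_of_push {M : X.Modules} (h : IsZero ((Scheme.Modules.pushforward f).obj M)) :
    IsZero M :=
  isZero_of_stalk M fun x => by
    haveI : Subsingleton ((stalkAb (X := X) x).obj M) :=
      AddCommGrpCat.subsingleton_of_isZero (((stalkAb (X := Y) (f.base x)).map_isZero h).of_iso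
        ((stalkPushIso f x).app M).symm)
    haveI : Subsingleton ((DerSch.stalkFunctor X x).obj M) := ‹_›
    exact ModuleCat.isZero_of_subsingleton _

/-- `pD` on a module in degree zero. -/
noncomputable def pDSingle (M : X.Modules) :
    (pD f).obj (DCoh.inD X M) ≅ DCoh.inD Y ((Scheme.Modules.pushforward f).obj M) :=
  ((Scheme.Modules.pushforward f).mapDerivedCategorySingleFunctor 0).app M

/-- `pD` commutes with restriction to opens. -/
noncomputable def pDRho (V : Y.Opens) (E : DCoh.D X) :
    (rho V.ι).obj ((pD f).obj E) ≅ (pD (f ∣_ V)).obj ((rho (f ⁻¹ᵁ V).ι).obj E) :=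
  (rho V.ι).mapIso ((pD f).mapIso (repIso E).symm ≪≫ pDQ f _) ≪≫ (rhoQ V.ι).app _ ≪≫
    DerivedCategory.Q.mapIso
      ((NatIso.mapHomologicalComplex (pushRestrictIso f V) (ComplexShape.up ℤ)).app _) ≪≫
    (pDQ (f ∣_ V) ((rCx (f ⁻¹ᵁ V).ι).obj (DerivedCategory.Q.objPreimage E))).symm ≪≫
    (pD (f ∣_ V)).mapIso (((rhoQ (f ⁻¹ᵁ V).ι).app _).symm ≪≫
      (rho (f ⁻¹ᵁ V).ι).mapIso (repIso E))

end Exact

/-- `pD` of a composite. -/
noncomputable def pDComp (f : X ⟶ Y) (g : Y ⟶ Z) (h : X ⟶ Z) [IsClEmb f] [IsClEmb g] [IsClEmb h]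
    (w : f ≫ g = h) (E : DCoh.D X) : (pD g).obj ((pD f).obj E) ≅ (pD h).obj E :=
  (pD g).mapIso ((pD f).mapIso (repIso E).symm ≪≫ pDQ f _) ≪≫ pDQ g _ ≪≫
    DerivedCategory.Q.mapIso ((NatIso.mapHomologicalComplex
      (Scheme.Modules.pushforwardComp f g ≪≫ Scheme.Modules.pushforwardCongr w)
      (ComplexShape.up ℤ)).app _) ≪≫
    (pDQ h _).symm ≪≫ (pD h).mapIso (repIso E)

/-- `pD` of equal morphisms. -/
noncomputable def pDCongr {f g : X ⟶ Y} [IsClEmb f] [IsClEmb g] (w : f = g) (E : DCoh.D X) :
    (pD f).obj E ≅ (pD g).obj E :=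
  (pD f).mapIso (repIso E).symm ≪≫ pDQ f _ ≪≫
    DerivedCategory.Q.mapIso ((NatIso.mapHomologicalComplex
      (Scheme.Modules.pushforwardCongr w) (ComplexShape.up ℤ)).app _) ≪≫
    (pDQ g _).symm ≪≫ (pD g).mapIso (repIso E)

end Groth.Agent.RelPC13
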