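import Groth.Agent.RelPC13.Push
import Groth.Agent.KFlatLib.Scheme.AffinePush

/-!
# The derived direct image along a closed embedding of spaces
-/

set_option linter.style.haveILetI false
set_option backward.isDefEq.respectTransparency false

universe u

open CategoryTheory CategoryTheory.Limits AlgebraicGeometry TopologicalSpace
open Groth.Agent.KFlatLib

attribute [local instance] HasDerivedCategory.standard

namespace Groth.Agent.RelPC13

variable {X Y : Scheme.{u}} (f : X ⟶ Y)

/-- `Rf_*` of a K-injective complex is computed termwise. -/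
lemma nonempty_rpush_kInjective_iso [DCoh.HasRpush f] (I : CochainComplex X.Modules ℤ)
    [I.IsKInjective] :
    Nonempty ((DCoh.Rpush f).obj (DerivedCategory.Q.obj I) ≅
      DerivedCategory.Q.obj (((Scheme.Modules.pushforward f).mapHomologicalComplex _).obj I)) := by
  let qI := (HomotopyCategory.quotient X.Modules (ComplexShape.up ℤ)).obj I
  let α := (DCoh.pushKh f).totalRightDerivedUnit DerivedCategory.Qh
    (HomotopyCategory.quasiIso X.Modules (ComplexShape.up ℤ))
  haveI : IsIso (α.app qI) := isIso_unit_of_kInjective f I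
  exact ⟨(DCoh.Rpush f).mapIso ((DerivedCategory.quotientCompQhIso X.Modules).app I).symm ≪≫
    (asIso (α.app qI)).symm ≪≫
    DerivedCategory.Qh.mapIso
      (((Scheme.Modules.pushforward f).mapHomotopyCategoryFactors (ComplexShape.up ℤ)).app I) ≪≫
    (DerivedCategory.quotientCompQhIso Y.Modules).app _⟩

/-- Along a closed embedding of spaces `Rf_*` is `f_*` applied termwise. -/
theorem nonempty_rpush_pD_iso [IsClEmb f] [DCoh.HasRpush f] (E : DCoh.D X) :
    Nonempty ((DCoh.Rpush f).obj E ≅ (pD f).obj E) := by
  obtain ⟨I, s, hI, hs⟩ := exists_kInjective_res (DerivedCategory.Q.objPreimage E)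
  haveI := hI
  haveI := hs
  let e : DerivedCategory.Q.obj I ≅ E :=
    (asIso (DerivedCategory.Q.map s)).symm ≪≫ DerivedCategory.Q.objObjPreimageIso E
  obtain ⟨e'⟩ := nonempty_rpush_kInjective_iso f I
  exact ⟨(DCoh.Rpush f).mapIso e.symm ≪≫ e' ≪≫ (pDQ f I).symm ≪≫ (pD f).mapIso e⟩

end Groth.Agent.RelPC13
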