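import Groth.Agent.RelPC13.PushTilde
import Groth.Agent.KFlatLib.Scheme.RHomLocal
import Groth.Agent.KFlatLib.Scheme.TildeD

/-!
# The chart test in terms of complexes of modules
-/

set_option linter.style.haveILetI false
set_option backward.isDefEq.respectTransparency false
set_option backward.isDefEq.respectTransparency.types false

universe u

open CategoryTheory CategoryTheory.Limits AlgebraicGeometry TopologicalSpace Opposite MvPolynomial
open Groth.Agent.KFlatLib

attribute [local instance] HasDerivedCategory.standard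

namespace Groth.Agent.RelPC13

section Ring

variable {A B : CommRingCat.{u}} (g : A ⟶ B) [IsClEmb (Spec.map g)]

/-- `f_*` of `M^~` on derived categories. -/
noncomputable def pDTilde (M : Dual.D B) :
    (pD (Spec.map g)).obj ((DCoh.tildeD B).obj M) ≅
      (DCoh.tildeD A).obj ((DRing.restrictD g.hom).obj M) :=
  let R := ModuleCat.restrictScalars.{u} g.hom
  let K := DerivedCategory.Q.objPreimage M
  let e : DerivedCategory.Q.obj K ≅ M := DerivedCategory.Q.objObjPreimageIso M
  let e₃ : ((Scheme.Modules.pushforward (Spec.map g)).mapHomologicalComplex (ComplexShape.up ℤ)).obj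
        (((tilde.functor B).mapHomologicalComplex (ComplexShape.up ℤ)).obj K) ≅
      ((tilde.functor A).mapHomologicalComplex (ComplexShape.up ℤ)).obj
        ((R.mapHomologicalComplex (ComplexShape.up ℤ)).obj K) :=
    HomologicalComplex.Hom.isoOfComponents (fun n => (pushTildeIso g).app (K.X n))
      (fun i j _ => ((pushTildeIso g).hom.naturality (K.d i j)).symm)
  (pD (Spec.map g)).mapIso ((DCoh.tildeD B).mapIso e.symm ≪≫
      (tilde.functor B).mapDerivedCategoryFactors.app K) ≪≫
    pDQ (Spec.map g) _ ≪≫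
    DerivedCategory.Q.mapIso e₃ ≪≫
    ((tilde.functor A).mapDerivedCategoryFactors.app
      ((R.mapHomologicalComplex (ComplexShape.up ℤ)).obj K)).symm ≪≫
    (DCoh.tildeD A).mapIso ((R.mapDerivedCategoryFactors.app K).symm ≪≫
      (DRing.restrictD g.hom).mapIso e)

end Ring

variable {X : Scheme.{u}} {U : X.Opens} {E : DCoh.D X}

/-- The comparison of the prelude's transported complex with the restriction. -/
noncomputable def pDIsoSpecQ (hU : IsAffineOpen U) (G : CochainComplex X.Modules ℤ)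
    (eG : DCoh.toD X G ≅ E) :
    (pD hU.isoSpec.hom).obj ((rho U.ι).obj E) ≅
      DCoh.toD _ ((DerSch.pushCx hU.isoSpec.hom).obj ((DCoh.restrictCx U).obj G)) :=
  (pD hU.isoSpec.hom).mapIso ((rho U.ι).mapIso eG.symm ≪≫ (rhoQ U.ι).app G) ≪≫ pDQ _ _

/-- The test through the module of sections. -/
theorem spc_iff_ring (hU : IsAffineOpen U) {Q : Type u} [CommRing Q] (χ : Q →+* Γ(X, U))
    (hχ : Function.Surjective χ) (m : ℤ) (M : Dual.D Γ(X, U))
    [PreservesFiniteLimits (tilde.functor Γ(X, U))]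
    (eM : (DCoh.tildeD Γ(X, U)).obj M ≅ (pD hU.isoSpec.hom).obj ((rho U.ι).obj E)) :
    SPC m E U χ ↔ DRing.IsPseudoCoherent Q m ((DRing.restrictD χ).obj M) := by
  haveI := isClEmb_imm hU hχ
  haveI : IsClosedImmersion (Spec.map (CommRingCat.ofHom χ)) :=
    IsClosedImmersion.spec_of_surjective _ hχ
  rw [spc_iff_locPC]
  haveI : PreservesFiniteLimits (tilde.functor (CommRingCat.of Q)) := QCoh.tilde_preservesFiniteLimits
  let e : (immD U χ).obj E ≅ (DCoh.tildeD (CommRingCat.of Q)).obj ((DRing.restrictD χ).obj M) :=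
    (pDComp hU.isoSpec.hom (Spec.map (CommRingCat.ofHom χ)) (imm U χ) rfl _).symm ≪≫
      (pD (Spec.map (CommRingCat.ofHom χ))).mapIso eM.symm ≪≫ pDTilde (CommRingCat.ofHom χ) M
  exact (Iff.intro (fun h => LocPC.of_iso e h) fun h => LocPC.of_iso e.symm h).trans
    (locPC_tildeD_iff m _)

variable {S : Scheme.{u}} {f : X ⟶ S} [LocallyOfFiniteType f]

/-- The test on a pair of affine opens is ring-level relative pseudo-coherence. -/
theorem pcOn_iff_ring (hU : IsAffineOpen U) {V : S.Opens} (hV : IsAffineOpen V) (h : U ≤ f ⁻¹ᵁ V)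
    (m : ℤ) (M : Dual.D Γ(X, U)) [PreservesFiniteLimits (tilde.functor Γ(X, U))]
    (eM : (DCoh.tildeD Γ(X, U)).obj M ≅ (pD hU.isoSpec.hom).obj ((rho U.ι).obj E)) :
    PCOn f m E U V ↔ (letI := (f.appLE V U h).hom.toAlgebra
      DerCA.IsRelPseudoCoherent Γ(S, V) Γ(X, U) m M) := by
  letI := (f.appLE V U h).hom.toAlgebra
  obtain ⟨n, φ, hφ⟩ := exists_chart h (f.finiteType_appLE hV hU h)
  let α : MvPolynomial (Fin n) Γ(S, V) →ₐ[Γ(S, V)] Γ(X, U) :=
    { φ with commutes' := RingHom.congr_fun hφ.2 }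
  refine Iff.trans ?_ (H9Misc.DRingRelPC.iff_via α hφ.1 M m).symm
  exact Iff.trans ⟨fun hp => hp.2 n φ hφ, fun hp => pcOn_of_chart hU hφ hp⟩
    (spc_iff_ring hU φ hφ.1 m M eM)

theorem exists_sections_model (hE : DCoh.IsQCohD E) (hU : IsAffineOpen U)
    [PreservesFiniteLimits (tilde.functor Γ(X, U))] :
    ∃ M : Dual.D Γ(X, U),
      Nonempty ((DCoh.tildeD Γ(X, U)).obj M ≅ (pD hU.isoSpec.hom).obj ((rho U.ι).obj E)) :=
  exists_tildeD_iso fun i => isQCoh_of_iso (hdPDIso hU.isoSpec.hom _ i).symm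
    (QCoh.isQCoh_pushforward _ (isQCohD_rho U.ι hE i))

end Groth.Agent.RelPC13
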