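import Groth.Agent.RelPC13.Imm
import Groth.Prelude.Def_DerSch2
import Mathlib.AlgebraicGeometry.Morphisms.ClosedImmersion

/-!
# Pseudo-coherence on charts

`SPC m E U χ`: for a ring map `χ : Q → Γ(X, U)` the pushforward of `E|_U` to `Spec Q` is
`m`-pseudo-coherent.
-/

set_option linter.style.haveILetI false
set_option backward.isDefEq.respectTransparency false
set_option backward.isDefEq.respectTransparency.types false

universe u

open CategoryTheory CategoryTheory.Limits AlgebraicGeometry TopologicalSpace Opposite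
open Groth.Agent.KFlatLib Groth.Agent.H9Misc.DRingRelPC

attribute [local instance] HasDerivedCategory.standard

namespace Groth.Agent.RelPC13

variable {X : Scheme.{u}}

/-- The morphism `U ⟶ Spec Q` given by a ring map `Q → Γ(X, U)`. -/
noncomputable def imm (U : X.Opens) {Q : Type u} [CommRing Q] (χ : Q →+* Γ(X, U)) :
    (U : Scheme.{u}) ⟶ Spec (CommRingCat.of Q) :=
  U.toSpecΓ ≫ Spec.map (CommRingCat.ofHom χ)

variable {U U' : X.Opens} {Q Q' : Type u} [CommRing Q] [CommRing Q'] {m : ℤ} {E : DCoh.D X}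

lemma imm_comp (χ : Q →+* Γ(X, U)) (θ : Q' →+* Q) :
    imm U χ ≫ Spec.map (CommRingCat.ofHom θ) = imm U (χ.comp θ) := by
  simp only [imm, Category.assoc, ← Spec.map_comp]
  rfl

lemma imm_res (h : U' ≤ U) (χ : Q →+* Γ(X, U)) :
    X.homOfLE h ≫ imm U χ = imm U' ((X.presheaf.map (homOfLE h).op).hom.comp χ) := by
  simp only [imm, ← Scheme.Opens.toSpecΓ_SpecMap_presheaf_map_assoc _ _ h, ← Spec.map_comp]
  rfl

lemma isClosedImmersion_imm (hU : IsAffineOpen U) {χ : Q →+* Γ(X, U)} (hχ : Function.Surjective χ) :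
    IsClosedImmersion (imm U χ) := by
  haveI : IsClosedImmersion (Spec.map (CommRingCat.ofHom χ)) := IsClosedImmersion.spec_of_surjective _ hχ
  haveI : IsIso U.toSpecΓ := inferInstanceAs (IsIso hU.isoSpec.hom)
  unfold imm
  infer_instance

/-- The pushforward of `E|_U` to `Spec Q` is `m`-pseudo-coherent. -/
def SPC (m : ℤ) (E : DCoh.D X) (U : X.Opens) {Q : Type u} [CommRing Q] (χ : Q →+* Γ(X, U)) : Prop :=
  ∃ _ : IsClEmb (imm U χ), IPC m E U.ι (imm U χ)

lemma isClEmb_imm (hU : IsAffineOpen U) {χ : Q →+* Γ(X, U)} (hχ : Function.Surjective χ) :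
    IsClEmb (imm U χ) :=
  haveI := isClosedImmersion_imm hU hχ
  isClEmb_of_isClosedImmersion _

lemma SPC.of_iso {E' : DCoh.D X} (e : E ≅ E') {χ : Q →+* Γ(X, U)} (h : SPC m E U χ) :
    SPC m E' U χ :=
  ⟨h.1, @IPC.of_iso _ _ _ _ _ _ _ _ h.1 _ e h.2⟩

/-- The prelude's test on a chart. -/
theorem chartPC_iff {S : Scheme.{u}} {V : S.Opens} {n : ℕ}
    (φ : MvPolynomial (Fin n) Γ(S, V) →+* Γ(X, U)) (hc : IsClEmb (imm U φ)) (E : DCoh.D X) :
    DerSch.ChartPC m E U V φ ↔ SPC m E U φ := by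
  let c := imm U φ
  let e : ∀ (G : CochainComplex X.Modules ℤ), (DCoh.toD X G ≅ E) →
      ((pD c).obj ((rho U.ι).obj E) ≅ DCoh.toD _ ((DerSch.pushCx c).obj ((DCoh.restrictCx U).obj G))) :=
    fun G eG => (pD c).mapIso ((rho U.ι).mapIso eG.symm ≪≫ (rhoQ U.ι).app G) ≪≫ pDQ c _
  constructor
  · intro h
    refine ⟨hc, LocPC.of_iso (e _ (repIso E)).symm ?_⟩
    exact (isPseudoCoherentD_iff m _).1 (h _ ⟨repIso E⟩)
  · rintro ⟨_, h⟩ G ⟨eG⟩
    exact (isPseudoCoherentD_iff m _).2 (LocPC.of_iso (e G eG) h)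

/-- Changing the ring by a transfer map. -/
theorem spc_comp_iff (hU : IsAffineOpen U) {χ : Q →+* Γ(X, U)} (hχ : Function.Surjective χ)
    (θ : Q' →+* Q) (hθ : Function.Surjective θ) (hpc : PCHom θ)
    {χ' : Q' →+* Γ(X, U)} (hχ' : χ.comp θ = χ') :
    SPC m E U χ' ↔ SPC m E U χ := by
  subst hχ'
  haveI := isClEmb_imm hU hχ
  haveI := isClEmb_imm hU (χ := χ.comp θ) (hχ.comp hθ)
  haveI : IsClosedImmersion (Spec.map (CommRingCat.ofHom θ)) :=
    IsClosedImmersion.spec_of_surjective _ hθ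
  have h := ipc_comp_iff (m := m) (E := E) (j := U.ι) (pcPush_spec (CommRingCat.ofHom θ) hpc)
    (imm_comp χ θ)
  exact ⟨fun hh => ⟨inferInstance, h.1 hh.2⟩, fun hh => ⟨inferInstance, h.2 hh.2⟩⟩

/-- The preimage of a basic open. -/
lemma imm_preimage_basicOpen (hU : IsAffineOpen U) (χ : Q →+* Γ(X, U)) (G : Q) (y : U) :
    (imm U χ).base y ∈ PrimeSpectrum.basicOpen G ↔ (y : X) ∈ X.basicOpen (χ G) := by
  have h1 : hU.fromSpec.base (U.toSpecΓ.base y) = (y : X) := by
    rw [← Scheme.Hom.comp_apply, hU.toSpecΓ_fromSpec]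
    rfl
  rw [← h1]
  change U.toSpecΓ.base y ∈ PrimeSpectrum.basicOpen (χ G) ↔
    U.toSpecΓ.base y ∈ hU.fromSpec ⁻¹ᵁ X.basicOpen (χ G)
  rw [hU.fromSpec_preimage_basicOpen]

lemma openSq_away (hU : IsAffineOpen U) (χ : Q →+* Γ(X, U)) (G : Q) [IsClEmb (imm U χ)]
    (L : Type u) [CommRing L] [Algebra Q L] [IsLocalization.Away G L]
    (hU' : U' = X.basicOpen (χ G)) (hle : U' ≤ U) (χ' : L →+* Γ(X, U'))
    (hcomp : χ'.comp (algebraMap Q L) = (X.presheaf.map (homOfLE hle).op).hom.comp χ) :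
    OpenSq U.ι (imm U χ) (X.homOfLE hle) (Spec.map (CommRingCat.ofHom (algebraMap Q L)))
      (imm U' χ') U'.ι where
  j_eq := X.homOfLE_ι hle
  sq := by rw [imm_comp, imm_res, hcomp]
  range := by
    ext y
    have hw : Set.range (Spec.map (CommRingCat.ofHom (algebraMap Q L))).base =
        (PrimeSpectrum.basicOpen G : Set (PrimeSpectrum Q)) :=
      PrimeSpectrum.localization_away_comap_range L G
    rw [Set.mem_preimage, hw, SetLike.mem_coe, imm_preimage_basicOpen hU, ← hU']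
    refine ⟨?_, fun hy => ⟨⟨y.1, hy⟩, Subtype.ext ?_⟩⟩
    · rintro ⟨z, rfl⟩
      rw [← Scheme.Opens.ι_apply, ← Scheme.Hom.comp_apply, X.homOfLE_ι hle]
      exact z.2
    · rw [← Scheme.Opens.ι_apply, ← Scheme.Hom.comp_apply, X.homOfLE_ι hle]
      rfl

lemma basicOpen_isAffine (hU : IsAffineOpen U) (g : Γ(X, U)) (hU' : U' = X.basicOpen g) :
    IsAffineOpen U' := hU' ▸ hU.basicOpen g

/-- Existence and surjectivity of the localized map. -/
lemma exists_awayMap (hU : IsAffineOpen U) {χ : Q →+* Γ(X, U)} (hχ : Function.Surjective χ) (G : Q)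
    (L : Type u) [CommRing L] [Algebra Q L] [IsLocalization.Away G L]
    (hU' : U' = X.basicOpen (χ G)) (hle : U' ≤ U) :
    ∃ χ' : L →+* Γ(X, U'), Function.Surjective χ' ∧
      χ'.comp (algebraMap Q L) = (X.presheaf.map (homOfLE hle).op).hom.comp χ := by
  subst hU'
  let r := (X.presheaf.map (homOfLE hle).op).hom
  letI : Algebra Γ(X, U) Γ(X, X.basicOpen (χ G)) := r.toAlgebra
  haveI : IsLocalization.Away (χ G) Γ(X, X.basicOpen (χ G)) := hU.isLocalization_basicOpen _
  refine ⟨IsLocalization.Away.lift G (g := r.comp χ) (IsLocalization.Away.algebraMap_isUnit (χ G)), ?_,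
    IsLocalization.Away.lift_comp G _⟩
  intro z
  obtain ⟨⟨a, _, ⟨k, rfl⟩⟩, hz⟩ := IsLocalization.surj (Submonoid.powers (χ G)) z
  obtain ⟨b, rfl⟩ := hχ a
  let u : L := IsLocalization.mk' L b ⟨G ^ k, pow_mem (Submonoid.mem_powers G) k⟩
  refine ⟨u, ?_⟩
  have hu : u * algebraMap Q L (G ^ k) = algebraMap Q L b := IsLocalization.mk'_spec L b _
  have := congrArg (IsLocalization.Away.lift G (g := r.comp χ)
    (IsLocalization.Away.algebraMap_isUnit (χ G))) hu
  rw [map_mul, IsLocalization.Away.lift_eq, IsLocalization.Away.lift_eq, RingHom.comp_apply,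
    RingHom.comp_apply, map_pow] at this
  have hunit : IsUnit (r (χ G ^ k)) := by
    rw [map_pow]
    exact (IsLocalization.Away.algebraMap_isUnit (χ G)).pow k
  refine hunit.mul_left_injective ?_
  exact this.trans hz.symm

/-- Restricting to a basic open. -/
theorem SPC.away (hU : IsAffineOpen U) (χ : Q →+* Γ(X, U)) (G : Q)
    (L : Type u) [CommRing L] [Algebra Q L] [IsLocalization.Away G L]
    (hU' : U' = X.basicOpen (χ G)) (hle : U' ≤ U) {χ' : L →+* Γ(X, U')}
    (hs : Function.Surjective χ')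
    (hcomp : χ'.comp (algebraMap Q L) = (X.presheaf.map (homOfLE hle).op).hom.comp χ)
    (h : SPC m E U χ) : SPC m E U' χ' := by
  obtain ⟨_, h⟩ := h
  haveI := isClEmb_imm (basicOpen_isAffine hU _ hU') hs
  haveI := IsOpenImmersion.of_isLocalization (R := CommRingCat.of Q) (S := L) G
  exact ⟨inferInstance, IPC.openSq (openSq_away hU χ G L hU' hle χ' hcomp) h⟩

/-- Glueing from basic opens. -/
theorem spc_of_away (hU : IsAffineOpen U) {χ : Q →+* Γ(X, U)} (hχ : Function.Surjective χ)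
    {ι : Type*} (G : ι → Q) (hG : Ideal.span (Set.range fun i => χ (G i)) = ⊤)
    (h : ∀ i, ∃ (χ' : Localization.Away (G i) →+* Γ(X, X.basicOpen (χ (G i)))),
      Function.Surjective χ' ∧
      χ'.comp (algebraMap Q _) = (X.presheaf.map (homOfLE (X.basicOpen_le (χ (G i)))).op).hom.comp χ ∧
      SPC m E (X.basicOpen (χ (G i))) χ') : SPC m E U χ := by
  haveI := isClEmb_imm hU hχ
  refine ⟨inferInstance, ipc_of_local m E _ _ fun y => ?_⟩
  have hcov := hU.iSup_basicOpen_eq_self_iff (s := Set.range fun i => χ (G i)) |>.2 hG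
  obtain ⟨⟨_, i, rfl⟩, hy⟩ := Opens.mem_iSup.1 (hcov.ge y.2)
  obtain ⟨χ', hs, hcomp, _, hi⟩ := h i
  let w := Spec.map (CommRingCat.ofHom (algebraMap Q (Localization.Away (G i))))
  haveI : IsOpenImmersion w :=
    IsOpenImmersion.of_isLocalization (R := CommRingCat.of Q) (S := Localization.Away (G i)) (G i)
  refine ⟨w.opensRange, ?_, (ipc_openSq_iff (openSq_away hU χ (G i) _ rfl _ χ' hcomp)).1 hi⟩
  change (imm U χ).base y ∈ Set.range w.base
  rw [show Set.range w.base = (PrimeSpectrum.basicOpen (G i) : Set (PrimeSpectrum Q)) from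
    PrimeSpectrum.localization_away_comap_range _ (G i), SetLike.mem_coe, imm_preimage_basicOpen hU]
  exact hy

end Groth.Agent.RelPC13
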