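import Groth.Agent.RelPC13.RelExt
import Groth.Agent.PerfMor.SrcDescent

/-!
# Relative pseudo-coherence descends along fppf algebras
-/

set_option linter.style.haveILetI false
set_option backward.isDefEq.respectTransparency false
set_option backward.isDefEq.respectTransparency.types false
set_option maxHeartbeats 800000

universe u

open CategoryTheory CategoryTheory.Limits MvPolynomial
open scoped TensorProduct

attribute [local instance] HasDerivedCategory.standard

namespace Groth.Agent.RelPC13

open H9Misc H9Misc.DRingLTensor H9Misc.DRingRelPC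

variable {R A : Type u} [CommRing R] [CommRing A] (φ : R →+* A) (K : DRing.Cx A) (m : ℤ)
  (hKb : ∃ b : ℤ, ∀ i : ℤ, b < i → IsZero (K.X i)) (hKf : ∀ i, Module.Flat A (K.X i))

/-- The descent step: a flat algebra over a polynomial ring lifting a piece of the source. -/
theorem relExt_of_lift_step {Pb Bb Db E : Type u} [CommRing Pb] [CommRing Bb] [CommRing Db] [CommRing E]
    [Algebra Pb Bb] [Algebra Pb Db] [Algebra Db E] [Algebra Bb E] [Algebra Pb E] [IsScalarTower Pb Db E]
    [IsScalarTower Pb Bb E] [Algebra.IsPushout Pb Db Bb E]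
    [Module.FaithfullyFlat Pb Db] [Algebra.FinitePresentation Pb Db]
    (σ : R →+* Pb) (hσ : PCMor.Q σ) (f : A →+* Bb) (hσf : (algebraMap Pb Bb).comp σ = f.comp φ)
    (hsurj : Function.Surjective (algebraMap Pb Bb))
    (h : RelExt φ K m ((algebraMap Bb E).comp f)) : RelExt φ K m f := by
  have hsE : Function.Surjective (algebraMap Db E) := fun z => by
    induction z using (Algebra.IsPushout.out (R := Pb) (S := Db) (R' := Bb) (S' := E)).inductionOn with
    | zero => exact ⟨0, map_zero _⟩
    | tmul b =>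
      obtain ⟨p, rfl⟩ := hsurj b
      exact ⟨algebraMap Pb Db p, by
        show _ = algebraMap Bb E (algebraMap Pb Bb p)
        rw [← IsScalarTower.algebraMap_apply, ← IsScalarTower.algebraMap_apply]⟩
    | smul s z hz =>
      obtain ⟨d, rfl⟩ := hz
      exact ⟨s * d, by rw [map_mul, Algebra.smul_def]⟩
    | add x y hx hy =>
      obtain ⟨⟨a, rfl⟩, b, rfl⟩ := hx, hy
      exact ⟨a + b, map_add _ _ _⟩
  obtain ⟨w, β, hβC, hβs, hβ⟩ := hσ.comp (PerfMor.q_of_flat_fp Pb Db)
  obtain ⟨w', β', hβ'C, hβ's, hβ'⟩ := hσ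
  have hC : ((algebraMap Db E).comp β).comp MvPolynomial.C = ((algebraMap Bb E).comp f).comp φ := by
    rw [RingHom.comp_assoc, hβC, RingHom.comp_assoc, ← hσf, ← RingHom.comp_assoc, ← RingHom.comp_assoc,
      ← IsScalarTower.algebraMap_eq, ← IsScalarTower.algebraMap_eq]
  have h1 := (pc_iff_comp hβ (algebraMap Db E) _ rfl _ m).2 (h.via _ (hsE.comp hβs) hC)
  have hsq : (algebraMap Bb E).comp (algebraMap Pb Bb) = (algebraMap Db E).comp (algebraMap Pb Db) := by
    rw [← IsScalarTower.algebraMap_eq, ← IsScalarTower.algebraMap_eq]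
  have h2 := pc_bc_descent hsq (fun M => isIso_bcMap hsq rfl rfl rfl rfl M)
    (RingHom.faithfullyFlat_algebraMap_iff.2 inferInstance)
    (DRingPC.of_iso ((DRing.restrictD (algebraMap Db E)).mapIso
      (DerivedCategory.Q.mapIso (extCCompIso f (algebraMap Bb E) K)).symm) h1)
  exact ⟨w', (algebraMap Pb Bb).comp β', hsurj.comp hβ's, by rw [RingHom.comp_assoc, hβ'C, hσf],
    (pc_iff_comp hβ' (algebraMap Pb Bb) _ rfl _ m).1 h2⟩

include hKb hKf in
/-- Descent along a standard étale algebra, near a point of the image. -/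
theorem exists_away_relExt_of_standardEtale {C : Type u} [CommRing C] [Algebra A C]
    [Algebra.IsStandardEtale A C] (hφ : φ.FiniteType) (h : RelExt φ K m (algebraMap A C))
    (Q : PrimeSpectrum C) :
    ∃ b : A, b ∉ Q.asIdeal.comap (algebraMap A C) ∧
      RelExt φ K m (algebraMap A (Localization.Away b)) := by
  haveI : Nontrivial A := (Ideal.Quotient.mk (Q.asIdeal.comap (algebraMap A C))).domain_nontrivial
  obtain ⟨n, π, hπC, hπ⟩ := PCMor.exists_surjective hφ
  let P := MvPolynomial (Fin n) R
  letI : Algebra P A := π.toAlgebra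
  letI : Algebra P C := ((algebraMap A C).comp π).toAlgebra
  haveI : IsScalarTower P A C := .of_algebraMap_eq fun _ => rfl
  obtain ⟨D, _, _, _, _, ⟨δ⟩, huniv⟩ := PerfMor.exists_flat_lift (P := P) (B := A) (C := C) hπ
  obtain ⟨b, hb, hff⟩ := PerfMor.exists_ff_away P D ⟨Q.asIdeal.comap δ.toRingHom, Ideal.comap_isPrime _ _⟩
  refine ⟨π b, fun hm => hb ?_, ?_⟩
  · show δ (algebraMap P D b) ∈ Q.asIdeal
    rw [δ.commutes]
    exact hm
  let Bb := Localization.Away (π b)
  let Pb := Localization.Away b
  let Db := Pb ⊗[P] D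
  letI : Algebra Pb Bb := (IsLocalization.Away.map Pb Bb π b).toAlgebra
  haveI := hff
  have hmap : (algebraMap Pb Bb).comp (algebraMap P Pb) = (algebraMap A Bb).comp π := by
    rw [RingHom.algebraMap_toAlgebra, IsLocalization.Away.map, IsLocalization.map_comp]
  letI : Algebra Bb (Db ⊗[Pb] Bb) := Algebra.TensorProduct.rightAlgebra
  let σ : R →+* Pb := (algebraMap P Pb).comp MvPolynomial.C
  have hσ : PCMor.Q σ := (PerfMor.q_of_flat_fp R P).comp (PCMor.Q.away b)
  have hsurj : Function.Surjective (algebraMap Pb Bb) := by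
    rw [RingHom.algebraMap_toAlgebra]
    intro z
    obtain ⟨⟨a, _, ⟨k, rfl⟩⟩, hz⟩ := IsLocalization.surj (Submonoid.powers (π b)) z
    obtain ⟨a', rfl⟩ := hπ a
    refine ⟨IsLocalization.mk' Pb a' ⟨b ^ k, pow_mem (Submonoid.mem_powers b) k⟩, ?_⟩
    rw [IsLocalization.Away.map, IsLocalization.map_mk', IsLocalization.mk'_eq_iff_eq_mul, ← hz, map_pow]
    simp
  refine relExt_of_lift_step φ K m (Db := Db) (E := Db ⊗[Pb] Bb) σ hσ (algebraMap A Bb) ?_ hsurj ?_
  · rw [← RingHom.comp_assoc, hmap, RingHom.comp_assoc, hπC]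
  obtain ⟨γ, hγ⟩ := huniv _ ((algebraMap Bb (Db ⊗[Pb] Bb)).comp (algebraMap A Bb))
    ((Algebra.TensorProduct.includeLeftRingHom (R := Pb) (A := Db) (B := Bb)).comp
      (Algebra.TensorProduct.includeRight (R := P) (A := Pb) (B := D)).toRingHom) (by
    refine RingHom.ext fun p => ?_
    have h1 : Algebra.TensorProduct.includeRight (R := P) (A := Pb) (B := D) (algebraMap P D p) =
        algebraMap Pb Db (algebraMap P Pb p) := by
      rw [AlgHom.commutes]
      exact IsScalarTower.algebraMap_apply P Pb _ p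
    show Algebra.TensorProduct.includeLeftRingHom (Algebra.TensorProduct.includeRight (R := P)
      (A := Pb) (algebraMap P D p)) = _
    rw [h1, RingHom.comp_apply, RingHom.comp_apply]
    refine Eq.trans ?_ (show algebraMap Bb (Db ⊗[Pb] Bb) (algebraMap Pb Bb (algebraMap P Pb p)) =
      algebraMap Bb (Db ⊗[Pb] Bb) (algebraMap A Bb (π p)) from
      congrArg (algebraMap Bb (Db ⊗[Pb] Bb)) (RingHom.congr_fun hmap p))
    exact ((Algebra.TensorProduct.includeRight (R := Pb) (A := Db) (B := Bb)).commutes _).symm)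
  refine h.comp hKb hKf ((PerfMor.q_of_flat_fp A C).cancel ?_) hγ
  rw [hγ]
  exact (PCMor.Q.away (π b)).comp (PerfMor.q_base_flat_fp (Pb := Pb) (Bb := Bb) (Db := Db))

include hKb hKf in
/-- Descent along a faithfully flat algebra of finite presentation. -/
theorem relExt_descend_fppf {B : Type u} [CommRing B] [Algebra A B] [Module.FaithfullyFlat A B]
    [Algebra.FinitePresentation A B] (hφ : φ.FiniteType) (h : RelExt φ K m (algebraMap A B)) :
    RelExt φ K m (RingHom.id A) := by
  obtain ⟨S, _, _, hqf, hft, hSff, hSfp, ⟨σ⟩⟩ := Groth.Agent.S9432.result A B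
  have hS : RelExt φ K m (algebraMap A S) :=
    h.comp hKb hKf ((PerfMor.q_of_flat_fp A B).cancel (by
      rw [σ.comp_algebraMap]; exact PerfMor.q_of_flat_fp A S)) σ.comp_algebraMap
  clear h σ
  have key : ∀ p : PrimeSpectrum A, ∃ b : A, b ∉ p.asIdeal ∧
      RelExt φ K m (algebraMap A (Localization.Away b)) := by
    intro p
    obtain ⟨q, hq⟩ := PrimeSpectrum.comap_surjective_of_faithfullyFlat (A := A) (B := S) p
    haveI : q.asIdeal.LiesOver p.asIdeal := ⟨(congrArg PrimeSpectrum.asIdeal hq).symm⟩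
    obtain ⟨R', _, _, _, P', _, hP'p, e, he, M, _, hMP, -, heM, -, hfin, -⟩ :=
      Algebra.exists_etale_isIdempotentElem_forall_liesOver_eq p.asIdeal q.asIdeal
    let T := Localization.Away e
    haveI : Module.Finite R' T := hfin
    haveI : Algebra.FinitePresentation (R' ⊗[A] S) T := IsLocalization.Away.finitePresentation e
    haveI : Algebra.FinitePresentation R' T := Algebra.FinitePresentation.trans R' (R' ⊗[A] S) T
    haveI : Module.Flat (R' ⊗[A] S) T := IsLocalization.flat T (Submonoid.powers e)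
    haveI : Module.Flat R' T := Module.Flat.trans R' (R' ⊗[A] S) T
    haveI hdisj : (M.map (algebraMap (R' ⊗[A] S) T)).IsPrime :=
      IsLocalization.isPrime_of_isPrime_disjoint (Submonoid.powers e) _ _ ‹_›
        ((Ideal.disjoint_powers_iff_notMem_of_isPrime _).2 heM)
    obtain ⟨r, hr, hrff⟩ := PerfMor.exists_ff_away R' T ⟨_, hdisj⟩
    let R₁ := Localization.Away r
    let T₁ := R₁ ⊗[R'] T
    haveI : Module.FaithfullyFlat R₁ T₁ := hrff
    haveI : Algebra.FinitePresentation R₁ T₁ := inferInstance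
    haveI : Module.Finite R₁ T₁ := inferInstance
    haveI : Module.FinitePresentation R₁ T₁ := Module.FinitePresentation.of_finite_of_finitePresentation R₁ T₁
    haveI : Module.Projective R₁ T₁ := Module.Flat.projective_of_finitePresentation
    haveI : Algebra.Etale R' R₁ := Algebra.Etale.of_isLocalizationAway r
    haveI : Algebra.Etale A R₁ := Algebra.Etale.comp A R' R₁
    letI : Algebra A T₁ := ((algebraMap R₁ T₁).comp (algebraMap A R₁)).toAlgebra
    let j : S →+* T₁ := (Algebra.TensorProduct.includeRight (R := R') (A := R₁) (B := T)).toRingHom.comp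
      ((algebraMap (R' ⊗[A] S) T).comp (Algebra.TensorProduct.includeRight (R := A) (A := R') (B := S)).toRingHom)
    have hj : j.comp (algebraMap A S) = algebraMap A T₁ := RingHom.ext fun x => by
      have h1 : Algebra.TensorProduct.includeRight (R := A) (A := R') (B := S) (algebraMap A S x) =
          algebraMap R' (R' ⊗[A] S) (algebraMap A R' x) := by
        rw [AlgHom.commutes]
        rfl
      show Algebra.TensorProduct.includeRight (R := R') (A := R₁) (B := T) (algebraMap (R' ⊗[A] S) T
        (Algebra.TensorProduct.includeRight (R := A) (A := R') (algebraMap A S x))) = _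
      rw [h1, ← IsScalarTower.algebraMap_apply R' (R' ⊗[A] S) T, AlgHom.commutes,
        IsScalarTower.algebraMap_apply R' R₁ T₁, ← IsScalarTower.algebraMap_apply A R' R₁]
      rfl
    have hqj : PCMor.Q j := (PerfMor.q_of_flat_fp A S).cancel (by
      rw [hj]
      exact (PerfMor.q_of_flat_fp A R₁).comp (PerfMor.q_of_flat_fp R₁ T₁))
    have hT₁ : RelExt φ K m ((algebraMap R₁ T₁).comp (algebraMap A R₁)) := hS.comp hKb hKf hqj hj
    have hR₁ : RelExt φ K m (algebraMap A R₁) := RelExt.descend_finite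
      ((RingHom.finiteType_algebraMap.2 inferInstance).comp hφ) hT₁
    have hrP : r ∉ P' := fun hm => hr (by
      have h3 : Ideal.comap (algebraMap R' (R' ⊗[A] S)) M = P' := (hMP.over).symm
      rw [IsScalarTower.algebraMap_eq R' (R' ⊗[A] S) T, ← Ideal.comap_comap]
      exact Ideal.comap_mono Ideal.le_comap_map (h3.symm ▸ hm))
    let P₁ := P'.map (algebraMap R' R₁)
    haveI : P₁.IsPrime := IsLocalization.isPrime_of_isPrime_disjoint (Submonoid.powers r) _ _ ‹_›
      ((Ideal.disjoint_powers_iff_notMem_of_isPrime _).2 hrP)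
    obtain ⟨g, hg, hstd⟩ := Algebra.IsEtaleAt.exists_isStandardEtale (R := A) P₁
    haveI := hstd
    let C := Localization.Away g
    haveI : (P₁.map (algebraMap R₁ C)).IsPrime := IsLocalization.isPrime_of_isPrime_disjoint (Submonoid.powers g) _ _
      ‹_› ((Ideal.disjoint_powers_iff_notMem_of_isPrime _).2 hg)
    have hC : RelExt φ K m (algebraMap A C) :=
      hR₁.comp hKb hKf (PCMor.Q.away g) (IsScalarTower.algebraMap_eq A R₁ C).symm
    obtain ⟨b, hb, hbQ⟩ := exists_away_relExt_of_standardEtale φ K m hKb hKf hφ hC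
      ⟨P₁.map (algebraMap R₁ C), ‹_›⟩
    refine ⟨b, fun hm => hb ?_, hbQ⟩
    have h4 : algebraMap A R' b ∈ P' := by
      have := hP'p.over ▸ hm
      exact this
    rw [Ideal.mem_comap, IsScalarTower.algebraMap_apply A R₁ C, IsScalarTower.algebraMap_apply A R' R₁]
    exact Ideal.mem_map_of_mem _ (Ideal.mem_map_of_mem _ h4)
  choose b hb hbQ using key
  have hspan : Ideal.span (Set.range b) = ⊤ := by
    by_contra hne
    obtain ⟨M, hM, hle⟩ := Ideal.exists_le_maximal _ hne
    exact hb ⟨M, hM.isPrime⟩ (hle (Ideal.subset_span ⟨_, rfl⟩))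
  obtain ⟨t, hts, ht1⟩ := Submodule.mem_span_finite_of_mem_span
    (show (1 : A) ∈ Ideal.span (Set.range b) by rw [hspan]; trivial)
  let g : Fin t.card → A := fun i => (t.equivFin.symm i : A)
  have hg : Ideal.span (Set.range g) = ⊤ := by
    rw [Ideal.eq_top_iff_one]
    refine Ideal.span_mono ?_ ht1
    exact fun x hx => ⟨t.equivFin ⟨x, hx⟩, by simp [g]⟩
  refine RelExt.of_span (by rwa [RingHom.id_comp]) g hg fun i => ?_
  obtain ⟨p, hp⟩ := hts (t.equivFin.symm i).2
  rw [RingHom.comp_id, show g i = b p from hp.symm]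
  exact hbQ p

end Groth.Agent.RelPC13
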