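import Groth.Agent.RelPC13.Generalize
import Groth.Agent.RelPC13.ThickAmp
import Groth.Agent.H9Misc.DRingTorDim

/-!
# Relative tor amplitude at a point of a closed fibre
-/

set_option linter.style.haveILetI false
set_option backward.isDefEq.respectTransparency false
set_option backward.isDefEq.respectTransparency.types false

universe u

open CategoryTheory CategoryTheory.Limits AlgebraicGeometry TopologicalSpace
open Groth.Agent.KFlatLib Groth.Agent.H9Misc

attribute [local instance] HasDerivedCategory.standard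

namespace Groth.Agent.RelPC13

variable {X X' Y Y' : Scheme.{u}}

/-- A bounded above flat resolution of the stalk of a pseudo-coherent object. -/
lemma exists_flat_stalk_res {E : DCoh.D X} (hE : LocPC 0 E) (x : X) :
    ∃ (c : ℤ) (P : DRing.Cx (X.presheaf.stalk x)) (ρ : P ⟶ (stalkCx x).obj (repK E)),
      QuasiIso ρ ∧ (∀ n, Module.Flat (X.presheaf.stalk x) (P.X n)) ∧
        ∀ n, c < n → IsZero (P.X n) := by
  let R := repK E
  let S := (stalkCx x).obj R
  obtain ⟨V, hVa, hxV⟩ : ∃ V : X.Opens, IsAffineOpen V ∧ x ∈ V := by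
    obtain ⟨V, hV, hx, -⟩ := TopologicalSpace.Opens.isBasis_iff_nbhd.1 X.isBasis_affineOpens
      (show x ∈ (⊤ : X.Opens) from trivial)
    exact ⟨V, hV, hx⟩
  haveI : CompactSpace (V : Scheme.{u}) := isCompact_iff_compactSpace.1 hVa.isCompact
  obtain ⟨c, hc⟩ := exists_bound_of_locPC (hE.restrict V.ι)
  obtain ⟨P, ρ, hρ, hflat, hz⟩ :=
    (ringCover (X.presheaf.stalk x)).exists_bounded_resolution S c fun n hn => by
      have h1 := (DerSch.stalkFunctor (V : Scheme.{u}) ⟨x, hxV⟩).map_isZero
        ((hc n hn).of_iso (restrictHDIso V.ι E n).symm)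
      exact ((isZero_stalk_of_restrict V.ι ⟨x, hxV⟩ h1).of_iso
        ((DerSch.stalkFunctor X _).mapIso
          ((hdQIso R n).symm ≪≫
            (DerivedCategory.homologyFunctor X.Modules n).mapIso (repKIso E)))).of_iso
        ((R.sc n).mapHomologyIso (DerSch.stalkFunctor X x))
  exact ⟨c, P, ρ, hρ, hflat, hz⟩

open IsLocalRing in
/-- Tor amplitude at a point over a closed subscheme of the base. -/
theorem hasTorAmplitudeAt_closed {f : X ⟶ Y} {f' : X' ⟶ Y'} {i : X ⟶ X'} {j : Y ⟶ Y'}
    [IsClosedImmersion i] [IsClosedImmersion j] [Flat f'] [LocallyOfFinitePresentation f']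
    (sq : IsPullback i f f' j) [DCoh.HasLpull i] (E' : DCoh.D X') (hE' : ∀ n : ℤ, LocPC n E')
    (F : CochainComplex X.Modules ℤ) (eF : DCoh.toD X F ≅ (DCoh.Lpull i).obj E') (x : X) {a b : ℤ}
    (h : DerSch.HasTorAmplitudeAt f a b F x) (G : CochainComplex X'.Modules ℤ)
    (eG : DCoh.toD X' G ≅ E') : DerSch.HasTorAmplitudeAt f' a b G (i.base x) := by
  let R := repK E'
  refine hasTorAmplitudeAt_of_iso f' (repKIso E' ≪≫ eG.symm) _ ?_
  obtain ⟨c, P, ρ, hρ, hflat, hz⟩ := exists_flat_stalk_res (hE' 0) (i.base x)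
  haveI := hρ
  haveI : P.IsStrictlyLE c := (CochainComplex.isStrictlyLE_iff _ _).2 hz
  have hP : DRingLTensor.IsKF P := DRingTor.isKF_of_flat hflat hz
  have hS : DRingLTensor.IsKF ((stalkCx (i.base x)).obj R) :=
    (kFlat_iff_stalk R).1 (isKFlat_repK E') (i.base x)
  let α := (f.stalkMap x).hom
  let α' := (f'.stalkMap (i.base x)).hom
  let φ := (sqMap sq.w x).hom
  let ψ := (i.stalkMap x).hom
  haveI : QuasiIso ((DRing.restrictCx α').map ρ) :=
    inferInstanceAs (QuasiIso
      (((ModuleCat.restrictScalars α').mapHomologicalComplex (ComplexShape.up ℤ)).map ρ))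
  haveI : IsIso (DerivedCategory.Q.map ((DRing.restrictCx α').map ρ)) :=
    (DerivedCategory.isIso_Q_map_iff_quasiIso _ _).2 inferInstance
  haveI : QuasiIso ((DRingLTensor.extC' ψ).map ρ) :=
    KFlatLib.quasiIso_extendScalars ψ ρ hP hS
  haveI : QuasiIso ((DRing.restrictCx α).map ((DRingLTensor.extC' ψ).map ρ)) :=
    inferInstanceAs (QuasiIso (((ModuleCat.restrictScalars α).mapHomologicalComplex (ComplexShape.up ℤ)).map
      ((DRingLTensor.extC' ψ).map ρ)))
  haveI : IsIso (DerivedCategory.Q.map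
      ((DRing.restrictCx α).map ((DRingLTensor.extC' ψ).map ρ))) :=
    (DerivedCategory.isIso_Q_map_iff_quasiIso _ _).2 inferInstance
  haveI : IsIso (DerivedCategory.Q.map ρ) :=
    (DerivedCategory.isIso_Q_map_iff_quasiIso _ _).2 inferInstance
  refine DRingTorFaithful.of_iso (asIso (DerivedCategory.Q.map ((DRing.restrictCx α').map ρ))) ?_
  have hψ : Function.Surjective ψ := i.stalkMap_surjective x
  have hφ : Function.Surjective φ := (j.stalkMap_surjective (f.base x)).comp
    (ConcreteCategory.bijective_of_isIso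
      (Y'.presheaf.stalkCongr (.of_eq (sq_apply sq.w x).symm)).hom).2
  have hw : ψ.comp α' = α.comp φ := congrArg CommRingCat.Hom.hom (sqMap_comp sq.w x)
  haveI : ∀ M, IsIso ((bcSquare α' α φ ψ hw).app M) :=
    isIso_bcSquare α' α φ ψ hw hφ hψ (ker_le_map_sqMap sq x)
  let e₂ : (DRingLTensor.extC' φ).obj ((DRing.restrictCx α').obj P) ≅
      (DRing.restrictCx α).obj ((DRingLTensor.extC' ψ).obj P) :=
    HomologicalComplex.Hom.isoOfComponents (fun n => asIso ((bcSquare α' α φ ψ hw).app (P.X n)))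
      fun k l _ => ((bcSquare α' α φ ψ hw).naturality (P.d k l)).symm
  have h0 : DRing.HasTorAmplitudeIn (Y.presheaf.stalk (f.base x)) a b
      (DRing.toD ((DRingLTensor.extC' φ).obj ((DRing.restrictCx α').obj P))) := by
    refine DRingTorFaithful.of_iso (DerivedCategory.Q.mapIso ((DRing.restrictCx α).mapIso
      (stalkPullCxIso i x R)) ≪≫ (asIso (DerivedCategory.Q.map
        ((DRing.restrictCx α).map ((DRingLTensor.extC' ψ).map ρ)))).symm ≪≫
        DerivedCategory.Q.mapIso e₂.symm) ?_
    exact hasTorAmplitudeAt_of_iso f (eF ≪≫ (lpullRepIso i E').symm) x h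
  have hfl : ∀ n, Module.Flat (Y'.presheaf.stalk (f'.base (i.base x)))
      (((DRing.restrictCx α').obj P).X n) := fun n => by
    letI := α'.toAlgebra
    haveI : Module.Flat (Y'.presheaf.stalk (f'.base (i.base x)))
      (X'.presheaf.stalk (i.base x)) := Flat.stalkMap f' (i.base x)
    letI : Module (Y'.presheaf.stalk (f'.base (i.base x))) (P.X n) := Module.compHom _ α'
    haveI : IsScalarTower (Y'.presheaf.stalk (f'.base (i.base x)))
      (X'.presheaf.stalk (i.base x)) (P.X n) := .of_compHom ..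
    haveI := hflat n
    exact Module.Flat.trans _ (X'.presheaf.stalk (i.base x)) (P.X n)
  have hKF : DRingLTensor.IsKF ((DRingLTensor.extC' φ).obj ((DRing.restrictCx α').obj P)) :=
    kFlat_extendScalars φ (DRingTor.isKF_of_flat hfl fun n hn =>
      (ModuleCat.restrictScalars α').map_isZero (hz n hn))
  have hvan := (DRingTor.iff_van hKF (Iso.refl _)).1 h0
  let e₀ : DerivedCategory.Q.obj P ≅
      (DerSch.stalkFunctor X' (i.base x)).mapDerivedCategory.obj E' :=
    asIso (DerivedCategory.Q.map ρ) ≪≫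
      ((DerSch.stalkFunctor X' (i.base x)).mapDerivedCategoryFactors.app R).symm ≪≫
      (DerSch.stalkFunctor X' (i.base x)).mapDerivedCategory.mapIso (repKIso E')
  refine amp_of_fibre_point hE' (i.base x) hflat c hz e₀ fun n hn => ?_
  refine DRingNilp.exactAt_of_killed φ hφ n (fun N => hvan N n hn) _ fun r hr y => ?_
  obtain ⟨q, rfl⟩ := Ideal.Quotient.mk_surjective y
  refine Ideal.Quotient.eq_zero_iff_mem.2 (Ideal.mul_mem_right q _ ?_)
  exact le_maximalIdeal (RingHom.ker_ne_top φ) hr

end Groth.Agent.RelPC13
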