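import Groth.Agent.RelPC13.AffineTest
import Groth.Agent.RelPC13.RpushExact
import Groth.Agent.KFlatLib.Scheme.RpushRestrict
import Groth.Agent.KFlatLib.Scheme.ProjLocFree
import Groth.Agent.H9Misc.DRingRelPC2
import Mathlib.AlgebraicGeometry.Morphisms.Finite

/-!
# Relative pseudo-coherence and finite morphisms
-/

set_option linter.style.haveILetI false
set_option backward.isDefEq.respectTransparency false
set_option backward.isDefEq.respectTransparency.types false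

universe u

open CategoryTheory CategoryTheory.Limits AlgebraicGeometry TopologicalSpace Opposite
open Groth.Agent.KFlatLib

attribute [local instance] HasDerivedCategory.standard

namespace Groth.Agent.RelPC13

/-- A finite morphism is computed on modules of sections. -/
theorem nonempty_rpush_model_iso {X Y : Scheme.{u}} (π : X ⟶ Y) [IsAffineHom π] [DCoh.HasRpush π]
    (E : DCoh.D X) {W : Y.Opens} (hW : IsAffineOpen W)
    [PreservesFiniteLimits (tilde.functor Γ(X, π ⁻¹ᵁ W))]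
    [PreservesFiniteLimits (tilde.functor Γ(Y, W))]
    (M : Dual.D Γ(X, π ⁻¹ᵁ W))
    (eM : (DCoh.tildeD Γ(X, π ⁻¹ᵁ W)).obj M ≅
      (pD (hW.preimage π).isoSpec.hom).obj ((rho (π ⁻¹ᵁ W).ι).obj E)) :
    Nonempty ((DCoh.tildeD Γ(Y, W)).obj ((DRing.restrictD (π.app W).hom).obj M) ≅
      (pD hW.isoSpec.hom).obj ((rho W.ι).obj ((DCoh.Rpush π).obj E))) := by
  haveI : DCoh.HasRpush (π ∣_ W) := hasRpush_scheme (π ∣_ W)
  haveI : IsAffineHom (π ∣_ W) := IsZariskiLocalAtTarget.restrict ‹IsAffineHom π› W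
  let g := π.app W
  let σ := (hW.preimage π).isoSpec
  let K := DerivedCategory.Q.objPreimage M
  let Fx := ((tilde.functor Γ(X, π ⁻¹ᵁ W)).mapHomologicalComplex (ComplexShape.up ℤ)).obj K
  let F := ((Scheme.Modules.pushforward σ.inv).mapHomologicalComplex (ComplexShape.up ℤ)).obj Fx
  let eK : DerivedCategory.Q.obj K ≅ M := DerivedCategory.Q.objObjPreimageIso M
  let eid : ∀ G : DCoh.D (π ⁻¹ᵁ W : Scheme.{u}), (pD (𝟙 (π ⁻¹ᵁ W : Scheme.{u}))).obj G ≅ G := fun G =>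
    (pD (𝟙 _)).mapIso (repIso G).symm ≪≫ pDQ _ _ ≪≫
      DerivedCategory.Q.mapIso ((NatIso.mapHomologicalComplex (Scheme.Modules.pushforwardId _)
        (ComplexShape.up ℤ)).app _ ≪≫ (Functor.mapHomologicalComplexIdIso _ _).app _) ≪≫ repIso G
  haveI : IsClEmb (σ.hom ≫ σ.inv) := isClEmb_comp _ _
  let eF : DerivedCategory.Q.obj F ≅ (rho (π ⁻¹ᵁ W).ι).obj E :=
    (pDQ σ.inv Fx).symm ≪≫
      (pD σ.inv).mapIso (((tilde.functor _).mapDerivedCategoryFactors.app K).symm ≪≫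
        (DCoh.tildeD _).mapIso eK ≪≫ eM) ≪≫
      pDComp σ.hom σ.inv (𝟙 _) σ.hom_inv_id _ ≪≫ eid _
  have hq : ∀ n, Coh.IsQCoh (F.X n) := fun n =>
    QCoh.isQCoh_pushforward _ (QCoh.isQCoh_spec_iff.2 ⟨K.X n, ⟨Iso.refl _⟩⟩)
  let qF := (HomotopyCategory.quotient _ (ComplexShape.up ℤ)).obj F
  let α := (DCoh.pushKh (π ∣_ W)).totalRightDerivedUnit DerivedCategory.Qh
    (HomotopyCategory.quasiIso (π ⁻¹ᵁ W : Scheme.{u}).Modules (ComplexShape.up ℤ))
  haveI : IsIso (α.app qF) := isIso_unit_of_isAffineHom (π ∣_ W) F hq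
  let eR : (DCoh.Rpush (π ∣_ W)).obj ((rho (π ⁻¹ᵁ W).ι).obj E) ≅
      DerivedCategory.Q.obj
        (((Scheme.Modules.pushforward (π ∣_ W)).mapHomologicalComplex _).obj F) :=
    (DCoh.Rpush _).mapIso (((DerivedCategory.quotientCompQhIso _).app F) ≪≫ eF).symm ≪≫
      (asIso (α.app qF)).symm ≪≫
      DerivedCategory.Qh.mapIso
        (((Scheme.Modules.pushforward (π ∣_ W)).mapHomotopyCategoryFactors (ComplexShape.up ℤ)).app F) ≪≫
      (DerivedCategory.quotientCompQhIso _).app _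
  obtain ⟨eres⟩ := nonempty_rpush_restrictD_iso π W
  have hg : (σ.inv ≫ (π ∣_ W)) ≫ hW.isoSpec.hom = Spec.map g := by
    rw [Category.assoc, Iso.inv_comp_eq]
    exact (Scheme.Opens.toSpecΓ_naturality π W).symm
  let R := ModuleCat.restrictScalars.{u} g.hom
  let c : ((((Scheme.Modules.pushforward hW.isoSpec.hom).mapHomologicalComplex (ComplexShape.up ℤ)).obj
        (((Scheme.Modules.pushforward (π ∣_ W)).mapHomologicalComplex _).obj F))) ≅
      ((tilde.functor Γ(Y, W)).mapHomologicalComplex (ComplexShape.up ℤ)).obj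
        ((R.mapHomologicalComplex (ComplexShape.up ℤ)).obj K) :=
    (NatIso.mapHomologicalComplex
        (Functor.isoWhiskerRight (Scheme.Modules.pushforwardComp σ.inv (π ∣_ W)) _ ≪≫
          Scheme.Modules.pushforwardComp (σ.inv ≫ (π ∣_ W)) hW.isoSpec.hom ≪≫
          Scheme.Modules.pushforwardCongr hg) (ComplexShape.up ℤ)).app Fx ≪≫
      HomologicalComplex.Hom.isoOfComponents (fun n => (pushTildeIso g).app (K.X n))
        (fun i j _ => ((pushTildeIso g).hom.naturality (K.d i j)).symm)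
  refine ⟨(((pD hW.isoSpec.hom).mapIso (eres.app E ≪≫ eR)) ≪≫ pDQ _ _ ≪≫
    DerivedCategory.Q.mapIso c ≪≫ ((tilde.functor Γ(Y, W)).mapDerivedCategoryFactors.app _).symm ≪≫
    (DCoh.tildeD _).mapIso ((R.mapDerivedCategoryFactors.app K).symm ≪≫
      (DRing.restrictD g.hom).mapIso eK)).symm⟩

variable {X Y S : Scheme.{u}} (p : X ⟶ S) (q : Y ⟶ S) [LocallyOfFiniteType p] [LocallyOfFiniteType q]
  (π : X ⟶ Y) [IsFinite π] (w : π ≫ q = p) [DCoh.HasRpush π] {m : ℤ} (E : DCoh.D X)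

include w

theorem pcOn_finite_iff (hE : DCoh.IsQCohD E) {W : Y.Opens} (hW : IsAffineOpen W) {V : S.Opens}
    (hV : IsAffineOpen V) (h : W ≤ q ⁻¹ᵁ V) :
    PCOn p m E (π ⁻¹ᵁ W) V ↔ PCOn q m ((DCoh.Rpush π).obj E) W V := by
  subst w
  have hU := hW.preimage π
  have hUV : π ⁻¹ᵁ W ≤ (π ≫ q) ⁻¹ᵁ V := fun x hx => h hx
  haveI : PreservesFiniteLimits (tilde.functor Γ(X, π ⁻¹ᵁ W)) := QCoh.tilde_preservesFiniteLimits
  haveI : PreservesFiniteLimits (tilde.functor Γ(Y, W)) := QCoh.tilde_preservesFiniteLimits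
  obtain ⟨M, ⟨eM⟩⟩ := exists_sections_model hE hU
  obtain ⟨eW⟩ := nonempty_rpush_model_iso π E hW M eM
  rw [pcOn_iff_ring hU hV hUV m M eM, pcOn_iff_ring hW hV h m _ eW]
  letI : Algebra Γ(S, V) Γ(Y, W) := (q.appLE V W h).hom.toAlgebra
  letI : Algebra Γ(Y, W) Γ(X, π ⁻¹ᵁ W) := (π.app W).hom.toAlgebra
  letI : Algebra Γ(S, V) Γ(X, π ⁻¹ᵁ W) := ((π ≫ q).appLE V (π ⁻¹ᵁ W) hUV).hom.toAlgebra
  haveI : IsScalarTower Γ(S, V) Γ(Y, W) Γ(X, π ⁻¹ᵁ W) := IsScalarTower.of_algebraMap_eq fun a => by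
    show ((π ≫ q).appLE V (π ⁻¹ᵁ W) hUV) a = (q.appLE V W h ≫ π.app W) a
    rw [Scheme.Hom.app_eq_appLE, Scheme.Hom.appLE_comp_appLE]
  haveI : Algebra.FiniteType Γ(S, V) Γ(Y, W) := q.finiteType_appLE hV hW h
  haveI : Module.Finite Γ(Y, W) Γ(X, π ⁻¹ᵁ W) := IsFinite.finite_app (f := π) W hW
  exact H9Misc.DRingRelPC.finite_iff M m

theorem rel_finite_iff (hE : DCoh.IsQCohD E) :
    DerSch.IsPseudoCoherentRel p m E ↔ DerSch.IsPseudoCoherentRel q m ((DCoh.Rpush π).obj E) := by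
  constructor
  · intro h
    refine isPseudoCoherentRel_of_forall fun W V hWV => ?_
    have hUV : π ⁻¹ᵁ (W : Y.Opens) ≤ p ⁻¹ᵁ (V : S.Opens) := by
      rw [← w]; exact fun x hx => hWV hx
    exact (pcOn_finite_iff p q π w E hE W.2 V.2 hWV).1
      (pcOn_of_isPseudoCoherentRel h (W.2.preimage π) V.2 hUV)
  · intro h
    refine ⟨inferInstance, Set.univ, by simpa [iSup_univ] using iSup_affineOpens_eq_top S,
      fun V _ => ⟨(fun W : Y.affineOpens => (⟨π ⁻¹ᵁ (W : Y.Opens), W.2.preimage π⟩ : X.affineOpens)) ''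
          {W | (W : Y.Opens) ≤ q ⁻¹ᵁ (V : S.Opens)}, ?_, ?_⟩⟩
    · refine le_antisymm (iSup₂_le ?_) fun x hx => ?_
      · rintro _ ⟨W, hW, rfl⟩
        rw [← w]; exact fun x hx => hW hx
      · obtain ⟨_, ⟨W, hW, rfl⟩, hxW, hWle⟩ := Y.isBasis_affineOpens.exists_subset_of_mem_open
          (show π.base x ∈ q ⁻¹ᵁ (V : S.Opens) by
            have : x ∈ p ⁻¹ᵁ (V : S.Opens) := hx
            rw [← w] at this
            exact this) (q ⁻¹ᵁ (V : S.Opens)).2
        simp only [Opens.mem_iSup]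
        exact ⟨_, ⟨⟨W, hW⟩, hWle, rfl⟩, hxW⟩
    · rintro _ ⟨W, hW, rfl⟩ hle
      have hp := (pcOn_finite_iff p q π w E hE W.2 V.2 hW).2
        (pcOn_of_isPseudoCoherentRel h W.2 V.2 hW)
      obtain ⟨k, φ, hφ⟩ := exists_chart hle (p.finiteType_appLE V.2 (W.2.preimage π) hle)
      exact ⟨k, φ, hφ, hp.chartPC (W.2.preimage π) hφ⟩

end Groth.Agent.RelPC13
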