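import Groth.Agent.RelPC13.FlatBase

/-!
# Relative pseudo-coherence and composition with a flat finitely presented morphism
-/

set_option linter.style.haveILetI false
set_option backward.isDefEq.respectTransparency false

universe u

open CategoryTheory CategoryTheory.Limits AlgebraicGeometry TopologicalSpace Opposite MvPolynomial
open Groth.Agent.KFlatLib Groth.Agent.H9Misc.DRingRelPC

attribute [local instance] HasDerivedCategory.standard

namespace Groth.Agent.RelPC13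

variable {X T S : Scheme.{u}} (a : X ⟶ T) (b : T ⟶ S) {m : ℤ} {E : DCoh.D X}

/-- Charts over `W` against charts over `V`. -/
theorem pcOn_comp_iff [Flat b] [LocallyOfFinitePresentation b] [LocallyOfFiniteType a]
    {U : X.Opens} (hU : IsAffineOpen U) {W : T.Opens} (hW : IsAffineOpen W)
    {V : S.Opens} (hV : IsAffineOpen V) (hUW : U ≤ a ⁻¹ᵁ W) (hWV : W ≤ b ⁻¹ᵁ V) :
    PCOn (a ≫ b) m E U V ↔ PCOn a m E U W := by
  have hUV : U ≤ (a ≫ b) ⁻¹ᵁ V := fun x hx => hWV (hUW hx)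
  obtain ⟨n, α, hα⟩ := exists_chart (f := b) hWV (b.finiteType_appLE hV hW hWV)
  obtain ⟨k, δ, hδ⟩ := exists_chart (f := a) hUW (a.finiteType_appLE hW hU hUW)
  obtain ⟨l, φ, hφ⟩ := exists_chart (f := a ≫ b) hUV ((a ≫ b).finiteType_appLE hV hU hUV)
  let θ : MvPolynomial (Fin k) (MvPolynomial (Fin n) Γ(S, V)) →+* MvPolynomial (Fin k) Γ(T, W) :=
    MvPolynomial.map α
  have hθ : Function.Surjective θ := MvPolynomial.map_surjective α hα.1
  have key : SPC m E U δ ↔ SPC m E U φ := by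
    refine (spc_comp_iff hU hδ.1 θ hθ
      (pcHom_map α (pcHom_chart_of_flat b hW hV hα) k) rfl).symm.trans ?_
    refine spc_poly₂_iff hU φ hφ.1 _ (hδ.1.comp hθ) fun c => ?_
    rw [RingHom.comp_apply, show θ (C (C c)) = C (α (C c)) from MvPolynomial.map_C _ _,
      isChart_C hα, isChart_C hδ, isChart_C hφ, ← Scheme.Hom.appLE_comp_appLE a b V W U hWV hUW]
    rfl
  exact ⟨fun h => pcOn_of_chart hU hδ (key.2 (h.2 l φ hφ)),
    fun h => pcOn_of_chart hU hφ (key.1 (h.2 k δ hδ))⟩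

theorem rel_comp_iff [Flat b] [LocallyOfFinitePresentation b] [LocallyOfFiniteType a] :
    DerSch.IsPseudoCoherentRel (a ≫ b) m E ↔ DerSch.IsPseudoCoherentRel a m E := by
  constructor
  · intro hE
    refine ⟨inferInstance, {W | ∃ V : S.affineOpens, (W : T.Opens) ≤ b ⁻¹ᵁ (V : S.Opens)},
      top_le_iff.1 fun y _ => ?_, fun W hW => ?_⟩
    · obtain ⟨_, ⟨V, hV, rfl⟩, hyV, -⟩ := S.isBasis_affineOpens.exists_subset_of_mem_open
        (show b.base y ∈ (⊤ : S.Opens) from trivial) (⊤ : S.Opens).2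
      obtain ⟨_, ⟨W, hW, rfl⟩, hyW, hWV⟩ := T.isBasis_affineOpens.exists_subset_of_mem_open
        (show y ∈ b ⁻¹ᵁ V from hyV) (b ⁻¹ᵁ V).2
      simp only [Opens.mem_iSup]
      exact ⟨⟨W, hW⟩, ⟨⟨V, hV⟩, hWV⟩, hyW⟩
    · obtain ⟨V, hWV⟩ := hW
      refine ⟨{U | (U : X.Opens) ≤ a ⁻¹ᵁ (W : T.Opens)}, le_antisymm (iSup₂_le fun U hU => hU)
        fun x hx => ?_, fun U hU hle => ?_⟩
      · obtain ⟨_, ⟨U, hU, rfl⟩, hxU, hUle⟩ :=
          X.isBasis_affineOpens.exists_subset_of_mem_open hx (a ⁻¹ᵁ (W : T.Opens)).2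
        simp only [Opens.mem_iSup]
        exact ⟨⟨U, hU⟩, hUle, hxU⟩
      · obtain ⟨n, φ, hφ⟩ := exists_chart (f := a) hle (a.finiteType_appLE W.2 U.2 hle)
        exact ⟨n, φ, hφ, PCOn.chartPC ((pcOn_comp_iff a b U.2 W.2 V.2 hle hWV).1
          (pcOn_of_isPseudoCoherentRel hE U.2 V.2 fun x hx => hWV (hle hx))) U.2 hφ⟩
  · intro hE
    refine ⟨inferInstance, Set.univ, by simpa [iSup_univ] using iSup_affineOpens_eq_top S,
      fun V _ => ⟨{U | ∃ W : T.affineOpens, (W : T.Opens) ≤ b ⁻¹ᵁ (V : S.Opens) ∧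
        (U : X.Opens) ≤ a ⁻¹ᵁ (W : T.Opens)}, le_antisymm (iSup₂_le ?_) fun x hx => ?_,
        fun U hU hle => ?_⟩⟩
    · rintro U ⟨W, hWV, hUW⟩ x hx
      exact hWV (hUW hx)
    · obtain ⟨_, ⟨W, hW, rfl⟩, hyW, hWV⟩ := T.isBasis_affineOpens.exists_subset_of_mem_open
        (show a.base x ∈ b ⁻¹ᵁ (V : S.Opens) from hx) (b ⁻¹ᵁ (V : S.Opens)).2
      obtain ⟨_, ⟨U, hU, rfl⟩, hxU, hUW⟩ := X.isBasis_affineOpens.exists_subset_of_mem_open
        (show x ∈ a ⁻¹ᵁ W from hyW) (a ⁻¹ᵁ W).2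
      simp only [Opens.mem_iSup]
      exact ⟨⟨U, hU⟩, ⟨⟨W, hW⟩, hWV, hUW⟩, hxU⟩
    · obtain ⟨W, hWV, hUW⟩ := hU
      obtain ⟨n, φ, hφ⟩ := exists_chart (f := a ≫ b) hle ((a ≫ b).finiteType_appLE V.2 U.2 hle)
      exact ⟨n, φ, hφ, PCOn.chartPC ((pcOn_comp_iff a b U.2 W.2 V.2 hUW hWV).2
          (pcOn_of_isPseudoCoherentRel hE U.2 W.2 hUW)) U.2 hφ⟩

end Groth.Agent.RelPC13
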