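import Groth.Agent.RelPC13.Desc
import Groth.Agent.H9Misc.DRingLBase
import Groth.Agent.H9Misc.DRingComplTensor

/-!
# Relative pseudo-coherence and derived base change
-/

set_option linter.style.haveILetI false
set_option backward.isDefEq.respectTransparency false
set_option backward.isDefEq.respectTransparency.types false

universe u

open CategoryTheory CategoryTheory.Limits

attribute [local instance] HasDerivedCategory.standard

namespace Groth.Agent.RelPC13

open H9Misc H9Misc.DRingLTensor H9Misc.DRingRelPC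

variable {R A B : Type u} [CommRing R] [CommRing A] [CommRing B] [Algebra R A] [Algebra A B] [Algebra R B]
  [IsScalarTower R A B]

/-- Relatively pseudo-coherent objects are bounded above. -/
lemma exists_bound_of_rel {m : ℤ} {M : Dual.D A} (h : DerCA.IsRelPseudoCoherent R A m M) :
    ∃ b : ℤ, ∀ i : ℤ, b < i → IsZero ((DerivedCategory.homologyFunctor (ModuleCat.{u} A) i).obj M) := by
  obtain ⟨n, α, -, hp⟩ := h
  obtain ⟨b, hb⟩ := DRingPC.exists_bound hp
  refine ⟨b, fun i hi => ?_⟩
  have h2 : IsZero ((ModuleCat.restrictScalars (α : MvPolynomial (Fin n) R →+* A)).obj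
      ((DerivedCategory.homologyFunctor (ModuleCat.{u} A) i).obj M)) :=
    (hb i hi).of_iso ((KFlatLib.mapDCHomologyIso
      (ModuleCat.restrictScalars (α : MvPolynomial (Fin n) R →+* A)) i).app M).symm
  exact (IsZero.iff_id_eq_zero _).2 ((ModuleCat.restrictScalars _).map_injective (h2.eq_of_src _ _))

/-- A bounded above flat representative. -/
lemma exists_flat_rep {M : Dual.D A} {b : ℤ}
    (hb : ∀ i : ℤ, b < i → IsZero ((DerivedCategory.homologyFunctor (ModuleCat.{u} A) i).obj M)) :
    ∃ K : DRing.Cx A, (∃ b : ℤ, ∀ i : ℤ, b < i → IsZero (K.X i)) ∧ (∀ i, Module.Flat A (K.X i)) ∧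
      IsKF K ∧ Nonempty (DRing.toD K ≅ M) := by
  obtain ⟨P, -, hPb, hP, e⟩ := DRingComplTensor.exists_proj_res M b
    (fun i hi => ModuleCat.subsingleton_of_isZero (hb i hi))
  exact ⟨P, ⟨b, hPb⟩, fun i => (haveI := hP i; Module.Flat.of_projective),
    DRingComplTensor.isKF_of_projective hPb hP, e⟩

variable [DRing.HasLBaseChange (algebraMap A B)]

lemma rel_iso {m : ℤ} {M M' : Dual.D A} (e : M ≅ M') (h : DerCA.IsRelPseudoCoherent R A m M) :
    DerCA.IsRelPseudoCoherent R A m M' := by
  obtain ⟨n, α, hs, hp⟩ := h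
  exact ⟨n, α, hs, DRingPC.of_iso ((DRing.restrictD _).mapIso e) hp⟩

/-- Base change along a pseudo-coherent algebra preserves relative pseudo-coherence. -/
theorem rel_lbase (hB : PCMor.Q (algebraMap A B)) {m : ℤ} {M : Dual.D A}
    (h : DerCA.IsRelPseudoCoherent R A m M) :
    DerCA.IsRelPseudoCoherent R B m ((DRing.LBaseChange (algebraMap A B)).obj M) := by
  obtain ⟨b, hb⟩ := exists_bound_of_rel h
  obtain ⟨K, hKb, hKf, hK, ⟨e⟩⟩ := exists_flat_rep hb
  have h1 : RelExt (algebraMap R A) K m (RingHom.id A) := (relExt_id_iff rfl).2 (rel_iso e.symm h)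
  have h2 := (relExt_iff rfl).1 (h1.comp hKb hKf hB (RingHom.comp_id (algebraMap A B)))
  obtain ⟨eL⟩ := DRingLBase.nonempty_lbase_iso (algebraMap A B) hK
  exact rel_iso ((DRing.LBaseChange _).mapIso e.symm ≪≫ eL).symm h2

/-- Relative pseudo-coherence descends along faithfully flat algebras of finite presentation. -/
theorem rel_of_lbase [Algebra.FiniteType R A] [Module.FaithfullyFlat A B]
    [Algebra.FinitePresentation A B] {m : ℤ} {M : Dual.D A}
    (h : DerCA.IsRelPseudoCoherent R B m ((DRing.LBaseChange (algebraMap A B)).obj M)) :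
    DerCA.IsRelPseudoCoherent R A m M := by
  obtain ⟨P, hP, -, ⟨eP⟩⟩ := DRingLTensor.exists_rep M
  obtain ⟨eL⟩ := DRingLBase.nonempty_lbase_iso (algebraMap A B) hP
  obtain ⟨b, hb⟩ := exists_bound_of_rel h
  haveI := ModuleCat.preservesFiniteLimits_extendScalars_of_flat
    (RingHom.flat_algebraMap_iff.2 (inferInstance : Module.Flat A B))
  haveI : PreservesFiniteColimits (ModuleCat.extendScalars.{u, u, u} (algebraMap A B)) := by
    haveI : (ModuleCat.extendScalars.{u, u, u} (algebraMap A B)).IsLeftAdjoint :=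
      (ModuleCat.extendRestrictScalarsAdj (algebraMap A B)).isLeftAdjoint
    infer_instance
  let F := ModuleCat.extendScalars.{u, u, u} (algebraMap A B)
  have hMb : ∀ i : ℤ, b < i →
      IsZero ((DerivedCategory.homologyFunctor (ModuleCat.{u} A) i).obj M) := fun i hi => by
    refine DRingPCDescent.isZero_of_extendScalars (R' := B) _ ((hb i hi).of_iso ?_)
    exact ((KFlatLib.mapDCHomologyIso F i).app M).symm ≪≫
      (DerivedCategory.homologyFunctor _ i).mapIso
        (F.mapDerivedCategory.mapIso eP.symm ≪≫ F.mapDerivedCategoryFactors.app P ≪≫ eL.symm ≪≫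
          (DRing.LBaseChange _).mapIso eP)
  obtain ⟨K, hKb, hKf, hK, ⟨e⟩⟩ := exists_flat_rep hMb
  obtain ⟨eK⟩ := DRingLBase.nonempty_lbase_iso (algebraMap A B) hK
  have h1 : RelExt (algebraMap R A) K m (algebraMap A B) :=
    (relExt_iff rfl).2 (rel_iso ((DRing.LBaseChange _).mapIso e.symm ≪≫ eK) h)
  exact rel_iso e ((relExt_id_iff rfl).1
    (relExt_descend_fppf _ K m hKb hKf (RingHom.finiteType_algebraMap.2 inferInstance) h1))

end Groth.Agent.RelPC13
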