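import Groth.Agent.RelPC13.AffineTest
import Groth.Agent.RelPC13.LBaseRel
import Groth.Agent.KFlatLib.Scheme.TildePull
import Groth.Agent.KFlatLib.Perfect.Betti

/-!
# Relative pseudo-coherence and fppf coverings
-/

set_option linter.style.haveILetI false
set_option backward.isDefEq.respectTransparency false
set_option backward.isDefEq.respectTransparency.types false

universe u

open CategoryTheory CategoryTheory.Limits AlgebraicGeometry TopologicalSpace Opposite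
open Groth.Agent.KFlatLib

attribute [local instance] HasDerivedCategory.standard

namespace Groth.Agent.RelPC13

variable {X X' S : Scheme.{u}}

/-- Transport to the spectrum is restriction along `fromSpec`. -/
noncomputable def pDIsoSpecFromSpec {U : X.Opens} (hU : IsAffineOpen U) (E : DCoh.D X) :
    (pD hU.isoSpec.hom).obj ((rho U.ι).obj E) ≅ (rho hU.fromSpec).obj E :=
  haveI : IsClEmb (hU.isoSpec.inv ≫ hU.isoSpec.hom) := isClEmb_comp _ _
  let eid : ∀ G : DCoh.D (Spec Γ(X, U)), (pD (𝟙 (Spec Γ(X, U)))).obj G ≅ G := fun G =>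
    (pD (𝟙 _)).mapIso (repIso G).symm ≪≫ pDQ _ _ ≪≫
      DerivedCategory.Q.mapIso ((NatIso.mapHomologicalComplex (Scheme.Modules.pushforwardId _)
        (ComplexShape.up ℤ)).app _ ≪≫ (Functor.mapHomologicalComplexIdIso _ _).app _) ≪≫ repIso G
  (pD hU.isoSpec.hom).mapIso (pDRhoIso hU.isoSpec.inv _).symm ≪≫
    pDComp hU.isoSpec.inv hU.isoSpec.hom (𝟙 _) hU.isoSpec.inv_hom_id _ ≪≫ eid _ ≪≫
    rhoComp hU.isoSpec.inv U.ι hU.fromSpec hU.isoSpec_inv_ι E

/-- A model of the derived pullback on an affine open. -/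
theorem nonempty_lpull_model_iso (g : X' ⟶ X) [DCoh.HasLpull g] (E : DCoh.D X) {U : X.Opens}
    (hU : IsAffineOpen U) {U' : X'.Opens} (hU' : IsAffineOpen U') (hle : U' ≤ g ⁻¹ᵁ U)
    [PreservesFiniteLimits (tilde.functor Γ(X, U))] [PreservesFiniteLimits (tilde.functor Γ(X', U'))]
    [DRing.HasLBaseChange (g.appLE U U' hle).hom] (M : Dual.D Γ(X, U))
    (eM : (DCoh.tildeD Γ(X, U)).obj M ≅ (pD hU.isoSpec.hom).obj ((rho U.ι).obj E)) :
    Nonempty ((DCoh.tildeD Γ(X', U')).obj ((DRing.LBaseChange (g.appLE U U' hle).hom).obj M) ≅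
      (pD hU'.isoSpec.hom).obj ((rho U'.ι).obj ((DCoh.Lpull g).obj E))) := by
  let φ := g.appLE U U' hle
  haveI := hasLpull (Spec.map φ)
  haveI : DCoh.HasLpull (Spec.map (CommRingCat.ofHom φ.hom)) := hasLpull _
  haveI := hasLpull hU'.fromSpec
  haveI := hasLpull (hU'.fromSpec ≫ g)
  obtain ⟨e1⟩ := nonempty_tildeD_lpull_iso φ.hom
  obtain ⟨e2⟩ := nonempty_lpull_factor (Spec.map φ) hU.fromSpec (hU'.fromSpec ≫ g)
    (IsAffineOpen.SpecMap_appLE_fromSpec g hU hU' hle) E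
  obtain ⟨e3⟩ := nonempty_lpull_comp hU'.fromSpec g
  exact ⟨e1.app M ≪≫ (DCoh.Lpull (Spec.map φ)).mapIso (eM ≪≫ pDIsoSpecFromSpec hU E) ≪≫ e2 ≪≫
    (e3.app E).symm ≪≫ (rhoLpullIso hU'.fromSpec _).symm ≪≫ (pDIsoSpecFromSpec hU' _).symm⟩

section Pair

variable (g : X' ⟶ X) [DCoh.HasLpull g] [Flat g] [LocallyOfFinitePresentation g]
  (p : X ⟶ S) [LocallyOfFiniteType p] {E : DCoh.D X} (hE : DCoh.IsQCohD E) {m : ℤ}
  {U : X.Opens} (hU : IsAffineOpen U) {U' : X'.Opens} (hU' : IsAffineOpen U') (hle : U' ≤ g ⁻¹ᵁ U)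
  {V : S.Opens} (hV : IsAffineOpen V) (hUV : U ≤ p ⁻¹ᵁ V)

include hE hU hU' hle hV hUV

theorem pcOn_lpull (hp : PCOn p m E U V) :
    PCOn (g ≫ p) m ((DCoh.Lpull g).obj E) U' V := by
  haveI : PreservesFiniteLimits (tilde.functor Γ(X, U)) := QCoh.tilde_preservesFiniteLimits
  haveI : PreservesFiniteLimits (tilde.functor Γ(X', U')) := QCoh.tilde_preservesFiniteLimits
  have h' : U' ≤ (g ≫ p) ⁻¹ᵁ V := fun x hx => hUV (hle hx)
  letI : Algebra Γ(X, U) Γ(X', U') := (g.appLE U U' hle).hom.toAlgebra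
  haveI : DRing.HasLBaseChange (algebraMap Γ(X, U) Γ(X', U')) := H9Misc.DRingLBase.hasLBaseChange _
  haveI : DRing.HasLBaseChange (g.appLE U U' hle).hom := H9Misc.DRingLBase.hasLBaseChange _
  obtain ⟨M, ⟨eM⟩⟩ := exists_sections_model hE hU
  obtain ⟨eM'⟩ := nonempty_lpull_model_iso g E hU hU' hle M eM
  letI : Algebra Γ(S, V) Γ(X, U) := (p.appLE V U hUV).hom.toAlgebra
  letI : Algebra Γ(S, V) Γ(X', U') := ((g ≫ p).appLE V U' h').hom.toAlgebra
  haveI : IsScalarTower Γ(S, V) Γ(X, U) Γ(X', U') := IsScalarTower.of_algebraMap_eq fun a => by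
    show ((g ≫ p).appLE V U' h') a = (p.appLE V U hUV ≫ g.appLE U U' hle) a
    rw [Scheme.Hom.appLE_comp_appLE]
  haveI : Module.Flat Γ(X, U) Γ(X', U') := g.flat_appLE hU hU' hle
  haveI : Algebra.FinitePresentation Γ(X, U) Γ(X', U') := g.finitePresentation_appLE hU hU' hle
  refine (pcOn_iff_ring hU' hV h' m _ eM').2 ?_
  exact rel_lbase (R := Γ(S, V)) (A := Γ(X, U)) (B := Γ(X', U')) (PerfMor.q_of_flat_fp _ _)
    ((pcOn_iff_ring hU hV hUV m M eM).1 hp)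

theorem pcOn_of_lpull (hsurj : ∀ x ∈ U, ∃ y ∈ U', g.base y = x)
    (hp : PCOn (g ≫ p) m ((DCoh.Lpull g).obj E) U' V) : PCOn p m E U V := by
  haveI : PreservesFiniteLimits (tilde.functor Γ(X, U)) := QCoh.tilde_preservesFiniteLimits
  haveI : PreservesFiniteLimits (tilde.functor Γ(X', U')) := QCoh.tilde_preservesFiniteLimits
  have h' : U' ≤ (g ≫ p) ⁻¹ᵁ V := fun x hx => hUV (hle hx)
  letI : Algebra Γ(X, U) Γ(X', U') := (g.appLE U U' hle).hom.toAlgebra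
  haveI : DRing.HasLBaseChange (algebraMap Γ(X, U) Γ(X', U')) := H9Misc.DRingLBase.hasLBaseChange _
  haveI : DRing.HasLBaseChange (g.appLE U U' hle).hom := H9Misc.DRingLBase.hasLBaseChange _
  obtain ⟨M, ⟨eM⟩⟩ := exists_sections_model hE hU
  obtain ⟨eM'⟩ := nonempty_lpull_model_iso g E hU hU' hle M eM
  letI : Algebra Γ(S, V) Γ(X, U) := (p.appLE V U hUV).hom.toAlgebra
  letI : Algebra Γ(S, V) Γ(X', U') := ((g ≫ p).appLE V U' h').hom.toAlgebra
  haveI : IsScalarTower Γ(S, V) Γ(X, U) Γ(X', U') := IsScalarTower.of_algebraMap_eq fun a => by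
    show ((g ≫ p).appLE V U' h') a = (p.appLE V U hUV ≫ g.appLE U U' hle) a
    rw [Scheme.Hom.appLE_comp_appLE]
  haveI : Module.Flat Γ(X, U) Γ(X', U') := g.flat_appLE hU hU' hle
  haveI : Algebra.FinitePresentation Γ(X, U) Γ(X', U') := g.finitePresentation_appLE hU hU' hle
  haveI : Algebra.FiniteType Γ(S, V) Γ(X, U) := p.finiteType_appLE hV hU hUV
  haveI : Module.FaithfullyFlat Γ(X, U) Γ(X', U') := by
    refine Module.FaithfullyFlat.of_comap_surjective fun q => ?_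
    have hq : hU.fromSpec.base q ∈ U := by
      rw [← SetLike.mem_coe, ← hU.range_fromSpec]
      exact ⟨q, rfl⟩
    obtain ⟨y, hy, hyq⟩ := hsurj _ hq
    obtain ⟨q', rfl⟩ : y ∈ Set.range hU'.fromSpec.base := by
      rw [hU'.range_fromSpec]; exact hy
    refine ⟨q', hU.fromSpec.isOpenEmbedding.injective ?_⟩
    rw [← hyq]
    show (Spec.map (g.appLE U U' hle) ≫ hU.fromSpec).base q' = (hU'.fromSpec ≫ g).base q'
    rw [IsAffineOpen.SpecMap_appLE_fromSpec g hU hU' hle]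
  refine (pcOn_iff_ring hU hV hUV m M eM).2 ?_
  exact rel_of_lbase (R := Γ(S, V)) (A := Γ(X, U)) (B := Γ(X', U'))
    ((pcOn_iff_ring hU' hV h' m _ eM').1 hp)

end Pair

theorem rel_fppf_cover_iff (p : X ⟶ S) [LocallyOfFiniteType p] {ι : Type u} (Xi : ι → Scheme.{u})
    (g : ∀ i, Xi i ⟶ X) [∀ i, Flat (g i)] [∀ i, LocallyOfFinitePresentation (g i)]
    (hcov : ∀ x : X, ∃ (i : ι) (y : Xi i), (g i).base y = x) [∀ i, DCoh.HasLpull (g i)] (m : ℤ)
    (E : DCoh.D X) (hE : DCoh.IsQCohD E) :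
    DerSch.IsPseudoCoherentRel p m E ↔
      ∀ i, DerSch.IsPseudoCoherentRel (g i ≫ p) m ((DCoh.Lpull (g i)).obj E) := by
  constructor
  · intro hr i
    refine ⟨inferInstance, Set.univ, by simpa [iSup_univ] using iSup_affineOpens_eq_top S, fun V _ =>
      ⟨{U' | ∃ U : X.affineOpens, (U : X.Opens) ≤ p ⁻¹ᵁ (V : S.Opens) ∧
        (U' : (Xi i).Opens) ≤ g i ⁻¹ᵁ (U : X.Opens)}, le_antisymm (iSup₂_le ?_) fun y hy => ?_,
        fun U' hU' hle => ?_⟩⟩
    · rintro U' ⟨U, hUV, hU'U⟩ y hy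
      exact hUV (hU'U hy)
    · obtain ⟨_, ⟨U, hU, rfl⟩, hxU, hUV⟩ := X.isBasis_affineOpens.exists_subset_of_mem_open
        (show (g i).base y ∈ p ⁻¹ᵁ (V : S.Opens) from hy) (p ⁻¹ᵁ (V : S.Opens)).2
      obtain ⟨_, ⟨U', hU', rfl⟩, hyU', hU'U⟩ := (Xi i).isBasis_affineOpens.exists_subset_of_mem_open
        (show y ∈ g i ⁻¹ᵁ U from hxU) (g i ⁻¹ᵁ U).2
      simp only [Opens.mem_iSup]
      exact ⟨⟨U', hU'⟩, ⟨⟨U, hU⟩, hUV, hU'U⟩, hyU'⟩
    · obtain ⟨U, hUV, hU'U⟩ := hU'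
      obtain ⟨n, φ, hφ⟩ := exists_chart hle ((g i ≫ p).finiteType_appLE V.2 U'.2 hle)
      exact ⟨n, φ, hφ, PCOn.chartPC (pcOn_lpull (g i) p hE U.2 U'.2 hU'U V.2 hUV
        (pcOn_of_isPseudoCoherentRel hr U.2 V.2 hUV)) U'.2 hφ⟩
  · intro hr
    refine isPseudoCoherentRel_of_forall fun U V hUV => ?_
    have key : ∀ x : (U : X.Opens), ∃ a : Γ(X, (U : X.Opens)),
        (x : X) ∈ X.basicOpen a ∧ PCOn p m E (X.basicOpen a) V := by
      rintro ⟨x, hx⟩
      obtain ⟨i, y, hy⟩ := hcov x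
      obtain ⟨_, ⟨U', hU', rfl⟩, hyU', hU'U⟩ := (Xi i).isBasis_affineOpens.exists_subset_of_mem_open
        (show y ∈ g i ⁻¹ᵁ (U : X.Opens) by show (g i).base y ∈ (U : X.Opens); rw [hy]; exact hx)
        (g i ⁻¹ᵁ (U : X.Opens)).2
      have ho : IsOpen ((g i).base '' (U' : Set (Xi i))) :=
        (g i).isOpenMap _ U'.2
      obtain ⟨a, ha, hxa⟩ := U.2.exists_basicOpen_le (V := ⟨_, ho⟩) ⟨x, ⟨y, hyU', hy⟩⟩ hx
      refine ⟨a, hxa, ?_⟩
      have hle2 : (Xi i).basicOpen ((g i).appLE (U : X.Opens) U' hU'U a) ≤ g i ⁻¹ᵁ X.basicOpen a := by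
        rw [Scheme.preimage_basicOpen, Scheme.Hom.appLE, ConcreteCategory.comp_apply,
          Scheme.basicOpen_res]
        exact inf_le_right
      refine pcOn_of_lpull (g i) p hE (U.2.basicOpen a) (hU'.basicOpen _) hle2 V.2
        ((X.basicOpen_le a).trans hUV) ?_ ?_
      · intro z hz
        obtain ⟨w, hw, hwz⟩ := ha hz
        refine ⟨w, ?_, hwz⟩
        rw [Scheme.Hom.appLE, ConcreteCategory.comp_apply, Scheme.basicOpen_res]
        refine ⟨hw, ?_⟩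
        rw [← Scheme.preimage_basicOpen]
        show (g i).base w ∈ X.basicOpen a
        rw [hwz]; exact hz
      · exact pcOn_of_isPseudoCoherentRel (hr i) (hU'.basicOpen _) V.2
          fun w hw => hUV (X.basicOpen_le a (hle2 hw))
    choose a hxa ha using key
    refine pcOn_of_span U.2 hUV (p.finiteType_appLE V.2 U.2 hUV) a ?_ ha
    rw [← U.2.iSup_basicOpen_eq_self_iff]
    refine le_antisymm (iSup_le fun b => X.basicOpen_le _) fun x hx => ?_
    exact Opens.mem_iSup.2 ⟨⟨a ⟨x, hx⟩, _, rfl⟩, hxa ⟨x, hx⟩⟩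

end Groth.Agent.RelPC13
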