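import Groth.Agent.RelPC13.Poly
import Mathlib.AlgebraicGeometry.Morphisms.FiniteType

/-!
# Locality of relative pseudo-coherence
-/

set_option linter.style.haveILetI false
set_option backward.isDefEq.respectTransparency false

universe u

open CategoryTheory CategoryTheory.Limits AlgebraicGeometry TopologicalSpace Opposite MvPolynomial
open Groth.Agent.KFlatLib

attribute [local instance] HasDerivedCategory.standard

namespace Groth.Agent.RelPC13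

variable {X S : Scheme.{u}} (f : X ⟶ S) (m : ℤ) (E : DCoh.D X)

/-- Every chart on the pair `(U, V)` passes the test. -/
def PCOn (U : X.Opens) (V : S.Opens) : Prop :=
  ∃ h : U ≤ f ⁻¹ᵁ V, ∀ (n : ℕ) (φ : MvPolynomial (Fin n) Γ(S, V) →+* Γ(X, U)),
    DerSch.IsChart f U V h φ → SPC m E U φ

variable {f m E} {U U' : X.Opens} {V : S.Opens}

lemma isChart_C {h : U ≤ f ⁻¹ᵁ V} {n : ℕ} {φ : MvPolynomial (Fin n) Γ(S, V) →+* Γ(X, U)}
    (hφ : DerSch.IsChart f U V h φ) (a : Γ(S, V)) : φ (C a) = (f.appLE V U h).hom a :=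
  RingHom.congr_fun hφ.2 a

/-- One chart suffices. -/
theorem pcOn_of_chart (hU : IsAffineOpen U) {h : U ≤ f ⁻¹ᵁ V} {n : ℕ}
    {φ : MvPolynomial (Fin n) Γ(S, V) →+* Γ(X, U)} (hφ : DerSch.IsChart f U V h φ)
    (hs : SPC m E U φ) : PCOn f m E U V :=
  ⟨h, fun _ ψ hψ => (spc_poly_iff hU φ hφ.1 ψ hψ.1 (hφ.2.trans hψ.2.symm)).1 hs⟩

theorem PCOn.chartPC (hp : PCOn f m E U V) (hU : IsAffineOpen U) {h : U ≤ f ⁻¹ᵁ V} {n : ℕ}
    {φ : MvPolynomial (Fin n) Γ(S, V) →+* Γ(X, U)} (hφ : DerSch.IsChart f U V h φ) :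
    DerSch.ChartPC m E U V φ :=
  (chartPC_iff φ (isClEmb_imm hU hφ.1) E).2 (hp.2 n φ hφ)

theorem pcOn_of_chartPC (hU : IsAffineOpen U) {h : U ≤ f ⁻¹ᵁ V} {n : ℕ}
    {φ : MvPolynomial (Fin n) Γ(S, V) →+* Γ(X, U)} (hφ : DerSch.IsChart f U V h φ)
    (hc : DerSch.ChartPC m E U V φ) : PCOn f m E U V :=
  pcOn_of_chart hU hφ ((chartPC_iff φ (isClEmb_imm hU hφ.1) E).1 hc)

/-- Charts exist for finite type ring maps. -/
theorem exists_chart (h : U ≤ f ⁻¹ᵁ V) (hft : (f.appLE V U h).hom.FiniteType) :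
    ∃ (n : ℕ) (φ : MvPolynomial (Fin n) Γ(S, V) →+* Γ(X, U)), DerSch.IsChart f U V h φ := by
  letI := (f.appLE V U h).hom.toAlgebra
  obtain ⟨n, φ, hφ⟩ := (Algebra.FiniteType.iff_quotient_mvPolynomial'' (R := Γ(S, V)) (S := Γ(X, U))).1 hft
  exact ⟨n, φ.toRingHom, hφ, RingHom.ext fun a => φ.commutes a⟩

theorem finiteType_of_chart {h : U ≤ f ⁻¹ᵁ V} {n : ℕ}
    {φ : MvPolynomial (Fin n) Γ(S, V) →+* Γ(X, U)} (hφ : DerSch.IsChart f U V h φ) :
    (f.appLE V U h).hom.FiniteType := by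
  rw [← hφ.2]
  exact (RingHom.FiniteType.of_surjective _ hφ.1).comp
    (RingHom.finiteType_algebraMap.2 (inferInstance : Algebra.FiniteType Γ(S, V) (MvPolynomial (Fin n) Γ(S, V))))

theorem finiteType_basicOpen (hU : IsAffineOpen U) (h : U ≤ f ⁻¹ᵁ V)
    (hft : (f.appLE V U h).hom.FiniteType) (g : Γ(X, U)) :
    (f.appLE V (X.basicOpen g) ((X.basicOpen_le g).trans h)).hom.FiniteType := by
  rw [← f.appLE_map h (homOfLE (X.basicOpen_le g)).op]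
  haveI := hU.isLocalization_basicOpen g
  exact (RingHom.finiteType_algebraMap.2
    (IsLocalization.finiteType_of_monoid_fg (Submonoid.powers g) Γ(X, X.basicOpen g))).comp hft

/-- Basic opens of the source. -/
theorem PCOn.basicOpen (hp : PCOn f m E U V) (hU : IsAffineOpen U)
    (hft : (f.appLE V U hp.1).hom.FiniteType) (g : Γ(X, U)) : PCOn f m E (X.basicOpen g) V := by
  obtain ⟨n, φ, hφ⟩ := exists_chart hp.1 hft
  obtain ⟨G, rfl⟩ := hφ.1 g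
  refine ⟨(X.basicOpen_le _).trans hp.1, fun k ψ hψ => ?_⟩
  obtain ⟨χ', hs, hcomp⟩ := exists_awayMap hU hφ.1 G (Localization.Away G) rfl (X.basicOpen_le _)
  refine (spc_loc_iff (hU.basicOpen _) G (Localization.Away G) χ' hs ψ hψ.1 fun a => ?_).1
    (SPC.away hU φ G _ rfl (X.basicOpen_le _) hs hcomp (hp.2 n φ hφ))
  rw [isChart_C hψ, ← f.appLE_map hp.1 (homOfLE (X.basicOpen_le (φ G))).op]
  exact (RingHom.congr_fun hcomp (C a)).trans (congrArg _ (isChart_C hφ a))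

/-- Glueing from basic opens of the source. -/
theorem pcOn_of_span (hU : IsAffineOpen U) (h : U ≤ f ⁻¹ᵁ V)
    (hft : (f.appLE V U h).hom.FiniteType) {ι : Type*} (g : ι → Γ(X, U))
    (hg : Ideal.span (Set.range g) = ⊤) (hp : ∀ i, PCOn f m E (X.basicOpen (g i)) V) :
    PCOn f m E U V := by
  obtain ⟨n, φ, hφ⟩ := exists_chart h hft
  choose G hG using fun i => hφ.1 (g i)
  obtain rfl : (fun i => φ (G i)) = g := funext hG
  refine pcOn_of_chart hU hφ (spc_of_away hU hφ.1 G hg fun i => ?_)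
  obtain ⟨k, ψ, hψ⟩ := exists_chart ((X.basicOpen_le (φ (G i))).trans h) (finiteType_basicOpen hU h hft _)
  obtain ⟨χ', hs, hcomp⟩ :=
    exists_awayMap hU hφ.1 (G i) (Localization.Away (G i)) rfl (X.basicOpen_le _)
  refine ⟨χ', hs, hcomp, (spc_loc_iff (hU.basicOpen _) (G i) (Localization.Away (G i)) χ' hs ψ hψ.1
    fun a => ?_).2 ((hp i).2 k ψ hψ)⟩
  rw [isChart_C hψ, ← f.appLE_map h (homOfLE (X.basicOpen_le (φ (G i)))).op]
  exact (RingHom.congr_fun hcomp (C a)).trans (congrArg _ (isChart_C hφ a))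

theorem finiteType_down_base (hU : U ≤ f ⁻¹ᵁ V) (r : Γ(S, V))
    (hft : (f.appLE V U hU).hom.FiniteType) (h' : U ≤ f ⁻¹ᵁ S.basicOpen r) :
    (f.appLE (S.basicOpen r) U h').hom.FiniteType := by
  refine RingHom.FiniteType.of_comp_finiteType (f := (S.presheaf.map (homOfLE (S.basicOpen_le r)).op).hom) ?_
  rw [← CommRingCat.hom_comp, f.map_appLE]
  exact hft

theorem finiteType_up_base (hV : IsAffineOpen V) (r : Γ(S, V)) (h' : U ≤ f ⁻¹ᵁ S.basicOpen r)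
    (hft : (f.appLE (S.basicOpen r) U h').hom.FiniteType) (hU : U ≤ f ⁻¹ᵁ V) :
    (f.appLE V U hU).hom.FiniteType := by
  rw [← f.map_appLE h' (homOfLE (S.basicOpen_le r)).op]
  haveI := hV.isLocalization_basicOpen r
  exact hft.comp (RingHom.finiteType_algebraMap.2
    (IsLocalization.finiteType_of_monoid_fg (Submonoid.powers r) Γ(S, S.basicOpen r)))

/-- Changing the base to a basic open. -/
theorem pcOn_base_iff (hU : IsAffineOpen U) (hV : IsAffineOpen V) (r : Γ(S, V)) (h : U ≤ f ⁻¹ᵁ V)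
    (h' : U ≤ f ⁻¹ᵁ S.basicOpen r) (hft : (f.appLE V U h).hom.FiniteType) :
    PCOn f m E U V ↔ PCOn f m E U (S.basicOpen r) := by
  obtain ⟨n, φ, hφ⟩ := exists_chart h hft
  obtain ⟨k, ψ, hψ⟩ := exists_chart h' (finiteType_down_base h r hft h')
  haveI := hV.isLocalization_basicOpen r
  have key : SPC m E U φ ↔ SPC m E U ψ := by
    refine spc_base_iff hU r Γ(S, S.basicOpen r) φ hφ.1 ψ hψ.1 fun a => ?_
    rw [isChart_C hψ, isChart_C hφ]
    change ((S.presheaf.map (homOfLE (S.basicOpen_le r)).op) ≫ f.appLE (S.basicOpen r) U h').hom a = _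
    rw [f.map_appLE]
  exact ⟨fun hp => pcOn_of_chart hU hψ (key.1 (hp.2 n φ hφ)),
    fun hp => pcOn_of_chart hU hφ (key.2 (hp.2 k ψ hψ))⟩

/-- Relative pseudo-coherence on every pair of affine opens. -/
theorem pcOn_of_isPseudoCoherentRel (hE : DerSch.IsPseudoCoherentRel f m E) (hU : IsAffineOpen U)
    (hV : IsAffineOpen V) (h : U ≤ f ⁻¹ᵁ V) : PCOn f m E U V := by
  obtain ⟨hlft, 𝒱, h𝒱, hE⟩ := hE
  haveI := hlft
  have key : ∀ x : U, ∃ g : Γ(X, U), (x : X) ∈ X.basicOpen g ∧ PCOn f m E (X.basicOpen g) V := by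
    rintro ⟨x, hx⟩
    have hfx : f.base x ∈ (⨆ V₀ ∈ 𝒱, (V₀ : S.Opens)) := h𝒱.symm ▸ trivial
    simp only [Opens.mem_iSup] at hfx
    obtain ⟨V₀, hV₀, hxV₀⟩ := hfx
    obtain ⟨𝒰, h𝒰, hch⟩ := hE V₀ hV₀
    have hx' : x ∈ (⨆ U₀ ∈ 𝒰, (U₀ : X.Opens)) := by rw [h𝒰]; exact hxV₀
    simp only [Opens.mem_iSup] at hx'
    obtain ⟨U₀, hU₀, hxU₀⟩ := hx'
    have hle₀ : (U₀ : X.Opens) ≤ f ⁻¹ᵁ (V₀ : S.Opens) := h𝒰 ▸ le_iSup₂ (f := fun (U₀ : X.affineOpens) _ => (U₀ : X.Opens)) U₀ hU₀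
    obtain ⟨n, φ, hφ, hc⟩ := hch U₀ hU₀ hle₀
    have hp₀ := pcOn_of_chartPC U₀.2 hφ hc
    obtain ⟨r, r₀, hrr, hxr⟩ := exists_basicOpen_le_affine_inter hV V₀.2 (f.base x) ⟨h hx, hxV₀⟩
    obtain ⟨g₁, hg₁, hxg₁⟩ := U₀.2.exists_basicOpen_le (V := f ⁻¹ᵁ S.basicOpen r) ⟨x, hxr⟩ hxU₀
    have hft₁ := f.finiteType_appLE V₀.2 U₀.2 hle₀
    have hp₁ := hp₀.basicOpen U₀.2 hft₁ g₁
    obtain ⟨g, g₂, hgg, hxg⟩ :=
      exists_basicOpen_le_affine_inter hU (U₀.2.basicOpen g₁) x ⟨hx, hxg₁⟩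
    refine ⟨g, hxg, ?_⟩
    have hp₂ : PCOn f m E (X.basicOpen g₂) V₀ :=
      hp₁.basicOpen (U₀.2.basicOpen g₁) (f.finiteType_appLE V₀.2 (U₀.2.basicOpen g₁) _) g₂
    rw [← hgg] at hp₂
    have hgr : X.basicOpen g ≤ f ⁻¹ᵁ S.basicOpen r := hgg.le.trans ((X.basicOpen_le g₂).trans hg₁)
    have hgr₀ : X.basicOpen g ≤ f ⁻¹ᵁ S.basicOpen r₀ := hrr ▸ hgr
    have hp₃ := (pcOn_base_iff (hU.basicOpen g) V₀.2 r₀ hp₂.1 hgr₀
      (f.finiteType_appLE V₀.2 (hU.basicOpen g) _)).1 hp₂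
    rw [← hrr] at hp₃
    exact (pcOn_base_iff (hU.basicOpen g) hV r ((X.basicOpen_le g).trans h) hgr
      (f.finiteType_appLE hV (hU.basicOpen g) _)).2 hp₃
  choose g hxg hg using key
  refine pcOn_of_span hU h (f.finiteType_appLE hV hU h) g ?_ hg
  rw [← hU.iSup_basicOpen_eq_self_iff]
  refine le_antisymm (iSup_le fun a => X.basicOpen_le _) fun x hx => ?_
  exact Opens.mem_iSup.2 ⟨⟨g ⟨x, hx⟩, _, rfl⟩, hxg ⟨x, hx⟩⟩

/-- Relative pseudo-coherence, point by point. -/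
theorem isPseudoCoherentRel_of_forall [LocallyOfFiniteType f]
    (h : ∀ (U : X.affineOpens) (V : S.affineOpens), (U : X.Opens) ≤ f ⁻¹ᵁ (V : S.Opens) →
      PCOn f m E (U : X.Opens) (V : S.Opens)) : DerSch.IsPseudoCoherentRel f m E := by
  refine ⟨inferInstance, Set.univ, by simpa [iSup_univ] using iSup_affineOpens_eq_top S, fun V _ => ?_⟩
  refine ⟨{U | (U : X.Opens) ≤ f ⁻¹ᵁ (V : S.Opens)}, le_antisymm (iSup₂_le fun U hU => hU)
    fun x hx => ?_, fun U hU hle => ?_⟩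
  · obtain ⟨_, ⟨W, hW, rfl⟩, hxW, hWle⟩ :=
      X.isBasis_affineOpens.exists_subset_of_mem_open hx (f ⁻¹ᵁ (V : S.Opens)).2
    simp only [Opens.mem_iSup]
    exact ⟨⟨W, hW⟩, hWle, hxW⟩
  · obtain ⟨n, φ, hφ⟩ := exists_chart hle (f.finiteType_appLE V.2 U.2 hle)
    exact ⟨n, φ, hφ, (h U V hle).chartPC U.2 hφ⟩

theorem isPseudoCoherentRel_iff [LocallyOfFiniteType f] :
    DerSch.IsPseudoCoherentRel f m E ↔ ∀ (U : X.affineOpens) (V : S.affineOpens),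
      (U : X.Opens) ≤ f ⁻¹ᵁ (V : S.Opens) → PCOn f m E (U : X.Opens) (V : S.Opens) :=
  ⟨fun hE U V h => pcOn_of_isPseudoCoherentRel hE U.2 V.2 h, isPseudoCoherentRel_of_forall⟩

end Groth.Agent.RelPC13
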