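import Groth.Agent.RelPC13.Transfer
import Groth.Agent.KFlatLib.Scheme.TildePC
import Groth.Agent.KFlatLib.Scheme.TildePush
import Groth.Agent.QCoh.Tilde
import Groth.Agent.H9Misc.DRingRelPC3

/-!
# Pseudo-coherence of pushforwards along closed embeddings of open pieces

`IPC m E j c`: for an open immersion `j : U ⟶ X` and `c : U ⟶ P` which is a closed embedding on
spaces, the pushforward along `c` of `E|_U` is `m`-pseudo-coherent.
-/

set_option linter.style.haveILetI false
set_option backward.isDefEq.respectTransparency false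
set_option backward.isDefEq.respectTransparency.types false

universe u

open CategoryTheory CategoryTheory.Limits AlgebraicGeometry TopologicalSpace Opposite
open CategoryTheory.Pretriangulated Groth.Agent.KFlatLib

attribute [local instance] HasDerivedCategory.standard

namespace Groth.Agent.RelPC13

variable {X Y U U' P Q : Scheme.{u}}

section PCPush

/-- The pushforward of the free module of rank one decides. -/
theorem pcPush_of_structure (f : X ⟶ Y) [IsClEmb f]
    (h : ∀ m : ℤ, LocPC m ((pD f).obj (DCoh.inD X (Coh.structureModule X)))) : PCPush f := by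
  intro n
  induction n with
  | zero =>
    intro m
    refine locPC_of_isZero m _ fun i _ => ((Scheme.Modules.pushforward f).map_isZero ?_).of_iso
      (hdPDIso f _ i)
    exact isZero_HD_inD_of_isZero isZero_freeMod_zero i
  | succ n ih =>
    intro m
    have h1 : LocPC m ((pD f).obj (DCoh.inD X (FlatMod.freeMod X 1))) :=
      (h m).of_iso ((pD f).mapIso ((DerivedCategory.singleFunctor X.Modules 0).mapIso
        (coproductUniqueIso (fun _ : Fin 1 => Coh.structureModule X)).symm))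
    let K := DCoh.inD X (FlatMod.freeMod X n)
    let L := DCoh.inD X (FlatMod.freeMod X 1)
    haveI := preservesBinaryBiproducts_of_preservesBiproducts (pD f)
    haveI := preservesBinaryBiproducts_of_preservesBiproducts (DerivedCategory.singleFunctor X.Modules 0)
    have hb : LocPC m (((pD f).obj K) ⊞ ((pD f).obj L)) :=
      locPC_ext _ (binaryBiproductTriangle_distinguished _ _) (ih m) h1
    exact hb.of_iso (((pD f).mapBiprod K L).symm ≪≫ (pD f).mapIso
      (((DerivedCategory.singleFunctor X.Modules 0).mapBiprod _ _).symm ≪≫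
        (DerivedCategory.singleFunctor X.Modules 0).mapIso (biprodFreeIso n 1)))

theorem PCPush.comp {f : X ⟶ Y} {g : Y ⟶ P} {h : X ⟶ P} [IsClEmb f] [IsClEmb g] [IsClEmb h]
    (w : f ≫ g = h) (hf : PCPush f) (hg : PCPush g) : PCPush h := fun n m =>
  (hg.locPC_push (hf n m)).of_iso (pDComp f g h w _)

theorem pcPush_congr {f g : X ⟶ Y} [IsClEmb f] [IsClEmb g] (w : f = g) (hf : PCPush f) : PCPush g :=
  fun n m => (hf n m).of_iso (pDCongr w _)

lemma bijective_app_of_isIso (f : X ⟶ Y) [IsIso f] (V : Y.Opens) : Function.Bijective (f.app V) :=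
  ConcreteCategory.bijective_of_isIso (f.app V)

theorem pcPush_of_isIso (f : X ⟶ Y) [IsIso f] : PCPush f :=
  pcPush_of_structure f fun m =>
    ((locPC_of_isFP_free).of_iso
      ((DerivedCategory.singleFunctor Y.Modules 0).mapIso
        (H23.PullPush.structureModuleIsoPush f (bijective_app_of_isIso f)) ≪≫
          (pDSingle f _).symm))
where
  locPC_of_isFP_free {m : ℤ} : LocPC m (DCoh.inD Y (Coh.structureModule Y)) := fun y => by
    let e : DCoh.inD Y (Coh.structureModule Y) ≅ DCoh.inD Y (FlatMod.freeMod Y 1) :=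
      (DerivedCategory.singleFunctor Y.Modules 0).mapIso
        (coproductUniqueIso (fun _ : Fin 1 => Coh.structureModule Y)).symm
    refine ⟨_, (⊤ : Y.Opens).ι, inferInstance, ⟨⟨y, trivial⟩, rfl⟩, _,
      ((DerivedCategory.singleFunctorIsoCompQ _ 0).inv.app _) ≫
        ((rhoFreeIso (⊤ : Y.Opens).ι 1).symm ≪≫ (rho _).mapIso e.symm).hom,
      isStrictlyPerfect_single 1, isPcMap_of_isIso _ _⟩

/-- Pseudo-coherence of `M^~` in terms of modules. -/
lemma locPC_tildeD_iff {R : CommRingCat.{u}} (m : ℤ) (M : Dual.D R) :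
    LocPC m ((DCoh.tildeD R).obj M) ↔ DRing.IsPseudoCoherent R m M := by
  rw [← isPseudoCoherentD_iff, pseudoCoherentD_tildeD_iff]
  constructor
  · rintro ⟨E, α, ⟨⟨a, b, hab⟩, hf⟩, hα⟩
    exact ⟨E, a, b, α, hab, hf, hα.1, hα.2⟩
  · rintro ⟨E, a, b, α, hab, hf, h1, h2⟩
    exact ⟨E, α, ⟨⟨a, b, hab⟩, hf⟩, h1, h2⟩

/-- Pseudo-coherence of `M^~` placed in degree zero. -/
lemma locPC_inD_tilde_iff {R : CommRingCat.{u}} (m : ℤ) (M : ModuleCat.{u} R) :
    LocPC m (DCoh.inD (Spec R) ((tilde.functor R).obj M)) ↔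
      DRing.IsPseudoCoherentModule R m M := by
  let e := ((tilde.functor R).mapDerivedCategorySingleFunctor 0).app M
  exact (Iff.intro (fun h => LocPC.of_iso e.symm h) fun h => LocPC.of_iso e h).trans
    (locPC_tildeD_iff m _)

/-- A pseudo-coherent ring map gives a transfer morphism of spectra. -/
theorem pcPush_spec {A B : CommRingCat.{u}} (φ : A ⟶ B) [IsClEmb (Spec.map φ)]
    (h : H9Misc.DRingRelPC.PCHom φ.hom) : PCPush (Spec.map φ) := by
  refine pcPush_of_structure _ fun m => LocPC.of_iso ?_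
    ((locPC_inD_tilde_iff (R := A) m _).2 ((H9Misc.DRingPC.pc'_iff _).1 h m))
  exact (DerivedCategory.singleFunctor (Spec A).Modules 0).mapIso
    (((pushTildeIso φ).app (ModuleCat.of B B)).symm ≪≫
      (Scheme.Modules.pushforward (Spec.map φ)).mapIso tildeSelf) ≪≫ (pDSingle (Spec.map φ) _).symm

end PCPush

section IPC

/-- The pushforward along `c` of the restriction along `j` is `m`-pseudo-coherent. -/
def IPC (m : ℤ) (E : DCoh.D X) (j : U ⟶ X) [IsOpenImmersion j] (c : U ⟶ P) [IsClEmb c] : Prop :=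
  LocPC m ((pD c).obj ((rho j).obj E))

variable {m : ℤ} {E : DCoh.D X} {j : U ⟶ X} [IsOpenImmersion j] {c : U ⟶ P} [IsClEmb c]

lemma IPC.of_iso {E' : DCoh.D X} (e : E ≅ E') (h : IPC m E j c) : IPC m E' j c :=
  LocPC.of_iso ((pD c).mapIso ((rho j).mapIso e)) h

lemma ipc_congr {j' : U ⟶ X} [IsOpenImmersion j'] {c' : U ⟶ P} [IsClEmb c'] (hj : j = j')
    (hc : c = c') : IPC m E j c ↔ IPC m E j' c' := by
  subst hj hc
  exact Iff.rfl

/-- Composing with a transfer morphism changes nothing. -/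
lemma ipc_comp_iff {g : P ⟶ Q} [IsClEmb g] (hg : PCPush g) {c' : U ⟶ Q} [IsClEmb c']
    (w : c ≫ g = c') : IPC m E j c' ↔ IPC m E j c := by
  let F := (rho j).obj E
  let e : (pD g).obj ((pD c).obj F) ≅ (pD c').obj F := pDComp c g c' w F
  exact ⟨fun h => hg.locPC_of_push (LocPC.of_iso e.symm h),
    fun h => LocPC.of_iso e (hg.locPC_push h)⟩

/-- Pushing forward a restriction along an isomorphism. -/
lemma isIso_unit_of_iso (σ : U' ⟶ U) [IsIso σ] (M : U.Modules) :
    IsIso ((Scheme.Modules.restrictAdjunction σ).unit.app M) := by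
  refine Scheme.Modules.Hom.isIso_iff_isIso_app.2 fun O => ?_
  rw [Scheme.Modules.restrictAdjunction_unit_app_app]
  have h : O = σ ''ᵁ (σ ⁻¹ᵁ O) := by
    rw [Scheme.Hom.image_preimage_eq_opensRange_inf, Scheme.Hom.opensRange_of_isIso, top_inf_eq]
  haveI : IsIso (homOfLE (σ.image_preimage_le O)) :=
    ⟨homOfLE h.le, Subsingleton.elim _ _, Subsingleton.elim _ _⟩
  infer_instance

/-- `σ_* σ^* = id` on the derived category for an isomorphism `σ`. -/
noncomputable def pDRhoIso (σ : U' ⟶ U) [IsIso σ] (F : DCoh.D U) :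
    (pD σ).obj ((rho σ).obj F) ≅ F :=
  haveI : ∀ M, IsIso ((Scheme.Modules.restrictAdjunction σ).unit.app M) := isIso_unit_of_iso σ
  haveI := NatIso.isIso_of_isIso_app (Scheme.Modules.restrictAdjunction σ).unit
  (pD σ).mapIso ((rho σ).mapIso (repIso F).symm ≪≫ (rhoQ σ).app _) ≪≫ pDQ σ _ ≪≫
    DerivedCategory.Q.mapIso
      ((NatIso.mapHomologicalComplex (asIso (Scheme.Modules.restrictAdjunction σ).unit).symm
        (ComplexShape.up ℤ)).app _ ≪≫
          (Functor.mapHomologicalComplexIdIso _ _).app _) ≪≫ repIso F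

/-- Changing the source by an isomorphism. -/
lemma ipc_src_iff (σ : U' ⟶ U) [IsIso σ] {j' : U' ⟶ X} [IsOpenImmersion j'] (hj : σ ≫ j = j')
    {c' : U' ⟶ P} [IsClEmb c'] (hc : σ ≫ c = c') : IPC m E j' c' ↔ IPC m E j c := by
  let e : (pD c').obj ((rho j').obj E) ≅ (pD c).obj ((rho j).obj E) :=
    (pDComp σ c c' hc _).symm ≪≫
      (pD c).mapIso ((pD σ).mapIso (rhoComp σ j j' hj E).symm ≪≫ pDRhoIso σ _)
  exact ⟨fun h => LocPC.of_iso e h, fun h => LocPC.of_iso e.symm h⟩

lemma ipc_morphismRestrict_iff (W : P.Opens) :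
    IPC m E ((c ⁻¹ᵁ W).ι ≫ j) (c ∣_ W) ↔ LocPC m ((rho W.ι).obj ((pD c).obj ((rho j).obj E))) := by
  let e : (rho W.ι).obj ((pD c).obj ((rho j).obj E)) ≅
      (pD (c ∣_ W)).obj ((rho ((c ⁻¹ᵁ W).ι ≫ j)).obj E) :=
    pDRho c W _ ≪≫ (pD (c ∣_ W)).mapIso (rhoComp _ j _ rfl E)
  exact ⟨fun h => LocPC.of_iso e.symm h, fun h => LocPC.of_iso e h⟩

variable (j c) in
/-- A base change of `c` along an open immersion `w`. -/
structure OpenSq (σ : U' ⟶ U) (w : Q ⟶ P) (c' : U' ⟶ Q) (j' : U' ⟶ X) : Prop where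
  j_eq : σ ≫ j = j'
  sq : c' ≫ w = σ ≫ c
  range : Set.range σ.base = c.base ⁻¹' Set.range w.base

/-- IPC after a base change along an open immersion. -/
theorem ipc_openSq_iff {σ : U' ⟶ U} [IsOpenImmersion σ] {w : Q ⟶ P} [IsOpenImmersion w]
    {c' : U' ⟶ Q} [IsClEmb c'] {j' : U' ⟶ X} [IsOpenImmersion j'] (h : OpenSq j c σ w c' j') :
    IPC m E j' c' ↔ LocPC m ((rho w.opensRange.ι).obj ((pD c).obj ((rho j).obj E))) := by
  let W := w.opensRange
  let e : Q ⟶ (W : Scheme.{u}) := (IsOpenImmersion.isoOfRangeEq w W.ι (by simp [W])).hom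
  have he : e ≫ W.ι = w := IsOpenImmersion.isoOfRangeEq_hom_fac _ _ _
  let s : U' ⟶ (c ⁻¹ᵁ W : Scheme.{u}) := (IsOpenImmersion.isoOfRangeEq σ (c ⁻¹ᵁ W).ι (by
    rw [h.range]; simp [W])).hom
  have hs : s ≫ (c ⁻¹ᵁ W).ι = σ := IsOpenImmersion.isoOfRangeEq_hom_fac _ _ _
  haveI : IsIso e := inferInstance
  haveI : IsIso s := inferInstance
  haveI := isClEmb_comp c' e
  have hc : s ≫ (c ∣_ W) = c' ≫ e := by
    rw [← cancel_mono W.ι, Category.assoc, morphismRestrict_ι, Category.assoc, he, h.sq,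
      ← Category.assoc, hs]
  have hj : s ≫ ((c ⁻¹ᵁ W).ι ≫ j) = j' := by rw [← Category.assoc, hs, h.j_eq]
  rw [← ipc_morphismRestrict_iff W, ← ipc_src_iff s hj hc, ipc_comp_iff (pcPush_of_isIso e) rfl]

lemma IPC.openSq {σ : U' ⟶ U} [IsOpenImmersion σ] {w : Q ⟶ P} [IsOpenImmersion w]
    {c' : U' ⟶ Q} [IsClEmb c'] {j' : U' ⟶ X} [IsOpenImmersion j'] (hsq : OpenSq j c σ w c' j')
    (h : IPC m E j c) : IPC m E j' c' :=
  (ipc_openSq_iff hsq).2 (LocPC.restrict h _)

variable (m E j c) in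
/-- IPC is local on the image. -/
theorem ipc_of_local
    (h : ∀ x : U, ∃ W : P.Opens, c.base x ∈ W ∧
      LocPC m ((rho W.ι).obj ((pD c).obj ((rho j).obj E)))) : IPC m E j c :=
  locPC_push_of_image c h

end IPC

end Groth.Agent.RelPC13
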