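import Groth.Agent.RelPC13.Closure
import Groth.Agent.RelPC13.RpushExact
import Groth.Agent.MorLib.Thick.Affine
import Groth.Agent.H9Misc.DRingRelPC2
import Groth.Prelude.Def_MoreMor
import Mathlib.RingTheory.AdjoinRoot

/-!
# Relative pseudo-coherence along closed immersions up to nilpotents
-/

set_option linter.style.haveILetI false
set_option linter.unusedSectionVars false
set_option backward.isDefEq.respectTransparency false

universe u

open CategoryTheory CategoryTheory.Limits AlgebraicGeometry TopologicalSpace Opposite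
open Groth.Agent.KFlatLib Groth.Agent.H9Misc.DRingRelPC

attribute [local instance] HasDerivedCategory.standard

namespace Groth.Agent.RelPC13

section Steps

variable {X : Scheme.{u}} {U : X.Opens} {m : ℤ} {E : DCoh.D X}

/-- Changing the ring by a transfer map, without surjectivity. -/
theorem spc_comp_iff' {Q Q' : Type u} [CommRing Q] [CommRing Q'] (χ : Q →+* Γ(X, U))
    [IsClEmb (imm U χ)] (θ : Q' →+* Q) [IsClEmb (Spec.map (CommRingCat.ofHom θ))] (hpc : PCHom θ) :
    IsClEmb (imm U (χ.comp θ)) ∧ (SPC m E U (χ.comp θ) ↔ SPC m E U χ) := by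
  haveI : IsClEmb (imm U (χ.comp θ)) := by
    rw [← imm_comp]
    exact isClEmb_comp _ _
  have h := ipc_comp_iff (m := m) (E := E) (j := U.ι) (pcPush_spec (CommRingCat.ofHom θ) hpc)
    (imm_comp χ θ)
  exact ⟨inferInstance, fun hh => ⟨inferInstance, h.1 hh.2⟩, fun hh => ⟨inferInstance, h.2 hh.2⟩⟩

open Polynomial in
/-- Adjoining one nilpotent element. -/
theorem spc_nilp_step {P : Type u} [CommRing P] (χ : P[X] →+* Γ(X, U))
    (hnil : IsNilpotent (χ Polynomial.X)) [IsClEmb (imm U (χ.comp Polynomial.C))] :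
    IsClEmb (imm U χ) ∧ (SPC m E U (χ.comp Polynomial.C) ↔ SPC m E U χ) := by
  obtain ⟨N, hN⟩ := hnil
  let g : P[X] := Polynomial.X ^ (N + 1)
  have hg : g.Monic := monic_X_pow _
  have hχg : χ g = 0 := by
    show χ (Polynomial.X ^ (N + 1)) = 0
    rw [map_pow, pow_succ, hN, zero_mul]
  have hc : g.eval₂ (χ.comp Polynomial.C) (χ Polynomial.X) = 0 := by
    show Polynomial.eval₂ _ _ (Polynomial.X ^ (N + 1)) = 0
    rw [eval₂_X_pow, pow_succ, hN, zero_mul]
  let χ' : AdjoinRoot g →+* Γ(X, U) := AdjoinRoot.lift (χ.comp Polynomial.C) (χ Polynomial.X) hc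
  have hmk : χ'.comp (AdjoinRoot.mk g) = χ := by
    refine Polynomial.ringHom_ext (fun a => ?_) ?_
    · simp [χ']
    · simp [χ', AdjoinRoot.mk_X]
  have hof : χ'.comp (AdjoinRoot.of g) = χ.comp Polynomial.C := RingHom.ext fun a => by simp [χ']
  let ε : AdjoinRoot g →+* P := AdjoinRoot.lift (RingHom.id P) 0 (by simp [g])
  have hεs : Function.Surjective ε := fun a => ⟨AdjoinRoot.of g a, by simp [ε]⟩
  have hεk : RingHom.ker ε ≤ nilradical (AdjoinRoot g) := by
    intro z hz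
    obtain ⟨q, rfl⟩ := AdjoinRoot.mk_surjective z
    have hq : q.coeff 0 = 0 := by
      simpa [ε, Polynomial.eval₂_at_zero] using hz
    obtain ⟨r, rfl⟩ := Polynomial.X_dvd_iff.2 hq
    refine mem_nilradical.2 ⟨N + 1, ?_⟩
    rw [← map_pow, mul_pow, map_mul, AdjoinRoot.mk_self, zero_mul]
  have hemb : IsClEmb (Spec.map (CommRingCat.ofHom (AdjoinRoot.of g))) := by
    let s : Spec (CommRingCat.of P) ⟶ Spec (CommRingCat.of (AdjoinRoot g)) :=
      Spec.map (CommRingCat.ofHom ε)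
    let q := Spec.map (CommRingCat.ofHom (AdjoinRoot.of g))
    have hsq : s ≫ q = 𝟙 _ := by
      rw [← Spec.map_comp, ← CommRingCat.ofHom_comp,
        show ε.comp (AdjoinRoot.of g) = RingHom.id P from RingHom.ext fun a => by simp [ε],
        CommRingCat.ofHom_id, Spec.map_id]
    haveI : IsClosedImmersion s := IsClosedImmersion.spec_of_surjective _ hεs
    have hsurj : Function.Surjective s.base := fun x => by
      have hr : x ∈ Set.range (PrimeSpectrum.comap ε) := by
        rw [range_comap_of_surjective _ ε hεs]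
        exact fun z hz => nilradical_le_prime x.asIdeal (hεk hz)
      exact hr
    let e := s.isClosedEmbedding.isEmbedding.toHomeomorphOfSurjective hsurj
    have he : ⇑q.base = ⇑e.symm := funext fun x => by
      obtain ⟨a, rfl⟩ := e.surjective x
      rw [e.symm_apply_apply]
      show q.base (s.base a) = a
      rw [← Scheme.Hom.comp_apply, hsq]
      rfl
    refine ⟨?_⟩
    show Topology.IsClosedEmbedding q.base
    rw [he]
    exact e.symm.isClosedEmbedding
  haveI := hemb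
  haveI : IsClEmb (imm U χ') := by
    haveI : IsClEmb (imm U χ' ≫ Spec.map (CommRingCat.ofHom (AdjoinRoot.of g))) := by
      rw [imm_comp, hof]; infer_instance
    exact isClEmb_of_comp _ (Spec.map (CommRingCat.ofHom (AdjoinRoot.of g)))
  haveI : IsClosedImmersion (Spec.map (CommRingCat.ofHom (AdjoinRoot.mk g))) :=
    IsClosedImmersion.spec_of_surjective _ AdjoinRoot.mk_surjective
  haveI : Module.Finite P (AdjoinRoot g) := hg.finite_adjoinRoot
  haveI : Module.Free P (AdjoinRoot g) := hg.free_adjoinRoot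
  have h₁ := spc_comp_iff' (m := m) (E := E) χ' (AdjoinRoot.mk g) (pcHom_quotient_monic g hg)
  have h₂ := spc_comp_iff' (m := m) (E := E) χ' (AdjoinRoot.of g)
    (show PCHom (AdjoinRoot.of g) from pcHom_of_free (P := P) (Q := AdjoinRoot g))
  rw [hmk] at h₁
  rw [hof] at h₂
  exact ⟨h₁.1, h₂.2.trans h₁.2.symm⟩

open MvPolynomial in
/-- Adjoining finitely many nilpotent elements. -/
theorem spc_nilp_steps : ∀ (k : ℕ) (P : Type u) [CommRing P]
    (χ : MvPolynomial (Fin k) P →+* Γ(X, U)), (∀ j, IsNilpotent (χ (MvPolynomial.X j))) →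
    IsClEmb (imm U (χ.comp MvPolynomial.C)) →
    IsClEmb (imm U χ) ∧ (SPC m E U (χ.comp MvPolynomial.C) ↔ SPC m E U χ)
  | 0, P, _, χ, _, hP => by
    let θ : MvPolynomial (Fin 0) P →+* P := (MvPolynomial.isEmptyRingEquiv P (Fin 0)).toRingHom
    have hθ : (χ.comp MvPolynomial.C).comp θ = χ := by
      refine MvPolynomial.ringHom_ext (fun a => ?_) fun j => j.elim0
      simp only [RingHom.comp_apply, θ]
      congr 1
      exact congrArg _ (MvPolynomial.coeff_zero_C a)
    haveI := hP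
    haveI : IsClosedImmersion (Spec.map (CommRingCat.ofHom θ)) :=
      IsClosedImmersion.spec_of_surjective _ (MvPolynomial.isEmptyRingEquiv P (Fin 0)).surjective
    have h := spc_comp_iff' (m := m) (E := E) (χ.comp MvPolynomial.C) θ
      (PCHom.of_bijective (MvPolynomial.isEmptyRingEquiv P (Fin 0)).bijective)
    rw [hθ] at h
    exact ⟨h.1, h.2.symm⟩
  | k + 1, P, _, χ, hnil, hP => by
    let σ := (MvPolynomial.finSuccEquiv P k).toRingEquiv
    let χ₁ : Polynomial (MvPolynomial (Fin k) P) →+* Γ(X, U) := χ.comp σ.symm.toRingHom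
    have hX : ∀ j : Fin k, σ.symm (Polynomial.C (MvPolynomial.X j)) = MvPolynomial.X j.succ :=
      fun j => σ.symm_apply_eq.2 (MvPolynomial.finSuccEquiv_X_succ (R := P) (j := j)).symm
    have hX0 : σ.symm Polynomial.X = MvPolynomial.X 0 :=
      σ.symm_apply_eq.2 (MvPolynomial.finSuccEquiv_X_zero (R := P)).symm
    have hC : ∀ a : P, σ.symm (Polynomial.C (MvPolynomial.C a)) = MvPolynomial.C a := fun a =>
      σ.symm_apply_eq.2 (by simp [σ, MvPolynomial.finSuccEquiv_apply])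
    have hb : (χ₁.comp Polynomial.C).comp MvPolynomial.C = χ.comp MvPolynomial.C :=
      RingHom.ext fun a => congrArg χ (hC a)
    obtain ⟨hc₂, hi₂⟩ := spc_nilp_steps k P (χ₁.comp Polynomial.C)
      (fun j => by rw [show (χ₁.comp Polynomial.C) (MvPolynomial.X j) = χ (MvPolynomial.X j.succ) from
        congrArg χ (hX j)]; exact hnil _) (by rw [hb]; exact hP)
    haveI := hc₂
    obtain ⟨hc₁, hi₁⟩ := spc_nilp_step (m := m) (E := E) χ₁ (by
      rw [show χ₁ Polynomial.X = χ (MvPolynomial.X 0) from congrArg χ hX0]; exact hnil _)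
    haveI := hc₁
    haveI : IsClosedImmersion (Spec.map (CommRingCat.ofHom σ.toRingHom)) :=
      IsClosedImmersion.spec_of_surjective _ σ.surjective
    have h := spc_comp_iff' (m := m) (E := E) χ₁ σ.toRingHom (PCHom.of_bijective σ.bijective)
    rw [show χ₁.comp σ.toRingHom = χ from RingHom.ext fun a => congrArg χ (σ.symm_apply_apply a)] at h
    rw [hb] at hi₂
    exact ⟨h.1, hi₂.trans (hi₁.trans h.2.symm)⟩

end Steps

section Main

variable {X Y S : Scheme.{u}}

lemma imm_comp_res (i : X ⟶ Y) {W : Y.Opens} {Q : Type u} [CommRing Q] (φ : Q →+* Γ(Y, W)) :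
    (i ∣_ W) ≫ imm W φ = imm (i ⁻¹ᵁ W) ((i.app W).hom.comp φ) := by
  simp only [imm, ← Scheme.Opens.toSpecΓ_naturality_assoc, ← Spec.map_comp]
  rfl

lemma isClEmb_of_thickening {Z : Scheme.{u}} (t : Z ⟶ X) (ht : MoreMor.IsThickening t)
    (i : X ⟶ Y) (c : Z ⟶ Y) [IsClosedImmersion c] (htc : t ≫ i = c) : IsClEmb i := by
  haveI := ht.1
  let e := t.isClosedEmbedding.isEmbedding.toHomeomorphOfSurjective ht.2.surj
  refine ⟨?_⟩
  have he : ⇑i.base = ⇑c.base ∘ ⇑e.symm := funext fun x => by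
    obtain ⟨z, rfl⟩ := e.surjective x
    rw [Function.comp_apply, e.symm_apply_apply, ← htc]
    rfl
  rw [he]
  exact c.isClosedEmbedding.comp e.symm.isClosedEmbedding

lemma isNilpotent_of_app_eq_zero {Z : Scheme.{u}} (t : Z ⟶ X) [Surjective t] {U : X.Opens}
    (hU : IsAffineOpen U) {a : Γ(X, U)} (ha : t.app U a = 0) : IsNilpotent a := by
  have h0 : t ⁻¹ᵁ X.basicOpen a = ⊥ := by
    rw [Scheme.preimage_basicOpen, ha, Scheme.basicOpen_zero]
  have h1 : X.basicOpen a = ⊥ := eq_bot_iff.2 fun x hx => by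
    obtain ⟨z, rfl⟩ := t.surjective x
    exact h0.le hx
  have h2 : PrimeSpectrum.basicOpen a = (⊥ : TopologicalSpace.Opens _) := by
    rw [← hU.fromSpec_preimage_basicOpen, h1]
    rfl
  exact PrimeSpectrum.basicOpen_eq_bot_iff _ |>.1 h2

variable {Z : Scheme.{u}} (t : Z ⟶ X) (ht : MoreMor.IsThickening t) (i : X ⟶ Y) (c : Z ⟶ Y)
  [IsClosedImmersion c] (htc : t ≫ i = c)

include ht htc

lemma isAffineOpen_preimage_nilp {W : Y.Opens} (hW : IsAffineOpen W) :
    IsAffineOpen (i ⁻¹ᵁ W) := by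
  haveI := ht.1
  have hz : IsAffineOpen (t ⁻¹ᵁ (i ⁻¹ᵁ W)) := by
    rw [← Scheme.Hom.comp_preimage, htc]
    exact hW.preimage c
  haveI : IsAffine (t ⁻¹ᵁ (i ⁻¹ᵁ W) : Scheme.{u}) := hz
  exact MorLib.Thick.isAffine_of_thickening (t ∣_ (i ⁻¹ᵁ W)) fun x => by
    obtain ⟨z, hz⟩ := ht.2.surj x.1
    exact ⟨⟨z, show t.base z ∈ i ⁻¹ᵁ W by rw [hz]; exact x.2⟩, Subtype.ext (by
      rw [morphismRestrict_base]; exact hz)⟩

variable (p : X ⟶ S) (q : Y ⟶ S) [LocallyOfFiniteType p] (w : i ≫ q = p) {m : ℤ} (E : DCoh.D X)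

include w

open MvPolynomial in
/-- The test on a chart of `Y` is the test on the preimage. -/
theorem pcOn_nilp_iff {W : Y.Opens} (hW : IsAffineOpen W) {V : S.Opens} (hV : IsAffineOpen V)
    (h : W ≤ q ⁻¹ᵁ V) {n : ℕ} (ψ : MvPolynomial (Fin n) Γ(S, V) →+* Γ(Y, W))
    (hψ : DerSch.IsChart q W V h ψ) [IsClEmb i] [IsClEmb (imm W ψ)] :
    PCOn p m E (i ⁻¹ᵁ W) V ↔ SPC m ((pD i).obj E) W ψ := by
  let U : X.Opens := i ⁻¹ᵁ W
  have hU : IsAffineOpen U := isAffineOpen_preimage_nilp t ht i c htc hW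
  have hUV : U ≤ p ⁻¹ᵁ V := by
    rw [← w]
    exact fun x hx => h hx
  let r := (i.app W).hom.comp ψ
  haveI : IsClEmb (imm U r) := by
    rw [← imm_comp_res]; exact isClEmb_comp _ _
  obtain ⟨k, δ, hδ⟩ := exists_chart hUV (p.finiteType_appLE hV hU hUV)
  haveI := ht.1
  haveI := ht.2
  have hct : ∀ a : Γ(X, U), ∃ b, IsNilpotent (a - (i.app W).hom b) := fun a => by
    haveI : IsClosedImmersion (t ≫ i) := htc ▸ inferInstance
    obtain ⟨b, hb⟩ := (t ≫ i).app_surjective W hW (t.app U a)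
    refine ⟨b, isNilpotent_of_app_eq_zero t hU ?_⟩
    rw [map_sub]
    exact sub_eq_zero.2 hb.symm
  choose b hb using hct
  let y : Fin k → Γ(X, U) := fun j => δ (MvPolynomial.X j) - (i.app W).hom (b (δ (MvPolynomial.X j)))
  let χ : MvPolynomial (Fin k) (MvPolynomial (Fin n) Γ(S, V)) →+* Γ(X, U) := eval₂Hom r y
  have hχC : χ.comp C = r := RingHom.ext fun a => by simp [χ]
  have hconst : ∀ a : Γ(S, V), χ (C (C a)) = δ (C a) := fun a => by
    rw [isChart_C hδ, show χ (C (C a)) = r (C a) from RingHom.congr_fun hχC (C a),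
      RingHom.comp_apply, isChart_C hψ, ← CommRingCat.comp_apply, Scheme.Hom.app_eq_appLE,
      Scheme.Hom.appLE_comp_appLE]
    subst w
    rfl
  have hχ : Function.Surjective χ := by
    intro z
    obtain ⟨f, rfl⟩ := hδ.1 z
    induction f using MvPolynomial.induction_on with
    | C a => exact ⟨_, hconst a⟩
    | add f g hf hg =>
      obtain ⟨⟨u, hu⟩, v, hv⟩ := hf, hg
      exact ⟨u + v, by rw [map_add, map_add, hu, hv]⟩
    | mul_X f j hf =>
      obtain ⟨u, hu⟩ := hf
      obtain ⟨v, hv⟩ := hψ.1 (b (δ (MvPolynomial.X j)))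
      refine ⟨u * (MvPolynomial.X j + C v), ?_⟩
      rw [map_mul, map_mul, hu, map_add, show χ (C v) = (i.app W).hom (b (δ (MvPolynomial.X j))) from
        (RingHom.congr_fun hχC v).trans (congrArg _ hv), show χ (MvPolynomial.X j) = y j by simp [χ]]
      simp [y]
  obtain ⟨hcl, hiff⟩ := spc_nilp_steps (m := m) (E := E) k _ χ (fun j => by
    rw [show χ (MvPolynomial.X j) = y j by simp [χ]]
    exact hb _) (by rw [hχC]; infer_instance)
  rw [hχC] at hiff
  have key : SPC m E U δ ↔ SPC m ((pD i).obj E) W ψ := by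
    rw [← spc_poly₂_iff hU δ hδ.1 χ hχ hconst, ← hiff, spc_iff_locPC, spc_iff_locPC]
    let e : (immD W ψ).obj ((pD i).obj E) ≅ (immD U r).obj E :=
      (pD (imm W ψ)).mapIso (pDRho i W E) ≪≫
        pDComp (i ∣_ W) (imm W ψ) (imm U r) (imm_comp_res i ψ) _
    exact ⟨fun hh => LocPC.of_iso e.symm hh, fun hh => LocPC.of_iso e hh⟩
  exact ⟨fun hp => key.1 (hp.2 k δ hδ), fun hp => pcOn_of_chart hU hδ (key.2 hp)⟩

/-- Direct image along a closed immersion up to nilpotents. -/
theorem rel_nilp_iff [LocallyOfFiniteType q] [IsClEmb i] :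
    DerSch.IsPseudoCoherentRel p m E ↔ DerSch.IsPseudoCoherentRel q m ((pD i).obj E) := by
  constructor
  · intro hE
    refine isPseudoCoherentRel_of_forall fun W V h => ?_
    obtain ⟨n, ψ, hψ⟩ := exists_chart h (q.finiteType_appLE V.2 W.2 h)
    haveI := isClEmb_imm W.2 hψ.1
    have hUV : i ⁻¹ᵁ (W : Y.Opens) ≤ p ⁻¹ᵁ (V : S.Opens) := by
      rw [← w]; exact fun x hx => h hx
    exact pcOn_of_chart W.2 hψ ((pcOn_nilp_iff t ht i c htc p q w E W.2 V.2 h ψ hψ).1
      (pcOn_of_isPseudoCoherentRel hE (isAffineOpen_preimage_nilp t ht i c htc W.2) V.2 hUV))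
  · intro hE
    refine ⟨inferInstance, Set.univ, by simpa [iSup_univ] using iSup_affineOpens_eq_top S,
      fun V _ => ⟨(fun W : Y.affineOpens =>
        (⟨i ⁻¹ᵁ (W : Y.Opens), isAffineOpen_preimage_nilp t ht i c htc W.2⟩ : X.affineOpens)) ''
          {W | (W : Y.Opens) ≤ q ⁻¹ᵁ (V : S.Opens)}, ?_, ?_⟩⟩
    · refine le_antisymm (iSup₂_le ?_) fun x hx => ?_
      · rintro _ ⟨W, hW, rfl⟩
        rw [← w]; exact fun x hx => hW hx
      · obtain ⟨_, ⟨W, hW, rfl⟩, hxW, hWle⟩ := Y.isBasis_affineOpens.exists_subset_of_mem_open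
          (show i.base x ∈ q ⁻¹ᵁ (V : S.Opens) by
            have : x ∈ p ⁻¹ᵁ (V : S.Opens) := hx
            rw [← w] at this
            exact this) (q ⁻¹ᵁ (V : S.Opens)).2
        simp only [Opens.mem_iSup]
        exact ⟨_, ⟨⟨W, hW⟩, hWle, rfl⟩, hxW⟩
    · rintro _ ⟨W, hW, rfl⟩ hle
      obtain ⟨n, ψ, hψ⟩ := exists_chart hW (q.finiteType_appLE V.2 W.2 hW)
      haveI := isClEmb_imm W.2 hψ.1
      have hp := (pcOn_nilp_iff t ht i c htc p q w E W.2 V.2 hW ψ hψ).2
        ((pcOn_of_isPseudoCoherentRel hE W.2 V.2 hW).2 n ψ hψ)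
      have hU := isAffineOpen_preimage_nilp t ht i c htc W.2
      obtain ⟨k, φ, hφ⟩ := exists_chart hle (p.finiteType_appLE V.2 hU hle)
      exact ⟨k, φ, hφ, hp.chartPC hU hφ⟩

end Main

end Groth.Agent.RelPC13
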