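import Groth.Agent.RelPC13.Chart
import Mathlib.RingTheory.MvPolynomial.Localization

/-!
# Independence of the chart and change of the base
-/

set_option linter.style.haveILetI false
set_option backward.isDefEq.respectTransparency false

universe u

open CategoryTheory CategoryTheory.Limits AlgebraicGeometry TopologicalSpace Opposite MvPolynomial
open Groth.Agent.KFlatLib Groth.Agent.H9Misc.DRingRelPC

attribute [local instance] HasDerivedCategory.standard

namespace Groth.Agent.RelPC13

variable {X : Scheme.{u}} {U : X.Opens} {m : ℤ} {E : DCoh.D X} {A : Type u} [CommRing A]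

/-- Two polynomial charts with the same constants give the same test. -/
theorem spc_poly_iff (hU : IsAffineOpen U) {n k : ℕ}
    (φ : MvPolynomial (Fin n) A →+* Γ(X, U)) (hφ : Function.Surjective φ)
    (ψ : MvPolynomial (Fin k) A →+* Γ(X, U)) (hψ : Function.Surjective ψ)
    (hC : φ.comp C = ψ.comp C) : SPC m E U φ ↔ SPC m E U ψ := by
  choose p hp using fun j : Fin k => hφ (ψ (MvPolynomial.X j))
  choose q hq using fun i : Fin n => hψ (φ (MvPolynomial.X i))
  let θ : MvPolynomial (Fin k) (MvPolynomial (Fin n) A) →+* MvPolynomial (Fin n) A :=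
    eval₂Hom (RingHom.id _) p
  let σ := (commAlgEquiv A (Fin k) (Fin n)).toRingEquiv.toRingHom
  let θ' : MvPolynomial (Fin k) (MvPolynomial (Fin n) A) →+* MvPolynomial (Fin k) A :=
    (eval₂Hom (RingHom.id _) q).comp σ
  have hθ' : PCHom θ' :=
    (PCHom.of_bijective (commAlgEquiv A (Fin k) (Fin n)).bijective).comp (pcHom_aeval n _ q)
  have hs : Function.Surjective θ := fun a => ⟨C a, by simp [θ]⟩
  have hs' : Function.Surjective θ' := fun a => by
    obtain ⟨b, hb⟩ := (commAlgEquiv A (Fin k) (Fin n)).surjective (C a)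
    exact ⟨b, by simp only [θ', RingHom.comp_apply]; exact (congrArg _ hb).trans (by simp)⟩
  have hc : ∀ a, φ (C a) = ψ (C a) := fun a => RingHom.congr_fun hC a
  have heq : ψ.comp θ' = φ.comp θ := by
    refine MvPolynomial.ringHom_ext (fun r => ?_) fun j => ?_
    · change ((ψ.comp θ').comp C) r = ((φ.comp θ).comp C) r
      refine RingHom.congr_fun (MvPolynomial.ringHom_ext (fun s => ?_) fun i => ?_) r
      · simp [θ, θ', σ, hc]
      · simp [θ, θ', σ, hq]
    · simp [θ, θ', σ, hp]
  exact (spc_comp_iff hU hφ θ hs (pcHom_aeval k _ p) rfl).symm.trans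
    (spc_comp_iff hU hψ θ' hs' hθ' heq)

/-- A chart on a double polynomial ring against a polynomial chart. -/
theorem spc_poly₂_iff (hU : IsAffineOpen U) {n k l : ℕ}
    (φ : MvPolynomial (Fin n) A →+* Γ(X, U)) (hφ : Function.Surjective φ)
    (χ : MvPolynomial (Fin l) (MvPolynomial (Fin k) A) →+* Γ(X, U)) (hχ : Function.Surjective χ)
    (hC : ∀ a, χ (C (C a)) = φ (C a)) : SPC m E U χ ↔ SPC m E U φ := by
  let e := (renameEquiv A (finSumFinEquiv.symm)).trans (sumAlgEquiv A (Fin l) (Fin k))
  let θ : MvPolynomial (Fin (l + k)) A →+* MvPolynomial (Fin l) (MvPolynomial (Fin k) A) :=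
    e.toRingEquiv.toRingHom
  have hs : Function.Surjective θ := e.surjective
  rw [← spc_comp_iff hU hχ θ hs (PCHom.of_bijective e.bijective) rfl]
  refine spc_poly_iff hU (χ.comp θ) (fun b => ((hχ.comp hs) b)) φ hφ (RingHom.ext fun a => ?_)
  simp only [RingHom.comp_apply]
  rw [← hC]
  congr 1
  simp [θ, e]

/-- The map from polynomials in one variable onto a principal localization. -/
theorem exists_awayTheta {Q : Type u} [CommRing Q] (G : Q) (L : Type u) [CommRing L] [Algebra Q L]
    [IsLocalization.Away G L] :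
    ∃ θ : MvPolynomial (Fin 1) Q →+* L,
      Function.Surjective θ ∧ PCHom θ ∧ θ.comp C = algebraMap Q L := by
  let e : Localization.Away G ≃ₐ[Q] L :=
    IsLocalization.algEquiv (Submonoid.powers G) (Localization.Away G) L
  let t := IsLocalization.Away.invSelf G (S := Localization.Away G)
  let θ₀ := MvPolynomial.eval₂Hom (algebraMap Q (Localization.Away G)) (fun _ : Fin 1 => t)
  have ht : algebraMap Q (Localization.Away G) G * t = 1 := IsLocalization.Away.mul_invSelf G
  have hs : Function.Surjective θ₀ := fun z => by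
    obtain ⟨⟨a, _, ⟨k, rfl⟩⟩, hz⟩ := IsLocalization.surj (Submonoid.powers G) z
    refine ⟨C a * MvPolynomial.X 0 ^ k, ?_⟩
    simp only [θ₀, map_mul, map_pow, coe_eval₂Hom, eval₂_C, eval₂_X]
    rw [← hz, map_pow, mul_assoc, ← mul_pow, ht, one_pow, mul_one]
  exact ⟨e.toRingEquiv.toRingHom.comp θ₀, e.surjective.comp hs,
    (pcHom_away_mv G).comp (PCHom.of_bijective e.bijective), RingHom.ext fun a => by simp [θ₀]⟩

/-- From a localized map of a chart to charts. -/
theorem spc_loc_iff (hU : IsAffineOpen U) {n k : ℕ} (G : MvPolynomial (Fin n) A)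
    (L : Type u) [CommRing L] [Algebra (MvPolynomial (Fin n) A) L] [IsLocalization.Away G L]
    (χ : L →+* Γ(X, U)) (hχ : Function.Surjective χ)
    (φ : MvPolynomial (Fin k) A →+* Γ(X, U)) (hφ : Function.Surjective φ)
    (hC : ∀ a, χ (algebraMap (MvPolynomial (Fin n) A) L (C a)) = φ (C a)) :
    SPC m E U χ ↔ SPC m E U φ := by
  obtain ⟨θ, hs, hpc, hθ⟩ := exists_awayTheta G L
  rw [← spc_comp_iff hU hχ θ hs hpc rfl]
  refine spc_poly₂_iff hU φ hφ _ (hχ.comp hs) fun a => ?_
  rw [← hC, RingHom.comp_apply]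
  exact congrArg χ (RingHom.congr_fun hθ (C a))

/-- Charts over a principal localization of the base. -/
theorem spc_base_iff (hU : IsAffineOpen U) {n k : ℕ} (r : A) (L : Type u) [CommRing L] [Algebra A L]
    [IsLocalization.Away r L]
    (φ : MvPolynomial (Fin n) A →+* Γ(X, U)) (hφ : Function.Surjective φ)
    (ψ : MvPolynomial (Fin k) L →+* Γ(X, U)) (hψ : Function.Surjective ψ)
    (hC : ∀ a, ψ (C (algebraMap A L a)) = φ (C a)) : SPC m E U φ ↔ SPC m E U ψ := by
  letI : Algebra (MvPolynomial (Fin k) A) (MvPolynomial (Fin k) L) :=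
    (MvPolynomial.map (algebraMap A L)).toAlgebra
  haveI : IsLocalization.Away (C r : MvPolynomial (Fin k) A) (MvPolynomial (Fin k) L) := by
    have := MvPolynomial.isLocalization (σ := Fin k) (Submonoid.powers r) L
    rwa [Submonoid.map_powers] at this
  refine (spc_loc_iff hU (C r : MvPolynomial (Fin k) A) (MvPolynomial (Fin k) L) ψ hψ φ hφ
    fun a => ?_).symm
  rw [← hC]
  exact congrArg ψ (MvPolynomial.map_C _ a)

end Groth.Agent.RelPC13
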