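import Groth.Agent.RelPC13.Closure
import Groth.Agent.QCoh.FT
import Groth.Agent.QCoh.LocFree
import Groth.Agent.H9Misc.DRingPCModule

/-!
# Direct images of quasi-coherent modules on charts
-/

set_option linter.style.haveILetI false
set_option backward.isDefEq.respectTransparency false
set_option backward.isDefEq.respectTransparency.types false

universe u

open CategoryTheory CategoryTheory.Limits AlgebraicGeometry TopologicalSpace Opposite
open Groth.Agent.KFlatLib

attribute [local instance] HasDerivedCategory.standard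

namespace Groth.Agent.RelPC13

variable {X : Scheme.{u}}

/-- The direct image along an isomorphism of a restriction along it. -/
noncomputable def pushRestrictSelf {U U' : Scheme.{u}} (σ : U' ⟶ U) [IsIso σ] (N : U.Modules) :
    (Scheme.Modules.pushforward σ).obj (N.restrict σ) ≅ N :=
  haveI := isIso_unit_of_iso σ N
  (asIso ((Scheme.Modules.restrictAdjunction σ).unit.app N)).symm

/-- Sections over `U`, seen over a ring mapping to `Γ(X, U)`. -/
noncomputable abbrev chartModule (M : X.Modules) (U : X.Opens) {Q : Type u} [CommRing Q]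
    (χ : Q →+* Γ(X, U)) : ModuleCat.{u} Q :=
  (ModuleCat.restrictScalars χ).obj (ModuleCat.of Γ(X, U) Γ(M, U))

/-- On an affine chart the direct image of a quasi-coherent module is the module of sections. -/
noncomputable def pushImmTilde {M : X.Modules} (hM : Coh.IsQCoh M) {U : X.Opens}
    (hU : IsAffineOpen U) {Q : Type u} [CommRing Q] (χ : Q →+* Γ(X, U)) :
    (Scheme.Modules.pushforward (imm U χ)).obj (M.restrict U.ι) ≅
      (tilde.functor (CommRingCat.of Q)).obj (chartModule M U χ) :=
  haveI : IsIso (Scheme.Modules.fromTildeΓ (M.restrict hU.fromSpec)) :=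
    (isQuasicoherent_iff_isIso_fromTildeΓ _).1 (QCoh.isQCoh_restrict _ hM)
  haveI : IsIso U.toSpecΓ := inferInstanceAs (IsIso hU.isoSpec.hom)
  ((Scheme.Modules.pushforwardComp U.toSpecΓ (Spec.map (CommRingCat.ofHom χ))).app _).symm ≪≫
    (Scheme.Modules.pushforward (Spec.map (CommRingCat.ofHom χ))).mapIso
      ((Scheme.Modules.pushforward U.toSpecΓ).mapIso (QCoh.chartRestrictIso hU M).symm ≪≫
        pushRestrictSelf hU.isoSpec.hom _ ≪≫ (asIso (Scheme.Modules.fromTildeΓ _)).symm ≪≫
        (tilde.functor _).mapIso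
          (LinearEquiv.toModuleIso (QCoh.chartEquiv hU M)).symm) ≪≫
    (pushTildeIso (CommRingCat.ofHom χ)).app _

variable {M : X.Modules}

/-- Pseudo-coherence of the test object of a quasi-coherent module. -/
theorem spc_inD_iff (hM : Coh.IsQCoh M) {U : X.Opens} (hU : IsAffineOpen U) {Q : Type u}
    [CommRing Q] (χ : Q →+* Γ(X, U)) [IsClEmb (imm U χ)] (m : ℤ) :
    LocPC m ((immD U χ).obj (DCoh.inD X M)) ↔
      DRing.IsPseudoCoherentModule Q m (chartModule M U χ) := by
  let e : (immD U χ).obj (DCoh.inD X M) ≅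
      DCoh.inD (Spec (CommRingCat.of Q)) ((tilde.functor (CommRingCat.of Q)).obj (chartModule M U χ)) :=
    immDSingle U χ M ≪≫ (DerivedCategory.singleFunctor _ 0).mapIso (pushImmTilde hM hU χ)
  exact (Iff.intro (fun h => LocPC.of_iso e h) fun h => LocPC.of_iso e.symm h).trans
    (locPC_inD_tilde_iff m _)

lemma isQCoh_freeMod (n : ℕ) : Coh.IsQCoh (FlatMod.freeMod X n) :=
  QCoh.isQCoh_of_isFinLocFree (isFinLocFree_freeMod n)

lemma finite_chartModule (hM : Coh.IsQCoh M) (hft : CohB1.IsFT M) {U : X.Opens}
    (hU : IsAffineOpen U) {Q : Type u} [CommRing Q] (χ : Q →+* Γ(X, U))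
    (hχ : Function.Surjective χ) : Module.Finite Q (chartModule M U χ) := by
  haveI := QCoh.finite_of_isFT hM hft hU
  letI := χ.toAlgebra
  haveI : Module.Finite Q Γ(X, U) := Module.Finite.of_surjective (Algebra.linearMap Q Γ(X, U)) hχ
  letI := Module.compHom Γ(M, U) χ
  haveI : IsScalarTower Q Γ(X, U) Γ(M, U) := IsScalarTower.of_algebraMap_smul fun _ _ => rfl
  exact Module.Finite.trans Γ(X, U) Γ(M, U)

end Groth.Agent.RelPC13
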