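import Groth.Agent.RelPC13.RingBC
import Groth.Agent.PCMor.Ring
import Groth.Agent.PerfMor.FlatPC
import Groth.Agent.H9Misc.DRingRelPC2
import Groth.Agent.S6987

/-!
# Relative pseudo-coherence of the base changes of a complex along algebras
-/

set_option linter.style.haveILetI false
set_option backward.isDefEq.respectTransparency false
set_option backward.isDefEq.respectTransparency.types false

universe u

open CategoryTheory CategoryTheory.Limits MonoidalCategory MvPolynomial
open scoped TensorProduct

attribute [local instance] HasDerivedCategory.standard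

namespace Groth.Agent.RelPC13

open H9Misc H9Misc.DRingLTensor H9Misc.DRingRelPC

variable {R A : Type u} [CommRing R] [CommRing A] (φ : R →+* A) (K : DRing.Cx A) (m : ℤ)

/-- `K ⊗_A T` is `m`-pseudo-coherent relative to `R`, in terms of a chart of `T`. -/
def RelExt {T : Type u} [CommRing T] (f : A →+* T) : Prop :=
  ∃ (n : ℕ) (α : MvPolynomial (Fin n) R →+* T), Function.Surjective α ∧ α.comp C = f.comp φ ∧
    DRing.IsPseudoCoherent (MvPolynomial (Fin n) R) m
      ((DRing.restrictD α).obj (DRing.toD ((extC' f).obj K)))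

variable {φ K m}

lemma RelExt.finiteType {T : Type u} [CommRing T] {f : A →+* T} (h : RelExt φ K m f) :
    (f.comp φ).FiniteType := by
  obtain ⟨n, α, hs, hC, -⟩ := h
  rw [← hC]
  exact (RingHom.FiniteType.of_surjective α hs).comp
    (RingHom.finiteType_algebraMap.2 (inferInstanceAs (Algebra.FiniteType R (MvPolynomial (Fin n) R))))

/-- Any chart may be used. -/
theorem RelExt.via {T : Type u} [CommRing T] {f : A →+* T} (h : RelExt φ K m f) {k : ℕ}
    (β : MvPolynomial (Fin k) R →+* T) (hβ : Function.Surjective β) (hC : β.comp C = f.comp φ) :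
    DRing.IsPseudoCoherent (MvPolynomial (Fin k) R) m
      ((DRing.restrictD β).obj (DRing.toD ((extC' f).obj K))) := by
  obtain ⟨n, α, hs, hαC, hp⟩ := h
  letI := (f.comp φ).toAlgebra
  let α' : MvPolynomial (Fin n) R →ₐ[R] T := { α with commutes' := RingHom.congr_fun hαC }
  let β' : MvPolynomial (Fin k) R →ₐ[R] T := { β with commutes' := RingHom.congr_fun hC }
  exact (iff_via β' hβ _ m).1 ⟨n, α', hs, hp⟩

/-- In terms of the prelude's predicate. -/
theorem relExt_iff [Algebra R A] (hφ : algebraMap R A = φ) {T : Type u} [CommRing T] [Algebra A T]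
    [Algebra R T] [IsScalarTower R A T] :
    RelExt φ K m (algebraMap A T) ↔
      DerCA.IsRelPseudoCoherent R T m (DRing.toD ((extC' (algebraMap A T)).obj K)) := by
  subst hφ
  rw [RelExt, ← IsScalarTower.algebraMap_eq]
  constructor
  · rintro ⟨n, α, hs, hC, hp⟩
    exact ⟨n, { α with commutes' := RingHom.congr_fun hC }, hs, hp⟩
  · rintro ⟨n, α, hs, hp⟩
    exact ⟨n, α.toRingHom, hs, RingHom.ext fun r => α.commutes r, hp⟩

/-- Base change by the identity. -/
noncomputable def extCIdIso (K : DRing.Cx A) : (extC' (RingHom.id A)).obj K ≅ K :=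
  HomologicalComplex.Hom.isoOfComponents (fun i => (ModuleCat.extendScalarsId A).app (K.X i))
    (fun i j _ => ((ModuleCat.extendScalarsId A).hom.naturality (K.d i j)).symm)

theorem relExt_id_iff [Algebra R A] (hφ : algebraMap R A = φ) :
    RelExt φ K m (RingHom.id A) ↔ DerCA.IsRelPseudoCoherent R A m (DRing.toD K) := by
  subst hφ
  constructor
  · rintro ⟨n, α, hs, hC, hp⟩
    exact ⟨n, { α with commutes' := RingHom.congr_fun hC }, hs,
      DRingPC.of_iso ((DRing.restrictD α).mapIso (DerivedCategory.Q.mapIso (extCIdIso K))) hp⟩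
  · rintro ⟨n, α, hs, hp⟩
    exact ⟨n, α.toRingHom, hs, RingHom.ext fun r => α.commutes r,
      DRingPC.of_iso ((DRing.restrictD α.toRingHom).mapIso (DerivedCategory.Q.mapIso (extCIdIso K)).symm) hp⟩

/-- Base change in two steps. -/
noncomputable def extCCompIso {T T' : Type u} [CommRing T] [CommRing T'] (f : A →+* T) (h : T →+* T')
    (K : DRing.Cx A) : (extC' h).obj ((extC' f).obj K) ≅ (extC' (h.comp f)).obj K :=
  HomologicalComplex.Hom.isoOfComponents (fun i => (ModuleCat.extendScalarsComp f h).symm.app (K.X i))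
    (fun i j _ => ((ModuleCat.extendScalarsComp f h).inv.naturality (K.d i j)).symm)

variable (hKb : ∃ b : ℤ, ∀ i : ℤ, b < i → IsZero (K.X i)) (hKf : ∀ i, Module.Flat A (K.X i))

attribute [local instance] MvPolynomial.algebraMvPolynomial in
/-- Base change to a polynomial ring. -/
theorem pc_ext_poly {P T : Type u} [CommRing P] [CommRing T] (α : P →+* T) {K : DRing.Cx T}
    (hK : DRing.IsPseudoCoherent P m ((DRing.restrictD α).obj (DRing.toD K))) (k : ℕ) :
    DRing.IsPseudoCoherent (MvPolynomial (Fin k) P) m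
      ((DRing.restrictD (MvPolynomial.map (σ := Fin k) α)).obj
        (DRing.toD ((extC' (MvPolynomial.C : T →+* MvPolynomial (Fin k) T)).obj K))) := by
  letI := α.toAlgebra
  let hsq : (MvPolynomial.C : T →+* MvPolynomial (Fin k) T).comp α =
      (MvPolynomial.map (σ := Fin k) α).comp MvPolynomial.C :=
    RingHom.ext fun a => (MvPolynomial.map_C α a).symm
  haveI : IsScalarTower P T (MvPolynomial (Fin k) T) := IsScalarTower.of_algebraMap_eq fun _ => rfl
  haveI : IsScalarTower P (MvPolynomial (Fin k) P) (MvPolynomial (Fin k) T) :=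
    IsScalarTower.of_algebraMap_eq fun a => (MvPolynomial.map_C α a).symm
  haveI : Algebra.IsPushout P (MvPolynomial (Fin k) P) T (MvPolynomial (Fin k) T) := inferInstance
  exact pc_bc hsq (fun M => isIso_bcMap hsq rfl rfl rfl rfl M)
    ((RingHom.flat_algebraMap_iff (R := P) (S := MvPolynomial (Fin k) P)).2 inferInstance) hK

include hKb hKf in
/-- Ascent along pseudo-coherent ring maps. -/
theorem RelExt.comp {T T' : Type u} [CommRing T] [CommRing T'] {f : A →+* T} (hrel : RelExt φ K m f)
    {h : T →+* T'} (hh : PCMor.Q h) {f' : A →+* T'} (hf' : h.comp f = f') : RelExt φ K m f' := by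
  subst hf'
  obtain ⟨b, hb⟩ := hKb
  obtain ⟨n, α, hs, hαC, hp⟩ := hrel
  obtain ⟨k, β, hβC, hβs, hβ⟩ := hh
  let L := (extC' (MvPolynomial.C : T →+* MvPolynomial (Fin k) T)).obj ((extC' f).obj K)
  have hLb : ∀ i : ℤ, b < i → IsZero (L.X i) := fun i hi =>
    (ModuleCat.extendScalars _).map_isZero ((ModuleCat.extendScalars _).map_isZero (hb i hi))
  have hLf : ∀ i, Module.Flat (MvPolynomial (Fin k) T) (L.X i) := fun i => by
    haveI := hKf i
    haveI h1 : Module.Flat T (((extC' f).obj K).X i) := DRingLBase.flat_extendScalars f (K.X i)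
    exact @DRingLBase.flat_extendScalars _ _ _ _ (MvPolynomial.C : T →+* MvPolynomial (Fin k) T)
      (((extC' f).obj K).X i) h1
  have h1 := pc_ext (MvPolynomial.map (σ := Fin k) α) β hLb hLf (pc_ext_poly α hp k) hβ
  let e : (extC' β).obj L ≅ (extC' (h.comp f)).obj K :=
    (extC' β).mapIso (extCCompIso f MvPolynomial.C K) ≪≫ extCCompIso (MvPolynomial.C.comp f) β K ≪≫
      eqToIso (by rw [← RingHom.comp_assoc, hβC])
  let σ : MvPolynomial (Fin (k + n)) R →+* MvPolynomial (Fin k) (MvPolynomial (Fin n) R) :=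
    (PCMor.nestEquiv R k n).toRingEquiv.toRingHom
  have h2 := DRingPC.of_iso ((DRing.restrictD _).mapIso (DerivedCategory.Q.mapIso e)) h1
  refine ⟨k + n, (β.comp (MvPolynomial.map α)).comp σ,
    (hβs.comp (MvPolynomial.map_surjective α hs)).comp (PCMor.nestEquiv R k n).surjective,
    RingHom.ext fun a => ?_,
    (pc_iff_comp (PCHom.of_bijective (PCMor.nestEquiv R k n).bijective) _ _ rfl _ m).1 h2⟩
  have ha : σ (MvPolynomial.C a) = MvPolynomial.C (MvPolynomial.C a) :=
    (PCMor.nestEquiv R k n).commutes a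
  rw [RingHom.comp_apply, RingHom.comp_apply, RingHom.comp_apply, ha, MvPolynomial.map_C]
  exact (RingHom.congr_fun hβC (α (C a))).trans (congrArg h (RingHom.congr_fun hαC a))

/-- Descent along a finite projective faithfully flat algebra. -/
theorem RelExt.descend_finite {T T' : Type u} [CommRing T] [CommRing T'] [Algebra T T']
    [Module.Finite T T'] [Module.Projective T T'] [Module.FaithfullyFlat T T'] {f : A →+* T}
    (hT : (f.comp φ).FiniteType) (h : RelExt φ K m ((algebraMap T T').comp f)) : RelExt φ K m f := by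
  obtain ⟨k, γ, hγC, hγs⟩ := PCMor.exists_surjective hT
  obtain ⟨n, α, hs, hαC, hp⟩ := h
  letI : Algebra R T := (f.comp φ).toAlgebra
  letI : Algebra R T' := ((algebraMap T T').comp (algebraMap R T)).toAlgebra
  haveI : IsScalarTower R T T' := IsScalarTower.of_algebraMap_eq fun _ => rfl
  haveI : Algebra.FiniteType R T := hT
  let K' := (extC' (algebraMap T T')).obj ((extC' f).obj K)
  have h1 : DerCA.IsRelPseudoCoherent R T' m (DRing.toD K') :=
    ⟨n, { α with commutes' := RingHom.congr_fun (hαC.trans (RingHom.comp_assoc _ _ _)) }, hs,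
      DRingPC.of_iso ((DRing.restrictD α).mapIso
        (DerivedCategory.Q.mapIso (extCCompIso f (algebraMap T T') K)).symm) hp⟩
  let γ' : MvPolynomial (Fin k) R →ₐ[R] T := { γ with commutes' := RingHom.congr_fun hγC }
  have h2 := (iff_via γ' hγs _ m).1 ((finite_iff (R := R) (A := T) (DRing.toD K') m).1 h1)
  obtain ⟨ψ, hψ⟩ : ∃ ψ : T' →ₗ[T] T, ψ 1 = 1 := exists_retraction T T'
  let N := (ModuleCat.restrictScalars (algebraMap T T')).obj (ModuleCat.of T' T')
  let s : ModuleCat.of T T ⟶ N := ModuleCat.ofHom (X := T) (Y := N)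
    { toFun := fun a => (show T' from algebraMap T T' a)
      map_add' := map_add _
      map_smul' := fun c a => map_mul (algebraMap T T') c a }
  let r : N ⟶ ModuleCat.of T T := ModuleCat.ofHom (X := N) (Y := T)
    { toFun := fun z => ψ (show T' from z)
      map_add' := fun a b => map_add ψ a b
      map_smul' := fun c z => (congrArg ψ (Algebra.smul_def c (show T' from z)).symm).trans (map_smul ψ c _) }
  refine ⟨k, γ, hγs, hγC, pc_ext_descent γ (algebraMap T T') r s ?_ ?_⟩
  · refine ModuleCat.hom_ext (LinearMap.ext_ring ?_)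
    show ψ (algebraMap T T' 1) = 1
    rw [map_one, hψ]
  · exact DRingPC.of_iso ((restrictDCompIso γ (algebraMap T T')).app _).symm h2
where
  exists_retraction (B T : Type u) [CommRing B] [CommRing T] [Algebra B T] [Module.Projective B T]
      [Module.FaithfullyFlat B T] : ∃ ψ : T →ₗ[B] B, ψ 1 = 1 := by
    obtain ⟨s, hs⟩ := Module.projective_def.1 (inferInstance : Module.Projective B T)
    let I : Ideal B := Ideal.span (Set.range fun t : T => s 1 t)
    have hI : I = ⊤ := by
      by_contra hne
      obtain ⟨m, hm, hIm⟩ := Ideal.exists_le_maximal I hne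
      have h1 : (1 : T) ∈ m • (⊤ : Submodule B T) := by
        rw [← hs 1, Finsupp.linearCombination_apply, Finsupp.sum]
        exact Submodule.sum_mem _ fun t _ =>
          Submodule.smul_mem_smul (hIm (Ideal.subset_span ⟨t, rfl⟩)) trivial
      refine Module.FaithfullyFlat.submodule_ne_top (M := T) hm (eq_top_iff.2 fun t _ => ?_)
      have h2 := Submodule.mem_map_of_mem (f := LinearMap.mulLeft B t) h1
      rw [Submodule.map_smul''] at h2
      simpa using Submodule.smul_mono le_rfl le_top h2
    have h1 : (1 : B) ∈ I := hI ▸ trivial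
    obtain ⟨c, hc⟩ := (Finsupp.mem_span_range_iff_exists_finsupp (R := B)).1 h1
    refine ⟨c.sum fun t b => b • ((Finsupp.lapply t).comp s), ?_⟩
    rw [← hc]
    simp [Finsupp.sum, LinearMap.sum_apply]

/-- Locality. -/
theorem RelExt.of_span {T : Type u} [CommRing T] {f : A →+* T} (hT : (f.comp φ).FiniteType)
    {r : ℕ} (g : Fin r → T) (hg : Ideal.span (Set.range g) = ⊤)
    (h : ∀ i, RelExt φ K m ((algebraMap T (Localization.Away (g i))).comp f)) : RelExt φ K m f := by
  letI : Algebra R T := (f.comp φ).toAlgebra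
  haveI : Algebra.FiniteType R T := hT
  obtain ⟨k, γ, hγC, hγs⟩ := PCMor.exists_surjective hT
  let γ' : MvPolynomial (Fin k) R →ₐ[R] T := { γ with commutes' := RingHom.congr_fun hγC }
  refine ⟨k, γ, hγs, hγC, (iff_via γ' hγs _ m).1
    ((S6987.result ((extC' f).obj K) m g hg).2 fun i => ?_)⟩
  obtain ⟨n, α, hs, hαC, hp⟩ := h i
  refine ⟨n, { α with commutes' := fun a => (RingHom.congr_fun hαC a).trans ?_ }, hs,
    DRingPC.of_iso ((DRing.restrictD α).mapIso
      (DerivedCategory.Q.mapIso (extCCompIso f (algebraMap T _) K)).symm) hp⟩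
  exact (IsScalarTower.algebraMap_apply R T (Localization.Away (g i)) a).symm

end Groth.Agent.RelPC13
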