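import Groth.Agent.RelPC13.TensPC
import Groth.Agent.H9Misc.DRingPCDescent
import Groth.Agent.H9Misc.DRingTorLocal
import Groth.Prelude.Def_TrivBC
import Mathlib.RingTheory.IsTensorProduct

/-!
# Base change of relatively pseudo-coherent complexes
-/

set_option linter.style.haveILetI false
set_option backward.isDefEq.respectTransparency false
set_option backward.isDefEq.respectTransparency.types false

universe u

open CategoryTheory CategoryTheory.Limits MonoidalCategory
open scoped TensorProduct

attribute [local instance] HasDerivedCategory.standard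

namespace Groth.Agent.RelPC13

open H9Misc H9Misc.DRingLTensor

section Square

variable {P A D C : Type u} [CommRing P] [CommRing A] [CommRing D] [CommRing C]
  {φ : P →+* A} {ρ : P →+* D} {α : A →+* C} {φ' : D →+* C} (h : α.comp φ = φ'.comp ρ)

/-- The comparison `D ⊗_P M ⟶ C ⊗_A M`. -/
noncomputable def bcMap (M : ModuleCat.{u} A) :
    (ModuleCat.extendScalars.{u, u, u} ρ).obj ((ModuleCat.restrictScalars φ).obj M) ⟶
      (ModuleCat.restrictScalars φ').obj ((ModuleCat.extendScalars.{u, u, u} α).obj M) :=
  ((ModuleCat.extendRestrictScalarsAdj.{u, u, u} ρ).homEquiv _ _).symm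
    ((ModuleCat.restrictScalars φ).map ((ModuleCat.extendRestrictScalarsAdj.{u, u, u} α).unit.app M) ≫
      (TrivBC.resCommMod h).hom.app _)

lemma bcMap_natural {M M' : ModuleCat.{u} A} (f : M ⟶ M') :
    (ModuleCat.extendScalars.{u, u, u} ρ).map ((ModuleCat.restrictScalars φ).map f) ≫ bcMap h M' =
      bcMap h M ≫ (ModuleCat.restrictScalars φ').map ((ModuleCat.extendScalars.{u, u, u} α).map f) := by
  dsimp only [bcMap]
  rw [← Adjunction.homEquiv_naturality_left_symm, ← Adjunction.homEquiv_naturality_right_symm]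
  refine congrArg _ ?_
  have h₁ := (TrivBC.resCommMod h).hom.naturality ((ModuleCat.extendScalars.{u, u, u} α).map f)
  simp only [Functor.comp_map] at h₁
  rw [Category.assoc]
  erw [← h₁]
  rw [← Functor.map_comp_assoc, ← Functor.map_comp_assoc]
  congr 2

/-- In a pushout square the comparison is invertible. -/
theorem isIso_bcMap [i₁ : Algebra P A] [i₂ : Algebra P D] [i₃ : Algebra A C] [i₄ : Algebra D C]
    [Algebra P C] [IsScalarTower P A C] [IsScalarTower P D C] [Algebra.IsPushout P D A C]
    (e₁ : algebraMap P A = φ) (e₂ : algebraMap P D = ρ) (e₃ : algebraMap A C = α)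
    (e₄ : algebraMap D C = φ') (M : ModuleCat.{u} A) : IsIso (bcMap h M) := by
  obtain rfl : i₁ = φ.toAlgebra := Algebra.algebra_ext _ _ fun r => RingHom.congr_fun e₁ r
  obtain rfl : i₂ = ρ.toAlgebra := Algebra.algebra_ext _ _ fun r => RingHom.congr_fun e₂ r
  obtain rfl : i₃ = α.toAlgebra := Algebra.algebra_ext _ _ fun r => RingHom.congr_fun e₃ r
  obtain rfl : i₄ = φ'.toAlgebra := Algebra.algebra_ext _ _ fun r => RingHom.congr_fun e₄ r
  letI := φ.toAlgebra
  letI := ρ.toAlgebra
  letI := α.toAlgebra
  letI := φ'.toAlgebra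
  letI : Module P M := Module.compHom M φ
  haveI : IsScalarTower P A M := IsScalarTower.of_algebraMap_smul fun _ _ => rfl
  let e := (Algebra.IsPushout.cancelBaseChange P D A C M).symm
  have he : ∀ z : D ⊗[P] M, (bcMap h M).hom z = e z := by
    intro z
    induction z using TensorProduct.induction_on with
    | zero => exact (map_zero _).trans (map_zero _).symm
    | add x y hx hy => exact (map_add _ _ _).trans ((congrArg₂ _ hx hy).trans (map_add _ _ _).symm)
    | tmul s m =>
      refine Eq.trans ?_ (Algebra.IsPushout.cancelBaseChange_symm_tmul P D A C M s m).symm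
      change φ' s • ((1 : C) ⊗ₜ[A] m) = φ' s ⊗ₜ[A] m
      rw [TensorProduct.smul_tmul', smul_eq_mul, mul_one]
  rw [ConcreteCategory.isIso_iff_bijective]
  exact (funext he : ((bcMap h M).hom : D ⊗[P] M → C ⊗[A] M) = ⇑e) ▸ e.bijective

/-- The comparison as a natural isomorphism. -/
noncomputable def bcIso (hiso : ∀ M, IsIso (bcMap h M)) :
    ModuleCat.restrictScalars φ ⋙ ModuleCat.extendScalars.{u, u, u} ρ ≅
      ModuleCat.extendScalars.{u, u, u} α ⋙ ModuleCat.restrictScalars φ' :=
  NatIso.ofComponents (fun M => haveI := hiso M; asIso (bcMap h M)) fun f => bcMap_natural h f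

variable (hiso : ∀ M : ModuleCat.{u} A, IsIso (bcMap h M))

/-- The comparison of complexes in the derived category. -/
noncomputable def bcIsoD (K : DRing.Cx A) :
    DRing.toD ((extC' ρ).obj
      (((ModuleCat.restrictScalars φ).mapHomologicalComplex (ComplexShape.up ℤ)).obj K)) ≅
      (DRing.restrictD φ').obj (DRing.toD ((extC' α).obj K)) :=
  let e : (extC' ρ).obj (((ModuleCat.restrictScalars φ).mapHomologicalComplex (ComplexShape.up ℤ)).obj K) ≅
      ((ModuleCat.restrictScalars φ').mapHomologicalComplex (ComplexShape.up ℤ)).obj ((extC' α).obj K) :=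
    HomologicalComplex.Hom.isoOfComponents (fun i => (bcIso h hiso).app (K.X i))
      (fun i j _ => ((bcIso h hiso).hom.naturality (K.d i j)).symm)
  DerivedCategory.Q.mapIso e ≪≫
    ((ModuleCat.restrictScalars φ').mapDerivedCategoryFactors.app _).symm

include hiso in
/-- Flat base change of a relatively pseudo-coherent complex. -/
theorem pc_bc (hρ : ρ.Flat) {m : ℤ} {K : DRing.Cx A}
    (hK : DRing.IsPseudoCoherent P m ((DRing.restrictD φ).obj (DRing.toD K))) :
    DRing.IsPseudoCoherent D m ((DRing.restrictD φ').obj (DRing.toD ((extC' α).obj K))) := by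
  haveI := ModuleCat.preservesFiniteLimits_extendScalars_of_flat hρ
  haveI : PreservesFiniteColimits (ModuleCat.extendScalars.{u, u, u} ρ) := by
    haveI : (ModuleCat.extendScalars.{u, u, u} ρ).IsLeftAdjoint :=
      (ModuleCat.extendRestrictScalarsAdj ρ).isLeftAdjoint
    infer_instance
  refine DRingPC.of_iso ?_ (DRingRestrict.pc_map _ (DRingRestrict.finFree_extendScalars ρ) hK)
  exact ((ModuleCat.extendScalars.{u, u, u} ρ).mapDerivedCategory).mapIso
      ((ModuleCat.restrictScalars φ).mapDerivedCategoryFactors.app K) ≪≫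
    (ModuleCat.extendScalars.{u, u, u} ρ).mapDerivedCategoryFactors.app _ ≪≫ bcIsoD h hiso K

include hiso in
/-- Descent along a faithfully flat base change. -/
theorem pc_bc_descent (hρ : ρ.FaithfullyFlat) {m : ℤ} {K : DRing.Cx A}
    (hK : DRing.IsPseudoCoherent D m ((DRing.restrictD φ').obj (DRing.toD ((extC' α).obj K)))) :
    DRing.IsPseudoCoherent P m ((DRing.restrictD φ).obj (DRing.toD K)) := by
  have h0 := DRingPC.of_iso (bcIsoD h hiso K).symm hK
  letI : Algebra P D := ρ.toAlgebra
  haveI : Module.FaithfullyFlat P D := hρ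
  exact DRingPC.of_iso ((ModuleCat.restrictScalars φ).mapDerivedCategoryFactors.app K).symm
    (DRingPCDescent.pc_descent (R := P) (R' := D) _ m h0)

end Square

section Ext

variable {P' A' B : Type u} [CommRing P'] [CommRing A'] [CommRing B] (θ : P' →+* A') (β : A' →+* B)

/-- Restricting a base change is tensoring. -/
noncomputable def extTensIso (K : DRing.Cx A') :
    (DRing.restrictD (β.comp θ)).obj (DRing.toD ((extC' β).obj K)) ≅
      (tensRes θ K).obj ((ModuleCat.restrictScalars β).obj (ModuleCat.of B B)) :=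
  (DRingRelPC.restrictDCompIso θ β).app _ ≪≫ (DRing.restrictD θ).mapIso
    ((ModuleCat.restrictScalars β).mapDerivedCategoryFactors.app _ ≪≫
      DerivedCategory.Q.mapIso
        (HomologicalComplex.Hom.isoOfComponents (fun i => (DRingTorLocal.extResIso β).symm.app (K.X i))
          (fun i j _ => ((DRingTorLocal.extResIso β).inv.naturality (K.d i j)).symm)))

/-- Base change along a pseudo-coherent ring map preserves relative pseudo-coherence. -/
theorem pc_ext {K : DRing.Cx A'} {b : ℤ} (hb : ∀ i : ℤ, b < i → IsZero (K.X i))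
    (hf : ∀ i, Module.Flat A' (K.X i)) {m : ℤ}
    (hK : DRing.IsPseudoCoherent P' m ((DRing.restrictD θ).obj (DRing.toD K)))
    (hβ : DRingRelPC.PCHom β) :
    DRing.IsPseudoCoherent P' m ((DRing.restrictD (β.comp θ)).obj (DRing.toD ((extC' β).obj K))) :=
  DRingPC.of_iso (extTensIso θ β K).symm (pc_tensRes hb hf hK _ hβ)

/-- Descent along an algebra with a retraction. -/
theorem pc_ext_descent {K : DRing.Cx A'} {m : ℤ}
    (r : (ModuleCat.restrictScalars β).obj (ModuleCat.of B B) ⟶ ModuleCat.of A' A')
    (s : ModuleCat.of A' A' ⟶ (ModuleCat.restrictScalars β).obj (ModuleCat.of B B)) (hsr : s ≫ r = 𝟙 _)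
    (hK : DRing.IsPseudoCoherent P' m ((DRing.restrictD (β.comp θ)).obj (DRing.toD ((extC' β).obj K)))) :
    DRing.IsPseudoCoherent P' m ((DRing.restrictD θ).obj (DRing.toD K)) := by
  let N := (ModuleCat.restrictScalars β).obj (ModuleCat.of B B)
  let S : ShortComplex (ModuleCat.{u} A') := ShortComplex.mk (kernel.ι r) r (kernel.condition r)
  let sp : S.Splitting := ShortComplex.Splitting.ofExactOfSection S
    (ShortComplex.exact_of_f_is_kernel S (kernelIsKernel r)) s hsr inferInstance
  haveI := preservesBinaryBiproducts_of_preservesBiproducts (tensRes θ K)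
  let e : N ≅ kernel r ⊞ ModuleCat.of A' A' := sp.isoBinaryBiproduct
  have h := DRingPC.of_iso ((tensRes θ K).mapIso e ≪≫ (tensRes θ K).mapBiprod _ _)
    (DRingPC.of_iso (extTensIso θ β K) hK)
  exact DRingPC.of_iso (tensResUnit θ K) (DRingPC.summand h).2

end Ext

end Groth.Agent.RelPC13
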