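import Groth.Agent.RelPC13.SegExact
import Groth.Agent.RelPC13.AmpSquare
import Groth.Agent.KFlatLib.Perfect.Basic

/-!
# Tor amplitude over a local ring from the closed fibre, for pseudo-coherent complexes over a
localised polynomial ring
-/

set_option linter.style.haveILetI false
set_option backward.isDefEq.respectTransparency false
set_option backward.isDefEq.respectTransparency.types false

universe u

open CategoryTheory CategoryTheory.Limits TensorProduct MvPolynomial IsLocalRing
open Groth.Agent.H9Misc Groth.Agent.KFlatLib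

attribute [local instance] HasDerivedCategory.standard

namespace Groth.Agent.RelPC13.Seg

variable {A : Type u} [CommRing A] [IsLocalRing A] {σ : Type} [Finite σ]
  (Q : Ideal (MvPolynomial σ A)) [Q.IsPrime] (hQ : Q.comap C = maximalIdeal A)
  {S : Type u} [CommRing S] [Algebra (MvPolynomial σ A) S] [Algebra A S]
  [IsScalarTower A (MvPolynomial σ A) S] [IsLocalization.AtPrime S Q]

omit [IsLocalRing A] in
theorem Tm_smul (N : Type u) [AddCommGroup N] [Module A N] {a b : ℕ} (r : S)
    (D : Matrix (Fin b) (Fin a) S) (z : (Fin a → S) ⊗[A] N) :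
    Tm A N (r • D) z = r • Tm A N D z := by
  induction z using TensorProduct.induction_on with
  | zero => simp
  | tmul v n => rw [Tm_tmul, Tm_tmul, Matrix.smul_mulVec, TensorProduct.smul_tmul']
  | add x y hx hy => simp [hx, hy]

include hQ in
/-- Universal exactness from exactness modulo the maximal ideal, for matrices over `S`. -/
theorem exact_Tm_of_fibre {n n' n'' : ℕ} (D' : Matrix (Fin n) (Fin n') S)
    (D : Matrix (Fin n'') (Fin n) S) (hDD : D * D' = 0)
    (h : ∀ v : Fin n → S, (∀ i, D.mulVec v i ∈ (maximalIdeal A).map (algebraMap A S)) →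
      ∃ u : Fin n' → S, ∀ i, v i - D'.mulVec u i ∈ (maximalIdeal A).map (algebraMap A S))
    (N : Type u) [AddCommGroup N] [Module A N] :
    Function.Exact (Tm A N D') (Tm A N D) := by
  classical
  let P := MvPolynomial σ A
  let ρ := algebraMap P S
  let W := Q.primeCompl
  obtain ⟨c, hc⟩ := IsLocalization.exist_integer_multiples_of_finite W
    (fun p : Fin n'' × Fin n => D p.1 p.2)
  obtain ⟨c', hc'⟩ := IsLocalization.exist_integer_multiples_of_finite W
    (fun p : Fin n × Fin n' => D' p.1 p.2)
  choose e he using hc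
  choose e' he' using hc'
  let E₀ : Matrix (Fin n'') (Fin n) P := fun i j => e (i, j)
  let E₀' : Matrix (Fin n) (Fin n') P := fun i j => e' (i, j)
  have hE₀ : E₀.map ρ = ρ (c : P) • D := Matrix.ext fun i j => by
    rw [Matrix.map_apply, Matrix.smul_apply, algebraMap_smul]
    exact he (i, j)
  have hE₀' : E₀'.map ρ = ρ (c' : P) • D' := Matrix.ext fun i j => by
    rw [Matrix.map_apply, Matrix.smul_apply, algebraMap_smul]
    exact he' (i, j)
  have h0 : (E₀ * E₀').map ρ = 0 := by
    rw [Matrix.map_mul, hE₀, hE₀', Matrix.smul_mul, Matrix.mul_smul, hDD, smul_zero, smul_zero]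
  choose s hs using fun p : Fin n'' × Fin n' => IsLocalization.exists_of_eq (M := W) (S := S)
    ((congrFun (congrFun h0 p.1) p.2).trans (map_zero ρ).symm)
  let s₀ := ∏ p, s p
  let E : Matrix (Fin n'') (Fin n) P := (s₀ : P) • E₀
  have hEE : E * E₀' = 0 := by
    rw [Matrix.smul_mul]
    refine Matrix.ext fun i j => ?_
    obtain ⟨d, hd⟩ := Finset.dvd_prod_of_mem s (Finset.mem_univ (i, j))
    rw [Matrix.smul_apply, Matrix.zero_apply, smul_eq_mul, show s₀ = s (i, j) * d from hd,
      Submonoid.coe_mul, mul_comm (s (i, j) : P), mul_assoc]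
    have := hs (i, j)
    rw [mul_zero] at this
    rw [this, mul_zero]
  have hE : E.map ρ = (ρ (s₀ : P) * ρ (c : P)) • D := by
    rw [mul_smul, ← hE₀]
    exact Matrix.ext fun i j => map_mul ρ _ _
  have hu : IsUnit (ρ (s₀ : P) * ρ (c : P)) :=
    (IsLocalization.map_units S s₀).mul (IsLocalization.map_units S c)
  have hu' : IsUnit (ρ (c' : P)) := IsLocalization.map_units S c'
  have hmap : (maximalIdeal A).map (algebraMap A S) = ((maximalIdeal A).map C).map ρ := by
    rw [Ideal.map_map, IsScalarTower.algebraMap_eq A P S]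
    rfl
  have hF : FibreExact Q E₀' E := fun v hv => by
    obtain ⟨u, hu₁⟩ := h (ρ ∘ v) fun i => by
      obtain ⟨r, hr⟩ := hu
      have hi : (E.map ρ).mulVec (ρ ∘ v) i ∈ (maximalIdeal A).map (algebraMap A S) := by
        rw [← RingHom.map_mulVec, hmap]
        exact Ideal.mem_map_of_mem ρ (hv i)
      rw [hE, Matrix.smul_mulVec, Pi.smul_apply, smul_eq_mul, ← hr] at hi
      exact (Ideal.unit_mul_mem_iff_mem _ r.isUnit).1 hi
    obtain ⟨b, hb⟩ := IsLocalization.exist_integer_multiples_of_finite W
      (fun l => (↑hu'.unit⁻¹ : S) * u l)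
    choose w hw using hb
    have hmem : ∀ i, ρ ((b : P) * v i - E₀'.mulVec w i) ∈ ((maximalIdeal A).map C).map ρ :=
      fun i => by
        have hw' : ρ ∘ w = (ρ (b : P) * (↑hu'.unit⁻¹ : S)) • u := funext fun l => by
          rw [Pi.smul_apply, smul_eq_mul, mul_assoc]
          exact (hw l).trans (algebraMap_smul S (b : P) _).symm
        rw [← hmap, map_sub, map_mul, RingHom.map_mulVec, hE₀', hw', Matrix.smul_mulVec,
          Matrix.mulVec_smul, smul_smul, Pi.smul_apply, smul_eq_mul,
          show ρ (c' : P) * (ρ (b : P) * (↑hu'.unit⁻¹ : S)) = ρ (b : P) by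
            rw [mul_left_comm, IsUnit.mul_val_inv, mul_one], ← mul_sub]
        exact Ideal.mul_mem_left _ _ (hu₁ i)
    choose t ht htm using fun i =>
      (IsLocalization.algebraMap_mem_map_algebraMap_iff W S _ _).1 (hmem i)
    refine ⟨(∏ i, t i) * (b : P), ?_, (∏ i, t i) • w, fun i => ?_⟩
    · exact mul_mem (prod_mem fun i _ => ht i : ∏ i, t i ∈ W) b.2
    · obtain ⟨d, hd⟩ := Finset.dvd_prod_of_mem t (Finset.mem_univ i)
      rw [Matrix.mulVec_smul, Pi.smul_apply, smul_eq_mul, mul_assoc, ← mul_sub, hd,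
        mul_comm (t i) d, mul_assoc]
      exact Ideal.mul_mem_left _ _ (htm i)
  have hex := exact_Tm_of_fibreExact Q hQ (S := S) E₀' E hEE hF N
  rw [hE₀', hE] at hex
  intro z
  constructor
  · intro hz
    obtain ⟨w, hw⟩ := (hex z).1 (by rw [Tm_smul, hz, smul_zero])
    refine ⟨ρ (c' : P) • w, ?_⟩
    rw [← hw, Tm_smul, LinearMap.map_smul]
  · rintro ⟨w, rfl⟩
    have := (hex (Tm A N (ρ (c' : P) • D') w)).2 ⟨w, rfl⟩
    rw [Tm_smul, Tm_smul, LinearMap.map_smul, smul_smul] at this
    exact (hu.mul hu').smul_eq_zero.1 this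

variable {G' G G'' : Type u} [AddCommGroup G'] [Module S G'] [AddCommGroup G] [Module S G]
  [AddCommGroup G''] [Module S G''] [Module A G'] [IsScalarTower A S G'] [Module A G]
  [IsScalarTower A S G] [Module A G''] [IsScalarTower A S G'']
  [Module.Finite S G'] [Module.Free S G'] [Module.Finite S G] [Module.Free S G]
  [Module.Finite S G''] [Module.Free S G'']

include hQ in
/-- Universal exactness from exactness modulo the maximal ideal, for finite free modules. -/
theorem exact_rTensor_of_fibre_loc (d' : G' →ₗ[S] G) (d : G →ₗ[S] G'') (hdd : d ∘ₗ d' = 0)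
    (h : ∀ v, d v ∈ (maximalIdeal A).map (algebraMap A S) • (⊤ : Submodule S G'') →
      v ∈ LinearMap.range d' ⊔ (maximalIdeal A).map (algebraMap A S) • (⊤ : Submodule S G))
    (N : Type u) [AddCommGroup N] [Module A N] :
    Function.Exact ((d'.restrictScalars A).rTensor N) ((d.restrictScalars A).rTensor N) := by
  classical
  haveI : IsLocalRing S := IsLocalization.AtPrime.isLocalRing S Q
  let I := (maximalIdeal A).map (algebraMap A S)
  let β' := Module.finBasis S G'
  let β := Module.finBasis S G
  let β'' := Module.finBasis S G''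
  have hcoord : ∀ {k : ℕ} {X : Type u} [AddCommGroup X] [Module S X]
      (γ : Module.Basis (Fin k) S X) (x : X),
      x ∈ I • (⊤ : Submodule S X) ↔ ∀ i, γ.equivFun x i ∈ I := fun {k X} _ _ γ x => by
    constructor
    · intro hx i
      refine Submodule.smul_induction_on (p := fun w => γ.equivFun w i ∈ I) hx
        (fun r hr w _ => ?_) fun a b ha hb => ?_
      · rw [map_smul]
        exact Ideal.mul_mem_right _ _ hr
      · rw [map_add]
        exact add_mem ha hb
    · intro hx
      rw [← γ.sum_equivFun x]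
      exact Submodule.sum_mem _ fun i _ => Submodule.smul_mem_smul (hx i) Submodule.mem_top
  let D' := LinearMap.toMatrix β' β d'
  let D := LinearMap.toMatrix β β'' d
  have hD' : ∀ x, β.equivFun (d' x) = D'.mulVec (β'.equivFun x) := fun x =>
    (LinearMap.toMatrix_mulVec_repr β' β d' x).symm
  have hD : ∀ x, β''.equivFun (d x) = D.mulVec (β.equivFun x) := fun x =>
    (LinearMap.toMatrix_mulVec_repr β β'' d x).symm
  have hex := exact_Tm_of_fibre Q hQ D' D
    (by rw [← LinearMap.toMatrix_comp, hdd, map_zero])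
    (fun v hv => by
      obtain ⟨x, rfl⟩ := β.equivFun.surjective v
      obtain ⟨_, ⟨u, rfl⟩, w, hw, huw⟩ :=
        Submodule.mem_sup.1 (h x ((hcoord β'' _).2 fun i => by rw [hD]; exact hv i))
      refine ⟨β'.equivFun u, fun i => ?_⟩
      rw [← hD', ← Pi.sub_apply, ← map_sub, show x - d' u = w by rw [← huw, add_sub_cancel_left]]
      exact (hcoord β w).1 hw i) N
  rw [exact_Tm_iff] at hex
  refine (Function.Exact.iff_of_ladder_linearEquiv (e₁ := (β'.equivFun.restrictScalars A).rTensor N)
    (e₂ := (β.equivFun.restrictScalars A).rTensor N)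
    (e₃ := (β''.equivFun.restrictScalars A).rTensor N) ?_ ?_).1 hex
  · refine TensorProduct.ext' fun x m => ?_
    show (D'.mulVec (β'.equivFun x)) ⊗ₜ[A] m = (β.equivFun (d' x)) ⊗ₜ[A] m
    rw [hD']
  · refine TensorProduct.ext' fun x m => ?_
    show (D.mulVec (β.equivFun x)) ⊗ₜ[A] m = (β''.equivFun (d x)) ⊗ₜ[A] m
    rw [hD]

omit G' G G''

/-- `x ⊗ 1 = 0` in `X ⊗ A/m` exactly on `m X`. -/
theorem tmul_mk_one_eq_zero_iff {X : Type u} [AddCommGroup X] [Module A X] (x : X) :
    x ⊗ₜ[A] (Ideal.Quotient.mk (maximalIdeal A) 1) = 0 ↔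
      x ∈ maximalIdeal A • (⊤ : Submodule A X) := by
  rw [← (TensorProduct.tensorQuotEquivQuotSMul X (maximalIdeal A)).map_eq_zero_iff,
    TensorProduct.tensorQuotEquivQuotSMul_tmul_mk, one_smul, Submodule.Quotient.mk_eq_zero]

include hQ in
/-- Tor amplitude from the closed fibre. -/
theorem amp_of_fibre_pc {P : DRing.Cx S}
    (hflat : ∀ i, Module.Flat A (((DRing.restrictCx (algebraMap A S)).obj P).X i))
    (c : ℤ) (hc : ∀ i, c < i → IsZero (P.X i))
    (hpc : ∀ n : ℤ, ∃ (G : DRing.Cx S) (γ : G ⟶ P), DRing.TermwiseFiniteFree G ∧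
      (∃ c' : ℤ, ∀ i, c' < i → IsZero (G.X i)) ∧ IsPcMap n (DerivedCategory.Q.map γ))
    {a b : ℤ} (h : ∀ i : ℤ, (i < a ∨ b < i) →
      ((DRingLTensor.tensC (ModuleCat.of A (A ⧸ maximalIdeal A))).obj
        ((DRing.restrictCx (algebraMap A S)).obj P)).ExactAt i) :
    DRing.HasTorAmplitudeIn A a b (DRing.toD ((DRing.restrictCx (algebraMap A S)).obj P)) := by
  let φ := algebraMap A S
  let R := (ModuleCat.restrictScalars φ).mapHomologicalComplex (ComplexShape.up ℤ)
  haveI : Module.Flat A S :=
    haveI : Module.Flat (MvPolynomial σ A) S := IsLocalization.flat S Q.primeCompl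
    Module.Flat.trans A (MvPolynomial σ A) S
  have hKF : DRingLTensor.IsKF (R.obj P) :=
    DRingTor.isKF_of_flat hflat fun i hi => (ModuleCat.restrictScalars φ).map_isZero (hc i hi)
  refine DRingTor.hasTorAmplitudeIn_of_van hKF (fun M i hi => ?_) (Iso.refl _)
  obtain ⟨G, γ, hG, ⟨c', hc'⟩, hγ⟩ := hpc (i - 1)
  have hGflat : ∀ j, Module.Flat A ((R.obj G).X j) := fun j => by
    letI : Module A (G.X j) := Module.compHom _ φ
    haveI : IsScalarTower A S (G.X j) := .of_compHom ..
    haveI := (hG j).2
    exact Module.Flat.trans A S (G.X j)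
  have hKG : DRingLTensor.IsKF (R.obj G) :=
    DRingTor.isKF_of_flat hGflat fun j hj => (ModuleCat.restrictScalars φ).map_isZero (hc' j hj)
  let Cn := CochainComplex.mappingCone (R.map γ)
  have hCn : ∀ j, i - 1 - 1 < j → IsZero (Cn.homology j) := fun j hj =>
    (((ModuleCat.restrictScalars φ).map_isZero
        ((isPcMap_iff_cone (i - 1) γ).1 hγ j (by omega))).of_iso
      (((CochainComplex.mappingCone γ).sc j).mapHomologyIso (ModuleCat.restrictScalars φ))).of_iso
      ((HomologicalComplex.homologyFunctor _ _ j).mapIso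
        (CochainComplex.mappingCone.mapHomologicalComplexIso γ (ModuleCat.restrictScalars φ))).symm
  have hKC : DRingLTensor.IsKF Cn :=
    KFlatLib.kFlat_cone (T := MonoidalCategory.curriedTensor (ModuleCat.{u} A)) (R.map γ) hKG hKF
  have hiso : ∀ M' : ModuleCat.{u} A, ((DRingLTensor.tensC M').obj (R.obj G)).ExactAt i ↔
      ((DRingLTensor.tensC M').obj (R.obj P)).ExactAt i := fun M' => by
    have hz : ∀ j, i - 1 ≤ j → IsZero ((CochainComplex.mappingCone
        ((DRingLTensor.tensC M').map (R.map γ))).homology j) := fun j hj =>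
      (DRingRightExact.isZero_homology_tensC M' hKC (i - 1 - 1) hCn j (by omega)).of_iso
        ((HomologicalComplex.homologyFunctor _ _ j).mapIso
          (CochainComplex.mappingCone.mapHomologicalComplexIso (R.map γ)
            (MonoidalCategory.tensorRight M'))).symm
    have hp := (isPcMap_iff_cone (i - 1) ((DRingLTensor.tensC M').map (R.map γ))).2 hz
    haveI := hp.1 i (by omega)
    let e := ((DerivedCategory.homologyFunctorFactors _ i).app _).symm ≪≫
      asIso ((DerivedCategory.homologyFunctor _ i).map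
        (DerivedCategory.Q.map ((DRingLTensor.tensC M').map (R.map γ)))) ≪≫
      (DerivedCategory.homologyFunctorFactors _ i).app _
    rw [HomologicalComplex.exactAt_iff_isZero_homology,
      HomologicalComplex.exactAt_iff_isZero_homology]
    exact ⟨fun h => h.of_iso e.symm, fun h => h.of_iso e⟩
  refine (hiso M).1 ?_
  rw [HomologicalComplex.exactAt_iff' _ (i - 1) i (i + 1) (by simp) (by simp),
    ShortComplex.ShortExact.moduleCat_exact_iff_function_exact]
  have hk := (hiso _).2 (h i hi)
  rw [HomologicalComplex.exactAt_iff' _ (i - 1) i (i + 1) (by simp) (by simp),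
    ShortComplex.ShortExact.moduleCat_exact_iff_function_exact] at hk
  letI : ∀ j, Module A (G.X j) := fun j => Module.compHom _ φ
  haveI : ∀ j, IsScalarTower A S (G.X j) := fun j => .of_compHom ..
  haveI := fun j => (hG j).1
  haveI := fun j => (hG j).2
  refine exact_rTensor_of_fibre_loc Q hQ (G.d (i - 1) i).hom (G.d i (i + 1)).hom
    (by rw [← ModuleCat.hom_comp, G.d_comp_d, ModuleCat.hom_zero]) (fun v hv => ?_) M
  let one : A ⧸ maximalIdeal A := Ideal.Quotient.mk _ 1
  have hmem : ∀ {j : ℤ} {w : G.X j},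
      w ∈ (maximalIdeal A).map (algebraMap A S) • (⊤ : Submodule S (G.X j)) ↔
        w ∈ maximalIdeal A • (⊤ : Submodule A (G.X j)) := fun {j w} => by
    constructor
    · intro hw
      obtain ⟨z, rfl⟩ := exists_mult_eq (maximalIdeal A) hw
      clear hw
      induction z using TensorProduct.induction_on with
      | zero => simp
      | tmul c x =>
        rw [mult_tmul]
        exact Submodule.smul_mem_smul c.2 Submodule.mem_top
      | add a b ha hb =>
        rw [map_add]
        exact add_mem ha hb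
    · intro hw
      refine Submodule.smul_induction_on hw (fun c hc x _ => ?_) fun a b ha hb => add_mem ha hb
      rw [← algebraMap_smul S c x]
      exact Submodule.smul_mem_smul (Ideal.mem_map_of_mem _ hc) Submodule.mem_top
  have hdv : ((G.d i (i + 1)).hom.restrictScalars A).rTensor (A ⧸ maximalIdeal A) (v ⊗ₜ[A] one) = 0 :=
    (tmul_mk_one_eq_zero_iff _).2 (hmem.1 hv)
  obtain ⟨z, hz⟩ := (hk (v ⊗ₜ[A] one)).1 hdv
  obtain ⟨u, rfl⟩ : ∃ u : G.X (i - 1), u ⊗ₜ[A] one = z := by
    clear hz
    induction z using TensorProduct.induction_on with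
    | zero => exact ⟨0, TensorProduct.zero_tmul _ _⟩
    | tmul x q =>
      obtain ⟨r, rfl⟩ := Ideal.Quotient.mk_surjective q
      refine ⟨r • x, ?_⟩
      rw [TensorProduct.smul_tmul, Algebra.smul_def]
      congr 1
      exact (mul_one _).trans rfl
    | add a b ha hb =>
      obtain ⟨ua, hua⟩ := ha
      obtain ⟨ub, hub⟩ := hb
      exact ⟨ua + ub, by rw [TensorProduct.add_tmul, hua, hub]⟩
  refine Submodule.mem_sup.2 ⟨(G.d (i - 1) i).hom u, ⟨u, rfl⟩, v - (G.d (i - 1) i).hom u,
    hmem.2 ((tmul_mk_one_eq_zero_iff _).1 ?_), add_sub_cancel _ _⟩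
  rw [TensorProduct.sub_tmul, sub_eq_zero]
  exact hz.symm

end Groth.Agent.RelPC13.Seg
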