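import Mathlib

/-!
# Matrices over polynomial rings and changes of coefficients
-/

set_option linter.style.haveILetI false

universe u

open TensorProduct

namespace Groth.Agent.RelPC13.Seg

section Tm

variable (A : Type u) [CommRing A] {R : Type u} [CommRing R] [Algebra A R]
  (N : Type u) [AddCommGroup N] [Module A N] {a b c : ℕ}

/-- A matrix acting on `R^a ⊗ N`. -/
noncomputable def Tm (E : Matrix (Fin b) (Fin a) R) :
    (Fin a → R) ⊗[A] N →ₗ[R] (Fin b → R) ⊗[A] N :=
  AlgebraTensorModule.rTensor A N E.mulVecLin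

@[simp]
theorem Tm_tmul (E : Matrix (Fin b) (Fin a) R) (v : Fin a → R) (n : N) :
    Tm A N E (v ⊗ₜ n) = (E.mulVec v) ⊗ₜ n := rfl

theorem Tm_mul (E : Matrix (Fin c) (Fin b) R) (E' : Matrix (Fin b) (Fin a) R) (z) :
    Tm A N E (Tm A N E' z) = Tm A N (E * E') z := by
  induction z using TensorProduct.induction_on with
  | zero => simp
  | tmul v n => simp [Matrix.mulVec_mulVec]
  | add x y hx hy => simp [hx, hy]

end Tm

section Psi

variable {L A : Type u} [CommRing L] [CommRing A] [Algebra L A]
  {R R' : Type u} [CommRing R] [CommRing R'] [Algebra L R] [Algebra L R'] [Algebra A R']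
  [IsScalarTower L A R'] (g : R →ₐ[L] R')
  {N : Type u} [AddCommGroup N] [Module A N] [Module L N] [IsScalarTower L A N] {a b : ℕ}

/-- The change of coefficients on `R^a ⊗ N`. -/
noncomputable def psi : (Fin a → R) ⊗[L] N →ₗ[L] (Fin a → R') ⊗[A] N :=
  TensorProduct.lift (LinearMap.mk₂ L (fun v n => (g ∘ v) ⊗ₜ[A] n)
    (fun v v' n => by
      show (g ∘ (v + v')) ⊗ₜ[A] n = (g ∘ v) ⊗ₜ[A] n + (g ∘ v') ⊗ₜ[A] n
      rw [← TensorProduct.add_tmul]
      congr 1
      funext i
      simp)
    (fun r v n => by
      show (g ∘ (r • v)) ⊗ₜ[A] n = r • (g ∘ v) ⊗ₜ[A] n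
      rw [TensorProduct.smul_tmul']
      congr 1
      funext i
      simp)
    (fun v n n' => TensorProduct.tmul_add _ _ _)
    (fun r v n => TensorProduct.tmul_smul r (g ∘ v) n))

@[simp]
theorem psi_tmul (v : Fin a → R) (n : N) : psi g (v ⊗ₜ n) = (g ∘ v) ⊗ₜ[A] n := rfl

theorem psi_smul (r : R) (z : (Fin a → R) ⊗[L] N) :
    psi g (r • z) = g r • (psi g z : (Fin a → R') ⊗[A] N) := by
  induction z using TensorProduct.induction_on with
  | zero => simp
  | tmul v n =>
    rw [TensorProduct.smul_tmul', psi_tmul, psi_tmul, TensorProduct.smul_tmul']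
    congr 1
    funext i
    simp
  | add x y hx hy => simp only [smul_add, map_add, hx, hy]

theorem psi_Tm (E : Matrix (Fin b) (Fin a) R) (z : (Fin a → R) ⊗[L] N) :
    psi g (Tm L N E z) = Tm A N (E.map g) (psi g z : (Fin a → R') ⊗[A] N) := by
  induction z using TensorProduct.induction_on with
  | zero => simp
  | tmul v n =>
    simp only [Tm_tmul, psi_tmul]
    congr 1
    funext i
    exact RingHom.map_mulVec g.toRingHom E v i
  | add x y hx hy => simp only [map_add, hx, hy]

end Psi

section PsiPoly

variable {L A : Type u} [CommRing L] [CommRing A] [Algebra L A] {σ : Type}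
  {N : Type u} [AddCommGroup N] [Module A N] [Module L N] [IsScalarTower L A N] {a : ℕ}

/-- Extending the coefficients of polynomials. -/
noncomputable def polyMap : MvPolynomial σ L →ₐ[L] MvPolynomial σ A :=
  MvPolynomial.mapAlgHom (Algebra.ofId L A)

theorem polyMap_apply (p : MvPolynomial σ L) :
    polyMap (A := A) p = MvPolynomial.map (algebraMap L A) p := rfl

theorem psi_polyMap_injective :
    Function.Injective (psi (A := A) (N := N) (polyMap (L := L) (A := A) (σ := σ)) (a := a)) := by
  classical
  let B₁ := Pi.basis fun _ : Fin a => MvPolynomial.basisMonomials σ L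
  let B := Pi.basis fun _ : Fin a => MvPolynomial.basisMonomials σ A
  let e₁ := TensorProduct.equivFinsuppOfBasisLeft (N := N) B₁
  let e := TensorProduct.equivFinsuppOfBasisLeft (N := N) B
  have key : ∀ z, e (psi (A := A) (polyMap (L := L) (A := A)) z) = e₁ z := fun z => by
    induction z using TensorProduct.induction_on with
    | zero => simp
    | tmul v n =>
      ext i
      rw [psi_tmul, TensorProduct.equivFinsuppOfBasisLeft_apply_tmul_apply,
        TensorProduct.equivFinsuppOfBasisLeft_apply_tmul_apply, Pi.basis_repr, Pi.basis_repr]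
      show MvPolynomial.coeff i.2 (polyMap (A := A) (v i.1)) • n = MvPolynomial.coeff i.2 (v i.1) • n
      rw [polyMap_apply, MvPolynomial.coeff_map, algebraMap_smul]
    | add x y hx hy => simp only [map_add, hx, hy]
  intro x y h
  exact e₁.injective (by rw [← key, ← key, h])

end PsiPoly

section Descend

variable {k₁ k : Type u} [Field k₁] [CommRing k] [Algebra k₁ k] {σ : Type}

open MvPolynomial

/-- A functional applied to every coefficient. -/
noncomputable def mapCoeff (π : k →ₗ[k₁] k₁) : MvPolynomial σ k →+ MvPolynomial σ k₁ :=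
  ((MvPolynomial.basisMonomials σ k₁).repr.symm.toAddMonoidHom).comp
    ((Finsupp.mapRange.addMonoidHom π.toAddMonoidHom).comp
      (MvPolynomial.basisMonomials σ k).repr.toAddMonoidHom)

theorem coeff_mapCoeff (π : k →ₗ[k₁] k₁) (f : MvPolynomial σ k) (m : σ →₀ ℕ) :
    coeff m (mapCoeff π f) = π (coeff m f) := by
  show (MvPolynomial.basisMonomials σ k₁).repr ((MvPolynomial.basisMonomials σ k₁).repr.symm _) m = _
  rw [LinearEquiv.apply_symm_apply]
  rfl

theorem mapCoeff_map_mul (π : k →ₗ[k₁] k₁) (p : MvPolynomial σ k₁) (f : MvPolynomial σ k) :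
    mapCoeff π (map (algebraMap k₁ k) p * f) = p * mapCoeff π f := by
  classical
  ext m
  rw [coeff_mapCoeff, coeff_mul, coeff_mul, map_sum]
  refine Finset.sum_congr rfl fun x _ => ?_
  rw [coeff_map, ← Algebra.smul_def, map_smul, coeff_mapCoeff, smul_eq_mul]

/-- Solvability of linear systems descends along field extensions. -/
theorem mem_map_colon {n n' : ℕ} (E' : Matrix (Fin n) (Fin n') (MvPolynomial σ k₁))
    (v : Fin n → MvPolynomial σ k₁) (s : MvPolynomial σ k) (u : Fin n' → MvPolynomial σ k)
    (h : ∀ i, s * map (algebraMap k₁ k) (v i) = (E'.map (map (algebraMap k₁ k))).mulVec u i)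
    (J : Ideal (MvPolynomial σ k₁))
    (hJ : ∀ a, (∃ u₁, ∀ i, a * v i = E'.mulVec u₁ i) → a ∈ J) :
    s ∈ J.map (map (algebraMap k₁ k)) := by
  classical
  let β := Module.Basis.ofVectorSpace k₁ k
  let T := s.support.biUnion fun m => (β.repr (coeff m s)).support
  have hs : s = ∑ j ∈ T, C (β j) * map (algebraMap k₁ k) (mapCoeff (β.coord j) s) := by
    ext m
    rw [coeff_sum]
    simp only [coeff_C_mul, coeff_map, coeff_mapCoeff, Module.Basis.coord_apply]
    by_cases hm : coeff m s = 0
    · simp [hm]
    · conv_lhs => rw [← β.linearCombination_repr (coeff m s)]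
      rw [Finsupp.linearCombination_apply,
        Finsupp.sum_of_support_subset _ (show (β.repr (coeff m s)).support ⊆ T from
          Finset.subset_biUnion_of_mem (fun m => (β.repr (coeff m s)).support)
            (mem_support_iff.2 hm))
          (fun j a => a • β j) (fun j _ => zero_smul _ _)]
      exact Finset.sum_congr rfl fun j _ => by rw [Algebra.smul_def, mul_comm]
  rw [hs]
  refine Ideal.sum_mem _ fun j _ => Ideal.mul_mem_left _ _ (Ideal.mem_map_of_mem _ (hJ _ ?_))
  refine ⟨fun l => mapCoeff (β.coord j) (u l), fun i => ?_⟩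
  have := congrArg (mapCoeff (β.coord j)) (h i)
  rw [mul_comm s, mapCoeff_map_mul, mul_comm (v i)] at this
  rw [this]
  simp only [Matrix.mulVec, dotProduct, map_sum, Matrix.map_apply, mapCoeff_map_mul]

end Descend

end Groth.Agent.RelPC13.Seg
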