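import Groth.Agent.RelPC13.SegNoeth
import Groth.Agent.RelPC13.SegPoly

/-!
# Universal exactness from the closed fibre at a prime of a polynomial ring

A complex `S^n' → S^n → S^n''` over a localisation `S` of `A[x]` at a prime over the maximal ideal
of the local ring `A` which is exact modulo the maximal ideal of `A` stays exact after tensoring
with every `A`-module.  The proof descends to a Noetherian local ring.
-/

set_option linter.style.haveILetI false

universe u

open TensorProduct MvPolynomial IsLocalRing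

namespace Groth.Agent.RelPC13.Seg

section Loc

variable (A : Type u) [CommRing A] {P S : Type u} [CommRing P] [CommRing S] [Algebra A P]
  [Algebra A S] [Algebra P S] [IsScalarTower A P S] (W : Submonoid P) [IsLocalization W S]
  (N : Type u) [AddCommGroup N] [Module A N] {a b : ℕ}

/-- `P^a → S^a`. -/
noncomputable abbrev piMap (P S : Type u) [CommRing P] [CommRing S] [Algebra P S] (a : ℕ) :
    (Fin a → P) →ₗ[P] (Fin a → S) :=
  (Algebra.linearMap P S).compLeft (Fin a)

include W in
theorem isLocalizedModule_piMap (a : ℕ) : IsLocalizedModule W (piMap P S a) where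
  map_units s := by
    rw [Module.End.isUnit_iff]
    have hu : IsUnit (algebraMap P S (s : P)) := IsLocalization.map_units S s
    have heq : ∀ v : Fin a → S,
        algebraMap P (Module.End P (Fin a → S)) (s : P) v = algebraMap P S (s : P) • v := fun v => by
      rw [Module.algebraMap_end_apply, algebraMap_smul]
    refine ⟨fun v w h => ?_, fun v => ⟨(↑hu.unit⁻¹ : S) • v, ?_⟩⟩
    · rw [heq, heq] at h
      exact hu.smul_left_cancel.1 h
    · rw [heq, smul_smul, IsUnit.mul_val_inv, one_smul]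
  surj v := by
    obtain ⟨c, hc⟩ := IsLocalization.exist_integer_multiples_of_finite W v
    choose w hw using hc
    exact ⟨⟨w, c⟩, funext fun i => (hw i).symm⟩
  exists_of_eq {v w} h := by
    choose c hc using fun i => IsLocalization.exists_of_eq (M := W) (congrFun h i)
    refine ⟨∏ i, c i, funext fun i => ?_⟩
    show ((∏ i, c i : W) : P) * v i = ((∏ i, c i : W) : P) * w i
    obtain ⟨d, hd⟩ := Finset.dvd_prod_of_mem c (Finset.mem_univ i)
    rw [hd, Submonoid.coe_mul, mul_comm (c i : P), mul_assoc, mul_assoc, hc i]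

theorem psi_eq_rTensor (z : (Fin a → P) ⊗[A] N) :
    psi (A := A) (IsScalarTower.toAlgHom A P S) z =
      AlgebraTensorModule.rTensor A N (piMap P S a) z := by
  induction z using TensorProduct.induction_on with
  | zero => simp
  | tmul v n => rfl
  | add x y hx hy => simp only [map_add, hx, hy]

include W in
theorem exists_clear (z : (Fin a → S) ⊗[A] N) :
    ∃ t ∈ W, ∃ x : (Fin a → P) ⊗[A] N,
      algebraMap P S t • z = psi (A := A) (IsScalarTower.toAlgHom A P S) x := by
  haveI := isLocalizedModule_piMap (S := S) W a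
  obtain ⟨⟨x, t⟩, h⟩ :=
    IsLocalizedModule.surj W (AlgebraTensorModule.rTensor A N (piMap P S a)) z
  refine ⟨t, t.2, x, ?_⟩
  rw [psi_eq_rTensor, algebraMap_smul]
  exact h

include W in
theorem exists_smul_eq_zero (x : (Fin a → P) ⊗[A] N)
    (h : psi (A := A) (IsScalarTower.toAlgHom A P S) x = (0 : (Fin a → S) ⊗[A] N)) :
    ∃ t ∈ W, t • x = 0 := by
  haveI := isLocalizedModule_piMap (S := S) W a
  rw [psi_eq_rTensor] at h
  obtain ⟨t, ht⟩ := IsLocalizedModule.exists_of_eq (S := W)
    (f := AlgebraTensorModule.rTensor A N (piMap P S a)) (h.trans (map_zero _).symm)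
  exact ⟨t, t.2, by rw [smul_zero] at ht; exact ht⟩

end Loc

theorem exact_Tm_iff {A S : Type u} [CommRing A] [CommRing S] [Algebra A S]
    (N : Type u) [AddCommGroup N] [Module A N] {a b c : ℕ} (D' : Matrix (Fin b) (Fin a) S)
    (D : Matrix (Fin c) (Fin b) S) :
    Function.Exact (Tm A N D') (Tm A N D) ↔
      Function.Exact ((D'.mulVecLin.restrictScalars A).rTensor N)
        ((D.mulVecLin.restrictScalars A).rTensor N) :=
  Iff.rfl

variable {A : Type u} [CommRing A] [IsLocalRing A] {σ : Type} [Finite σ]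
  (Q : Ideal (MvPolynomial σ A)) [Q.IsPrime] (hQ : Q.comap C = maximalIdeal A)
  {n n' n'' : ℕ}

/-- The hypothesis: exactness modulo the maximal ideal at `Q`, for matrices over the polynomial
ring. -/
def FibreExact (E' : Matrix (Fin n) (Fin n') (MvPolynomial σ A))
    (E : Matrix (Fin n'') (Fin n) (MvPolynomial σ A)) : Prop :=
  ∀ v : Fin n → MvPolynomial σ A, (∀ i, E.mulVec v i ∈ (maximalIdeal A).map C) →
    ∃ s ∉ Q, ∃ u : Fin n' → MvPolynomial σ A,
      ∀ i, s * v i - E'.mulVec u i ∈ (maximalIdeal A).map C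

omit [Finite σ] [Q.IsPrime] in
include hQ in
theorem map_maximalIdeal_le : (maximalIdeal A).map C ≤ Q :=
  Ideal.map_le_iff_le_comap.2 hQ.ge

omit [Finite σ] [Q.IsPrime] in
include hQ in
/-- Descent of the hypothesis along a local map. -/
theorem fibreExact_descend {L : Type u} [CommRing L] [IsLocalRing L] [Algebra L A]
    [IsLocalHom (algebraMap L A)] (E₁' : Matrix (Fin n) (Fin n') (MvPolynomial σ L))
    (E₁ : Matrix (Fin n'') (Fin n) (MvPolynomial σ L))
    (h : FibreExact Q (E₁'.map (MvPolynomial.map (algebraMap L A)))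
      (E₁.map (MvPolynomial.map (algebraMap L A)))) :
    FibreExact (Q.comap (MvPolynomial.map (algebraMap L A))) E₁' E₁ := by
  classical
  intro v hv
  let g := MvPolynomial.map (σ := σ) (algebraMap L A)
  let r₁ := MvPolynomial.map (σ := σ) (residue L)
  let r := MvPolynomial.map (σ := σ) (residue A)
  have hloc : ∀ f, f ∈ (maximalIdeal L).map C → g f ∈ (maximalIdeal A).map C := fun f hf => by
    rw [mem_map_C_iff] at hf ⊢
    intro m
    rw [coeff_map]
    exact mem_nonunits_iff.2 fun hu => hf m (isUnit_of_map_unit (algebraMap L A) _ hu)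
  obtain ⟨s, hs, u, hu⟩ := h (g ∘ v) fun i => by
    rw [← RingHom.map_mulVec]
    exact hloc _ (hv i)
  by_contra hcon
  push Not at hcon
  -- all solvable multipliers lie in `Q₁`
  let J₁ : Ideal (MvPolynomial σ L) :=
    { carrier := {a | ∃ u₁ : Fin n' → MvPolynomial σ L,
        ∀ i, a * v i - E₁'.mulVec u₁ i ∈ (maximalIdeal L).map C}
      zero_mem' := ⟨0, fun i => by simp [Matrix.mulVec_zero]⟩
      add_mem' := by
        rintro a b ⟨u₁, h₁⟩ ⟨u₂, h₂⟩
        refine ⟨u₁ + u₂, fun i => ?_⟩
        have := add_mem (h₁ i) (h₂ i)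
        rw [Matrix.mulVec_add, Pi.add_apply, add_mul]
        convert this using 1
        ring
      smul_mem' := by
        rintro c a ⟨u₁, h₁⟩
        refine ⟨c • u₁, fun i => ?_⟩
        have := Ideal.mul_mem_left _ c (h₁ i)
        rw [Matrix.mulVec_smul, Pi.smul_apply, smul_eq_mul, smul_eq_mul]
        convert this using 1
        ring }
  have hJ₁ : J₁ ≤ Q.comap g := fun a ⟨u₁, h₁⟩ => by
    by_contra ha
    obtain ⟨i, hi⟩ := hcon a ha u₁
    exact hi (h₁ i)
  have hkill : ∀ {R : Type u} [CommRing R] [IsLocalRing R] (f : MvPolynomial σ R),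
      MvPolynomial.map (residue R) f = 0 ↔ f ∈ (maximalIdeal R).map C := fun {R} _ _ f => by
    rw [mem_map_C_iff, MvPolynomial.ext_iff]
    refine forall_congr' fun m => ?_
    rw [coeff_map, coeff_zero, residue_eq_zero_iff]
  have hsq : ∀ f, MvPolynomial.map (algebraMap (ResidueField L) (ResidueField A)) (r₁ f) =
      r (g f) := fun f => by
    rw [MvPolynomial.map_map, MvPolynomial.map_map]
    rfl
  have hmem : r s ∈ (J₁.map r₁).map
      (MvPolynomial.map (algebraMap (ResidueField L) (ResidueField A))) := by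
    refine mem_map_colon (E₁'.map r₁) (r₁ ∘ v) (r s) (r ∘ u) (fun i => ?_) _ fun a ⟨u₁, hu₁⟩ => ?_
    · have := (hkill _).2 (hu i)
      rw [map_sub, map_mul, sub_eq_zero, RingHom.map_mulVec] at this
      rw [Function.comp_apply, hsq]
      refine this.trans (congrArg (fun M => Matrix.mulVec M (r ∘ u) i) ?_)
      exact Matrix.ext fun k l => (hsq _).symm
    · obtain ⟨a, rfl⟩ := MvPolynomial.map_surjective _ residue_surjective a
      choose u₂ hu₂ using fun l => MvPolynomial.map_surjective (σ := σ) _ residue_surjective (u₁ l)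
      refine Ideal.mem_map_of_mem r₁ (⟨u₂, fun i => (hkill _).1 ?_⟩ : a ∈ J₁)
      rw [map_sub, map_mul, sub_eq_zero, RingHom.map_mulVec]
      refine (hu₁ i).trans ?_
      congr 1
      congr 1
      exact funext fun l => (hu₂ l).symm
  rw [Ideal.map_map, show (MvPolynomial.map (algebraMap (ResidueField L) (ResidueField A))).comp r₁ =
    r.comp g from RingHom.ext hsq, ← Ideal.map_map] at hmem
  have hmem' : r s ∈ Q.map r := Ideal.map_mono (Ideal.map_le_iff_le_comap.2 hJ₁) hmem
  obtain ⟨q, hq, hqs⟩ := (Ideal.mem_map_iff_of_surjective r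
    (MvPolynomial.map_surjective _ residue_surjective)).1 hmem'
  have : s - q ∈ Q := map_maximalIdeal_le Q hQ ((hkill _).1 (by rw [map_sub, hqs, sub_self]))
  exact hs (by simpa using add_mem this hq)

/-- The Noetherian case. -/
theorem exists_smul_mem_range_noeth {L : Type u} [CommRing L] [IsLocalRing L] [IsNoetherianRing L]
    (Q₁ : Ideal (MvPolynomial σ L)) [Q₁.IsPrime] (hQ₁ : Q₁.comap C = maximalIdeal L)
    (E₁' : Matrix (Fin n) (Fin n') (MvPolynomial σ L))
    (E₁ : Matrix (Fin n'') (Fin n) (MvPolynomial σ L)) (hEE : E₁ * E₁' = 0)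
    (h : FibreExact Q₁ E₁' E₁) (N : Type u) [AddCommGroup N] [Module L N]
    (y : (Fin n → MvPolynomial σ L) ⊗[L] N) (hy : Tm L N E₁ y = 0) :
    ∃ t ∉ Q₁, t • y ∈ LinearMap.range (Tm L N E₁') := by
  classical
  let S₁ := Localization.AtPrime Q₁
  let ρ := algebraMap (MvPolynomial σ L) S₁
  haveI : IsLocalHom (algebraMap L S₁) := ⟨fun c hc => by
    by_contra hnu
    have hcQ : (C c : MvPolynomial σ L) ∈ Q₁ := by
      rw [← Ideal.mem_comap, hQ₁]
      exact hnu
    rw [IsScalarTower.algebraMap_apply L (MvPolynomial σ L) S₁,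
      IsLocalization.AtPrime.isUnit_to_map_iff S₁ Q₁] at hc
    exact hc hcQ⟩
  haveI : Module.Flat L S₁ :=
    haveI : Module.Flat (MvPolynomial σ L) S₁ := IsLocalization.flat S₁ Q₁.primeCompl
    Module.Flat.trans L (MvPolynomial σ L) S₁
  haveI : Module.Flat L (Fin n'' → S₁) := Module.Flat.trans L S₁ _
  let D := E₁.map ρ
  let D' := E₁'.map ρ
  have hm : (maximalIdeal L).map (algebraMap L S₁) = ((maximalIdeal L).map C).map ρ := by
    rw [Ideal.map_map]
    rfl
  have hpi : ∀ {k : ℕ} (v : Fin k → S₁),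
      v ∈ (maximalIdeal L).map (algebraMap L S₁) • (⊤ : Submodule S₁ (Fin k → S₁)) ↔
        ∀ i, v i ∈ (maximalIdeal L).map (algebraMap L S₁) := fun {k} v => by
    constructor
    · intro hv i
      refine Submodule.smul_induction_on
        (p := fun w : Fin k → S₁ => w i ∈ (maximalIdeal L).map (algebraMap L S₁)) hv (fun r hr w _ => ?_)
        fun a b ha hb => add_mem ha hb
      exact Ideal.mul_mem_right _ _ hr
    · intro hv
      rw [pi_eq_sum_univ v]
      exact Submodule.sum_mem _ fun i _ => Submodule.smul_mem_smul (hv i) Submodule.mem_top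
  have hex := exact_rTensor_of_fibre (L := L) D'.mulVecLin D.mulVecLin
    (fun u => by
      show D.mulVec (D'.mulVec u) = 0
      rw [Matrix.mulVec_mulVec, ← Matrix.map_mul, hEE, Matrix.map_zero _ (map_zero _),
        Matrix.zero_mulVec])
    (fun v hv => by
      rw [hpi] at hv
      obtain ⟨c, hc⟩ := IsLocalization.exist_integer_multiples_of_finite Q₁.primeCompl v
      choose w hw using hc
      have hw' : ρ ∘ w = ρ (c : MvPolynomial σ L) • v := funext fun i => by
        rw [Pi.smul_apply, algebraMap_smul]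
        exact hw i
      have hEw : ∀ i, ∃ t ∉ Q₁, t * E₁.mulVec w i ∈ (maximalIdeal L).map C := fun i => by
        refine (IsLocalization.algebraMap_mem_map_algebraMap_iff Q₁.primeCompl S₁ _ _).1 ?_
        rw [← hm, RingHom.map_mulVec, hw', Matrix.mulVec_smul]
        exact Ideal.mul_mem_left _ _ (hv i)
      choose t ht htm using hEw
      have hT : ∏ i, t i ∉ Q₁ := fun hT => by
        obtain ⟨i, -, hi⟩ := (Ideal.IsPrime.prod_mem_iff).1 hT
        exact ht i hi
      obtain ⟨s, hs, u, hu⟩ := h ((∏ i, t i) • w) fun i => by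
        rw [Matrix.mulVec_smul, Pi.smul_apply, smul_eq_mul]
        obtain ⟨d, hd⟩ := Finset.dvd_prod_of_mem t (Finset.mem_univ i)
        rw [hd, mul_comm (t i), mul_assoc]
        exact Ideal.mul_mem_left _ _ (htm i)
      have hunit : IsUnit (ρ (s * (∏ i, t i) * c)) :=
        IsLocalization.map_units S₁ (⟨s * (∏ i, t i) * c,
          mul_mem (mul_mem (show s ∈ Q₁.primeCompl from hs) (show _ ∈ Q₁.primeCompl from hT)) c.2⟩ :
            Q₁.primeCompl)
      obtain ⟨e, he⟩ := hunit
      have hmain : ρ (s * (∏ i, t i) * c) • v - D'.mulVec (ρ ∘ u) ∈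
          (maximalIdeal L).map (algebraMap L S₁) • (⊤ : Submodule S₁ (Fin n → S₁)) := by
        rw [hpi]
        intro i
        rw [Pi.sub_apply, Pi.smul_apply, smul_eq_mul, ← RingHom.map_mulVec, map_mul ρ _ (c : MvPolynomial σ L),
          mul_assoc, show ρ (c : MvPolynomial σ L) * v i = ρ (w i) from
            (congrFun hw' i).symm, ← map_mul, ← map_sub, hm]
        have := Ideal.mem_map_of_mem ρ (hu i)
        rw [Pi.smul_apply, smul_eq_mul, ← mul_assoc] at this
        exact this
      refine Submodule.mem_sup.2 ⟨D'.mulVec ((↑e⁻¹ : S₁) • (ρ ∘ u)), ⟨_, rfl⟩, _,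
        Submodule.smul_mem _ (↑e⁻¹ : S₁) hmain, ?_⟩
      rw [Matrix.mulVec_smul, ← he, smul_sub, smul_smul, Units.inv_mul, one_smul,
        add_sub_cancel])
    N
  rw [← exact_Tm_iff] at hex
  let Φ := fun k => psi (A := L) (a := k) (N := N) (IsScalarTower.toAlgHom L (MvPolynomial σ L) S₁)
  obtain ⟨w, hw⟩ := (hex (Φ n y)).1 (by
    show Tm L N (E₁.map ρ) (Φ n y) = 0
    exact (psi_Tm (A := L) (IsScalarTower.toAlgHom L (MvPolynomial σ L) S₁) E₁ y).symm.trans
      ((congrArg _ hy).trans (map_zero _)))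
  obtain ⟨t₁, ht₁, w₀, hw₀⟩ := exists_clear L Q₁.primeCompl N w
  obtain ⟨t₂, ht₂, h₂⟩ := exists_smul_eq_zero L Q₁.primeCompl (S := S₁) N
    (t₁ • y - Tm L N E₁' w₀) (by
      rw [map_sub, psi_smul, psi_Tm, ← hw₀, LinearMap.map_smul]
      show ρ t₁ • Φ n y - ρ t₁ • Tm L N D' w = 0
      rw [hw, sub_self])
  refine ⟨t₂ * t₁, (mul_mem ht₂ ht₁ : t₂ * t₁ ∈ Q₁.primeCompl), t₂ • w₀, ?_⟩
  rw [smul_sub, sub_eq_zero] at h₂
  rw [map_smul, ← h₂, mul_smul]

include hQ in
/-- Universal exactness from exactness modulo the maximal ideal. -/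
theorem exact_Tm_of_fibreExact {S : Type u} [CommRing S] [Algebra (MvPolynomial σ A) S]
    [Algebra A S] [IsScalarTower A (MvPolynomial σ A) S] [IsLocalization.AtPrime S Q]
    (E' : Matrix (Fin n) (Fin n') (MvPolynomial σ A))
    (E : Matrix (Fin n'') (Fin n) (MvPolynomial σ A)) (hEE : E * E' = 0) (h : FibreExact Q E' E)
    (N : Type u) [AddCommGroup N] [Module A N] :
    Function.Exact (Tm A N (E'.map (algebraMap (MvPolynomial σ A) S)))
      (Tm A N (E.map (algebraMap (MvPolynomial σ A) S))) := by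
  classical
  let ρ := IsScalarTower.toAlgHom A (MvPolynomial σ A) S
  intro z
  constructor
  swap
  · rintro ⟨w, rfl⟩
    rw [Tm_mul, ← Matrix.map_mul, hEE, Matrix.map_zero _ (map_zero _)]
    induction w using TensorProduct.induction_on with
    | zero => simp
    | tmul v m => simp [Matrix.zero_mulVec]
    | add a b ha hb => rw [map_add, ha, hb, add_zero]
  intro hz
  obtain ⟨t, ht, x, hx⟩ := exists_clear A Q.primeCompl N z
  obtain ⟨t₂, ht₂, hEx⟩ := exists_smul_eq_zero A Q.primeCompl (S := S) N (Tm A N E x) (by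
    refine (psi_Tm (A := A) ρ E x).trans ?_
    refine (congrArg (Tm A N (E.map ρ)) hx.symm).trans ?_
    exact (LinearMap.map_smul _ _ _).trans ((congrArg _ hz).trans (smul_zero _)))
  obtain ⟨V, hV⟩ := TensorProduct.exists_finset (t₂ • x)
  -- the Noetherian stage
  let T : Finset A := (Finset.univ.biUnion fun i => Finset.univ.biUnion fun j => (E i j).coeffs) ∪
    (Finset.univ.biUnion fun i => Finset.univ.biUnion fun j => (E' i j).coeffs) ∪
    (V.biUnion fun p => Finset.univ.biUnion fun j => (p.1 j).coeffs)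
  let A₁ := Algebra.adjoin ℤ (T : Set A)
  haveI : IsNoetherianRing A₁ := by
    haveI : Algebra.FiniteType ℤ A₁ :=
      (Subalgebra.fg_iff_finiteType A₁).1 (Subalgebra.fg_adjoin_finset T)
    exact Algebra.FiniteType.isNoetherianRing ℤ A₁
  let j : A₁ →+* A := A₁.val.toRingHom
  let q₁ : Ideal A₁ := (maximalIdeal A).comap j
  haveI : q₁.IsPrime := Ideal.IsPrime.comap j
  let L := Localization.AtPrime q₁
  let ι : L →+* A := IsLocalization.lift (M := q₁.primeCompl) (g := j) fun y =>
    notMem_maximalIdeal.1 y.2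
  have hι : ι.comp (algebraMap A₁ L) = j := IsLocalization.lift_comp _
  letI : Algebra L A := ι.toAlgebra
  haveI : IsLocalHom (algebraMap L A) := ⟨fun a ha => by
    obtain ⟨⟨r, y⟩, hry⟩ := IsLocalization.surj q₁.primeCompl a
    have h1 : IsUnit (j r) := by
      have : ι a * j y = j r := by
        rw [← hι, RingHom.comp_apply, RingHom.comp_apply, ← map_mul, hry]
      rw [← this]
      exact ha.mul (notMem_maximalIdeal.1 y.2)
    refine isUnit_of_mul_isUnit_left (y := algebraMap A₁ L y) ?_
    rw [hry]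
    exact IsLocalization.map_units L (⟨r, fun hr => hr h1⟩ : q₁.primeCompl)⟩
  letI : Module L N := Module.compHom N ι
  haveI : IsScalarTower L A N := .of_compHom ..
  have hlift : ∀ p : MvPolynomial σ A, (∀ c ∈ p.coeffs, c ∈ A₁) →
      ∃ p₀ : MvPolynomial σ A₁, MvPolynomial.map j p₀ = p := fun p hp =>
    mem_range_map_iff_coeffs_subset.2 fun c hc => ⟨⟨c, hp c hc⟩, rfl⟩
  have hT : ∀ c ∈ T, c ∈ A₁ := fun c hc => Algebra.subset_adjoin hc
  choose E₀ hE₀ using fun i k => hlift (E i k) fun c hc => hT c (by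
    simp only [T, Finset.mem_union, Finset.mem_biUnion, Finset.mem_univ, true_and]
    exact Or.inl (Or.inl ⟨i, k, hc⟩))
  choose E₀' hE₀' using fun i k => hlift (E' i k) fun c hc => hT c (by
    simp only [T, Finset.mem_union, Finset.mem_biUnion, Finset.mem_univ, true_and]
    exact Or.inl (Or.inr ⟨i, k, hc⟩))
  choose v₀ hv₀ using fun (p : V) k => hlift (p.1.1 k) fun c hc => hT c (by
    simp only [T, Finset.mem_union, Finset.mem_biUnion, Finset.mem_univ, true_and]
    exact Or.inr ⟨p.1, p.2, k, hc⟩)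
  have hEE₀ : Matrix.of E₀ * Matrix.of E₀' = 0 :=
    Matrix.map_injective (MvPolynomial.map_injective j Subtype.val_injective) (by
      show (Matrix.of E₀ * Matrix.of E₀').map (MvPolynomial.map j) =
        (0 : Matrix (Fin n'') (Fin n') (MvPolynomial σ A₁)).map (MvPolynomial.map j)
      rw [Matrix.map_mul, Matrix.map_zero _ (map_zero _),
        show (Matrix.of E₀).map (MvPolynomial.map j) = E from Matrix.ext hE₀,
        show (Matrix.of E₀').map (MvPolynomial.map j) = E' from Matrix.ext hE₀', hEE])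
  let l := MvPolynomial.map (σ := σ) (algebraMap A₁ L)
  let g := polyMap (L := L) (A := A) (σ := σ)
  let E₁ := (Matrix.of E₀).map l
  let E₁' := (Matrix.of E₀').map l
  have hg : ∀ p, g (l p) = MvPolynomial.map j p := fun p => by
    rw [polyMap_apply, MvPolynomial.map_map]
    exact congrArg (fun f => MvPolynomial.map f p) hι
  have hgE : E₁.map g = E := Matrix.ext fun i k => (hg _).trans (hE₀ i k)
  have hgE' : E₁'.map g = E' := Matrix.ext fun i k => (hg _).trans (hE₀' i k)
  let y : (Fin n → MvPolynomial σ L) ⊗[L] N := ∑ p : V, (l ∘ v₀ p) ⊗ₜ p.1.2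
  have hy : psi (A := A) g y = t₂ • x := by
    rw [hV, map_sum, ← Finset.sum_coe_sort V (fun p => p.1 ⊗ₜ[A] p.2)]
    refine Finset.sum_congr rfl fun p _ => ?_
    rw [psi_tmul]
    exact congrArg (fun v => v ⊗ₜ[A] p.1.2) (funext fun k => (hg _).trans (hv₀ p k))
  let Q₁ := Q.comap g.toRingHom
  haveI : Q₁.IsPrime := Ideal.IsPrime.comap _
  have hQ₁ : Q₁.comap C = maximalIdeal L := by
    rw [Ideal.comap_comap]
    refine Eq.trans (congrArg (Q.comap ·) (RingHom.ext fun c => ?_ :
      g.toRingHom.comp C = C.comp (algebraMap L A))) ?_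
    · exact MvPolynomial.map_C _ c
    · rw [← Ideal.comap_comap, hQ]
      exact le_antisymm (fun a ha hu => ha (hu.map (algebraMap L A)))
        fun a ha => mem_nonunits_iff.2 fun hu => ha (isUnit_of_map_unit (algebraMap L A) a hu)
  have hfib : FibreExact Q₁ E₁' E₁ := by
    refine fibreExact_descend Q hQ E₁' E₁ ?_
    rwa [show E₁'.map (MvPolynomial.map (algebraMap L A)) = E' from hgE',
      show E₁.map (MvPolynomial.map (algebraMap L A)) = E from hgE]
  obtain ⟨t₃, ht₃, w₀, hw₀⟩ := exists_smul_mem_range_noeth Q₁ hQ₁ E₁' E₁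
    (by rw [← Matrix.map_mul, hEE₀, Matrix.map_zero _ (map_zero _)]) hfib N y
    (psi_polyMap_injective (A := A) (by
      rw [map_zero, psi_Tm, hy, hgE, LinearMap.map_smul, hEx]))
  -- back to `S`
  have hfin : ρ (g t₃ * t₂ * t) • z =
      Tm A N (E'.map ρ) (psi (A := A) ρ (psi (A := A) g w₀)) := by
    rw [← psi_Tm (A := A) ρ, ← hgE',
      show Tm A N (E₁'.map g) (psi (A := A) g w₀) = psi (A := A) g (Tm L N E₁' w₀) from
        (psi_Tm (A := A) g E₁' w₀).symm, hw₀, psi_smul, hy, smul_smul, psi_smul,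
      map_mul ρ _ t, mul_smul]
    exact congrArg (ρ (g t₃ * t₂) • ·) hx
  have hunit : IsUnit (ρ (g t₃ * t₂ * t)) :=
    IsLocalization.map_units S (⟨g t₃ * t₂ * t,
      mul_mem (mul_mem (show g t₃ ∈ Q.primeCompl from ht₃) ht₂) ht⟩ : Q.primeCompl)
  obtain ⟨e, he⟩ := hunit
  refine ⟨(↑e⁻¹ : S) • psi (A := A) ρ (psi (A := A) g w₀), ?_⟩
  rw [LinearMap.map_smul]
  show (↑e⁻¹ : S) • Tm A N (E'.map ρ) _ = z
  rw [← hfin, ← he, smul_smul, Units.inv_mul, one_smul]

end Groth.Agent.RelPC13.Seg
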