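import Groth.Agent.LocalCrit.Flatness
import Mathlib.RingTheory.Flat.Equalizer
import Mathlib.RingTheory.Nakayama

/-!
# Universal exactness from the closed fibre, Noetherian case

For a local homomorphism of Noetherian local rings `L → S` and a complex `F' → F → F''` of finite
`S`-modules with `F''` flat over `L`: exactness modulo the maximal ideal of `L` implies exactness
after tensoring with every `L`-module, and flatness of the cokernel.
-/

set_option linter.style.haveILetI false

universe u

open TensorProduct

namespace Groth.Agent.RelPC13.Seg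

variable {L S : Type u} [CommRing L] [CommRing S] [Algebra L S] (I : Ideal L)

/-- The multiplication map `I ⊗ X → X`. -/
noncomputable def mult (X : Type u) [AddCommGroup X] [Module L X] : I ⊗[L] X →ₗ[L] X :=
  (TensorProduct.lid L X).toLinearMap ∘ₗ I.subtype.rTensor X

@[simp]
theorem mult_tmul (X : Type u) [AddCommGroup X] [Module L X] (c : I) (x : X) :
    mult I X (c ⊗ₜ x) = (c : L) • x := by
  simp [mult]

theorem mult_lTensor {X Y : Type u} [AddCommGroup X] [Module L X] [AddCommGroup Y] [Module L Y]
    (f : X →ₗ[L] Y) (z : I ⊗[L] X) : mult I Y (f.lTensor I z) = f (mult I X z) := by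
  induction z using TensorProduct.induction_on with
  | zero => simp
  | tmul c x => simp
  | add a b ha hb => simp [ha, hb]

theorem mult_injective (X : Type u) [AddCommGroup X] [Module L X] [Module.Flat L X] :
    Function.Injective (mult I X) :=
  (TensorProduct.lid L X).injective.comp
    (Module.Flat.rTensor_preserves_injective_linearMap _ Subtype.val_injective)

theorem mult_mem {X : Type u} [AddCommGroup X] [Module L X] [Module S X] [IsScalarTower L S X]
    (z : I ⊗[L] X) : mult I X z ∈ I.map (algebraMap L S) • (⊤ : Submodule S X) := by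
  induction z using TensorProduct.induction_on with
  | zero => simp
  | tmul c x =>
    rw [mult_tmul, ← algebraMap_smul S (c : L) x]
    exact Submodule.smul_mem_smul (Ideal.mem_map_of_mem _ c.2) Submodule.mem_top
  | add a b ha hb =>
    rw [map_add]
    exact add_mem ha hb

theorem exists_mult_eq {X : Type u} [AddCommGroup X] [Module L X] [Module S X] [IsScalarTower L S X]
    {w : X} (hw : w ∈ I.map (algebraMap L S) • (⊤ : Submodule S X)) :
    ∃ z, mult I X z = w := by
  suffices H : w ∈ (LinearMap.range (mult I X)).toAddSubgroup from H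
  refine Submodule.smul_induction_on (p := fun w => w ∈ (LinearMap.range (mult I X)).toAddSubgroup) hw
    (fun r hr x _ => ?_) fun a b ha hb => add_mem ha hb
  revert x
  refine Submodule.span_induction
    (p := fun r _ => ∀ x ∈ (⊤ : Submodule S X), r • x ∈ (LinearMap.range (mult I X)).toAddSubgroup)
    ?_ ?_ ?_ ?_ hr
  · rintro _ ⟨c, hc, rfl⟩ x -
    exact ⟨(⟨c, hc⟩ : I) ⊗ₜ x, by rw [mult_tmul, algebraMap_smul]⟩
  · intro x _
    rw [zero_smul]
    exact zero_mem _
  · intro r s _ _ hr hs x hx
    rw [add_smul]
    exact add_mem (hr x hx) (hs x hx)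
  · intro b r _ hr x _
    rw [smul_eq_mul, mul_comm, mul_smul]
    exact hr (b • x) Submodule.mem_top

variable [IsLocalRing L] [IsNoetherianRing L] [IsLocalRing S] [IsNoetherianRing S]
  [IsLocalHom (algebraMap L S)]
  {F' F F'' : Type u} [AddCommGroup F'] [Module S F'] [AddCommGroup F] [Module S F]
  [AddCommGroup F''] [Module S F''] [Module L F'] [IsScalarTower L S F'] [Module L F]
  [IsScalarTower L S F] [Module L F''] [IsScalarTower L S F'']
  [Module.Finite S F] [Module.Finite S F''] [Module.Flat L F'']
  (d' : F' →ₗ[S] F) (d : F →ₗ[S] F'')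

open IsLocalRing in
/-- Universal exactness from exactness modulo the maximal ideal. -/
theorem exact_rTensor_of_fibre (hdd : ∀ u, d (d' u) = 0)
    (h : ∀ v, d v ∈ (maximalIdeal L).map (algebraMap L S) • (⊤ : Submodule S F'') →
      v ∈ LinearMap.range d' ⊔ (maximalIdeal L).map (algebraMap L S) • (⊤ : Submodule S F))
    (N : Type u) [AddCommGroup N] [Module L N] :
    Function.Exact ((d'.restrictScalars L).rTensor N) ((d.restrictScalars L).rTensor N) := by
  let m := maximalIdeal L
  let M := F'' ⧸ LinearMap.range d
  let π : F'' →ₗ[L] M := (LinearMap.range d).mkQ.restrictScalars L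
  let dL := d.restrictScalars L
  have hm : m.map (algebraMap L S) ≤ Ideal.jacobson ⊥ := by
    rw [jacobson_eq_maximalIdeal ⊥ bot_ne_top]
    exact Ideal.map_le_iff_le_comap.2 fun a ha hu => ha (isUnit_of_map_unit (algebraMap L S) a hu)
  have hμF'' := mult_injective m F''
  -- the cokernel is flat
  have h1 : Function.Injective (m.subtype.rTensor M) := by
    rw [injective_iff_map_eq_zero]
    intro z hz
    obtain ⟨x, rfl⟩ := LinearMap.lTensor_surjective (↥m)
      (show Function.Surjective π from (LinearMap.range d).mkQ_surjective) z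
    have hx : π (mult m F'' x) = 0 := by
      rw [← mult_lTensor]
      show (TensorProduct.lid L M) (m.subtype.rTensor M _) = 0
      rw [hz, map_zero]
    obtain ⟨v, hv⟩ := (Submodule.Quotient.mk_eq_zero (LinearMap.range d)).1 hx
    obtain ⟨_, ⟨u, rfl⟩, w, hw, huw⟩ :=
      Submodule.mem_sup.1 (h v (by rw [hv]; exact mult_mem m x))
    obtain ⟨y, hy⟩ := exists_mult_eq m hw
    have hxy : x = dL.lTensor (↥m) y := hμF'' (by
      rw [mult_lTensor, hy, ← hv, ← huw]
      show d (d' u + w) = d w
      rw [map_add, hdd, zero_add])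
    rw [hxy, ← LinearMap.comp_apply, ← LinearMap.lTensor_comp]
    have h0 : π ∘ₗ dL = 0 := LinearMap.ext fun a =>
      (Submodule.Quotient.mk_eq_zero _).2 (LinearMap.mem_range_self d a)
    rw [h0, LinearMap.lTensor_zero, LinearMap.zero_apply]
  haveI : Module.Flat L M := LocalCrit.flat_of_le_jacobson (B := S) m hm h1
    (LocalCrit.keepsInjective_of_isMaximal m M)
  let ι : ↥(LinearMap.range dL) →ₗ[L] F'' := (LinearMap.range dL).subtype
  have hex : Function.Exact ι π := fun a => by
    constructor
    · intro ha
      obtain ⟨b, hb⟩ := (Submodule.Quotient.mk_eq_zero (LinearMap.range d)).1 ha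
      exact ⟨⟨a, b, hb⟩, rfl⟩
    · rintro ⟨⟨a, b, hb⟩, rfl⟩
      exact (Submodule.Quotient.mk_eq_zero _).2 ⟨b, hb⟩
  have hι : ∀ (P : Type u) [AddCommGroup P] [Module L P], Function.Injective (ι.lTensor P) :=
    fun P _ _ => LinearMap.lTensor_injective_of_exact_of_flat π (LinearMap.range d).mkQ_surjective
      ι Subtype.val_injective hex P
  let dB := dL.rangeRestrict
  let κ : ↥(LinearMap.ker d) →ₗ[L] F := (LinearMap.ker d).subtype.restrictScalars L
  have hexK : Function.Exact κ dB := fun a => by
    constructor
    · intro ha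
      exact ⟨⟨a, congrArg Subtype.val ha⟩, rfl⟩
    · rintro ⟨⟨a, ha⟩, rfl⟩
      exact Subtype.ext ha
  -- exactness
  have hker : LinearMap.ker d ≤ LinearMap.range d' := by
    haveI : IsNoetherian S F := isNoetherian_of_isNoetherianRing_of_finite S F
    refine Submodule.le_of_le_smul_of_le_jacobson_bot (IsNoetherian.noetherian _) hm ?_
    intro v hv
    obtain ⟨_, ⟨u, rfl⟩, w, hw, huw⟩ := Submodule.mem_sup.1 (h v (by
      rw [LinearMap.mem_ker.1 hv]
      exact Submodule.zero_mem _))
    obtain ⟨y, hy⟩ := exists_mult_eq m hw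
    have hdw : d w = 0 := by
      have := congrArg d huw
      rwa [map_add, hdd, zero_add, LinearMap.mem_ker.1 hv] at this
    have hy0 : dB.lTensor (↥m) y = 0 := hι m (by
      rw [map_zero, ← LinearMap.comp_apply, ← LinearMap.lTensor_comp]
      refine hμF'' ?_
      rw [map_zero, mult_lTensor, hy]
      exact hdw)
    obtain ⟨y', rfl⟩ := (lTensor_exact (↥m) hexK dL.surjective_rangeRestrict y).1 hy0
    refine Submodule.mem_sup.2 ⟨_, ⟨u, rfl⟩, w, ?_, huw⟩
    rw [← hy, mult_lTensor]
    have hmem := mult_mem (S := S) m y'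
    have : κ (mult m _ y') ∈ Submodule.map (LinearMap.ker d).subtype
        (m.map (algebraMap L S) • (⊤ : Submodule S ↥(LinearMap.ker d))) := ⟨_, hmem, rfl⟩
    rwa [Submodule.map_smul'', Submodule.map_top, Submodule.range_subtype] at this
  have hex' : Function.Exact (d'.restrictScalars L) dB := fun a => by
    constructor
    · intro ha
      exact hker (congrArg Subtype.val ha)
    · rintro ⟨b, rfl⟩
      exact Subtype.ext (hdd b)
  have hcomp : (d.restrictScalars L).rTensor N = ι.rTensor N ∘ₗ dB.rTensor N := by
    rw [← LinearMap.rTensor_comp]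
    rfl
  have hinj : Function.Injective (ι.rTensor N) :=
    (LinearMap.lTensor_inj_iff_rTensor_inj N ι).1 (hι N)
  intro a
  rw [hcomp, LinearMap.comp_apply, ← map_zero (ι.rTensor N), hinj.eq_iff]
  exact rTensor_exact N hex' dL.surjective_rangeRestrict a

end Groth.Agent.RelPC13.Seg
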