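import Groth.Agent.H9Misc.DRingRestrict
import Groth.Agent.H9Misc.DRingPCModule
import Groth.Agent.H9Misc.DRingLTensor
import Groth.Agent.H9Misc.DRingRelPC
import Mathlib.Algebra.Homology.DerivedCategory.ShortExact

/-!
# Tensoring a relatively pseudo-coherent complex with a pseudo-coherent module
-/

set_option linter.style.haveILetI false
set_option backward.isDefEq.respectTransparency false
set_option backward.isDefEq.respectTransparency.types false

universe u

open CategoryTheory CategoryTheory.Limits MonoidalCategory
open CategoryTheory.Pretriangulated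

attribute [local instance] HasDerivedCategory.standard

namespace Groth.Agent.RelPC13

open H9Misc H9Misc.DRingLTensor

variable {P' A' : Type u} [CommRing P'] [CommRing A'] (θ : P' →+* A') (K : DRing.Cx A')

/-- `N ↦ res_θ (K ⊗ N)`. -/
noncomputable def tensRes : ModuleCat.{u} A' ⥤ Dual.D P' where
  obj N := (DRing.restrictD θ).obj (DRing.toD ((tensC N).obj K))
  map f := (DRing.restrictD θ).map (DerivedCategory.Q.map ((NatTrans.mapHomologicalComplex
    ((tensoringRight (ModuleCat.{u} A')).map f) (ComplexShape.up ℤ)).app K))
  map_id N := by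
    rw [← (DRing.restrictD θ).map_id]
    congr 1
    rw [← DerivedCategory.Q.map_id]
    congr 1
    ext i : 1
    simp
  map_comp f g := by
    rw [← (DRing.restrictD θ).map_comp, ← DerivedCategory.Q.map_comp]
    congr 2
    ext i : 1
    simp

instance tensRes_additive : (tensRes θ K).Additive where
  map_add {X Y f g} := by
    simp only [tensRes]
    rw [← (DRing.restrictD θ).map_add, ← DerivedCategory.Q.map_add]
    congr 2
    ext i : 1
    simp

/-- `res_θ (K ⊗ A) = res_θ K`. -/
noncomputable def tensResUnit :
    (tensRes θ K).obj (ModuleCat.of A' A') ≅ (DRing.restrictD θ).obj (DRing.toD K) :=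
  (DRing.restrictD θ).mapIso (DerivedCategory.Q.mapIso
    (HomologicalComplex.Hom.isoOfComponents (fun i => ρ_ (K.X i))
      (fun j k _ => (MonoidalCategory.rightUnitor_naturality (K.d j k)).symm)))

variable {θ K} {b : ℤ} (hb : ∀ i : ℤ, b < i → IsZero (K.X i)) (hf : ∀ i, Module.Flat A' (K.X i))

include hb in
lemma pc_tensRes_of_large (N : ModuleCat.{u} A') {m : ℤ} (hm : b < m) :
    DRing.IsPseudoCoherent P' m ((tensRes θ K).obj N) :=
  DRingPC.of_vanish _ fun i hi => DRingRestrict.isZero_H_restrict θ
    ((ShortComplex.isZero_homology_of_isZero_X₂ _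
      ((tensorRight N).map_isZero (hb i (by omega)))).of_iso
        ((DerivedCategory.homologyFunctorFactors (ModuleCat.{u} A') i).app _))

lemma pc_tensRes_free {m : ℤ} (hK : DRing.IsPseudoCoherent P' m ((DRing.restrictD θ).obj (DRing.toD K)))
    (n : ℕ) : DRing.IsPseudoCoherent P' m ((tensRes θ K).obj (ModuleCat.of A' (Fin n → A'))) := by
  induction n with
  | zero =>
    refine DRingPC.of_vanish _ fun i _ => Functor.map_isZero _ ((tensRes θ K).map_isZero ?_)
    exact ModuleCat.isZero_of_subsingleton _
  | succ n ih =>
    let X := ModuleCat.of A' A'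
    let Y := ModuleCat.of A' (Fin n → A')
    haveI := preservesBinaryBiproducts_of_preservesBiproducts (tensRes θ K)
    let e : ModuleCat.of A' (Fin (n + 1) → A') ≅ X ⊞ Y :=
      (Fin.consLinearEquiv A' (fun _ : Fin (n + 1) => A')).symm.toModuleIso ≪≫
        (ModuleCat.biprodIsoProd X Y).symm
    refine DRingPC.of_iso ((tensRes θ K).mapIso e ≪≫ (tensRes θ K).mapBiprod X Y).symm ?_
    exact (Groth.Agent.S2067.result _ (binaryBiproductTriangle_distinguished _ _) m).2.1
      (DRingPC.of_iso (tensResUnit θ K).symm hK) ih

include hb hf in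
theorem pc_tensRes {m : ℤ} (hK : DRing.IsPseudoCoherent P' m ((DRing.restrictD θ).obj (DRing.toD K)))
    (N : ModuleCat.{u} A') (hN : DRing.IsPseudoCoherentModule' A' N) :
    DRing.IsPseudoCoherent P' m ((tensRes θ K).obj N) := by
  suffices key : ∀ (k : ℕ) (m : ℤ), b + 1 ≤ m + k →
      DRing.IsPseudoCoherent P' m ((DRing.restrictD θ).obj (DRing.toD K)) →
      ∀ N : ModuleCat.{u} A', DRing.IsPseudoCoherentModule' A' N →
      DRing.IsPseudoCoherent P' m ((tensRes θ K).obj N) from
    key (b + 1 - m).toNat m (by omega) hK N hN
  intro k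
  induction k with
  | zero => exact fun m hm _ N _ => pc_tensRes_of_large hb N (by omega)
  | succ k ih =>
    intro m hm hK N hN
    haveI : Module.Finite A' N := DRingPC.finite_of_pc ((DRingPC.pc'_iff _).1 hN 0)
    obtain ⟨n, π, hπ⟩ := Module.Finite.exists_fin' A' N
    let S : ShortComplex (ModuleCat.{u} A') := ShortComplex.mk (ModuleCat.ofHom (LinearMap.ker π).subtype)
      (ModuleCat.ofHom π) (by ext x; exact x.2)
    have hS : S.ShortExact :=
      { exact := (ShortComplex.moduleCat_exact_iff S).2 fun x hx => ⟨⟨x, hx⟩, rfl⟩
        mono_f := (ModuleCat.mono_iff_injective _).2 Subtype.val_injective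
        epi_g := (ModuleCat.epi_iff_surjective _).2 hπ }
    have hker : DRing.IsPseudoCoherentModule' A' (LinearMap.ker π) := by
      refine (DRingPC.pc'_iff _).2 fun i => ?_
      have h := (Groth.Agent.S2067.result hS.singleTriangle hS.singleTriangle_distinguished (i - 1)).2.2
        (Triage.NoethPC.pc_of_free (A := A') (Fin n → A') _) ((DRingPC.pc'_iff _).1 hN (i - 1))
      rw [sub_add_cancel] at h
      exact h
    let T : ShortComplex (CochainComplex (ModuleCat.{u} A') ℤ) :=
      ShortComplex.mk
        ((NatTrans.mapHomologicalComplex ((tensoringRight (ModuleCat.{u} A')).map S.f)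
          (ComplexShape.up ℤ)).app K)
        ((NatTrans.mapHomologicalComplex ((tensoringRight (ModuleCat.{u} A')).map S.g)
          (ComplexShape.up ℤ)).app K) (by
            ext i : 1
            simp only [HomologicalComplex.comp_f, NatTrans.mapHomologicalComplex_app_f,
              HomologicalComplex.zero_f]
            exact ((MonoidalCategory.whiskerLeft_comp _ _ _).symm.trans
              (congrArg (K.X i ◁ ·) S.zero)).trans MonoidalPreadditive.whiskerLeft_zero)
    have hT : T.ShortExact := HomologicalComplex.shortExact_of_degreewise_shortExact T fun i => by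
      haveI : Module.Flat A' (K.X i) := hf i
      exact (hS.map_of_exact (tensorLeft (K.X i)))
    exact (Groth.Agent.S2067.result _
      ((DRing.restrictD θ).map_distinguished _ (DerivedCategory.triangleOfSES_distinguished hT)) m).1
      (ih (m + 1) (by omega) (DRingPC.mono (by omega) hK) _ hker) (pc_tensRes_free hK n)

end Groth.Agent.RelPC13
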