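import Groth.Prelude.Def_MoreMor
import Groth.Agent.KFlatLib.Perfect.Top
import Groth.Agent.KFlatLib.Perfect.Spread
import Groth.Agent.KFlatLib.Perfect.Amplitude
import Groth.Agent.KFlatLib.Scheme.ExtZero
import Groth.Agent.QCoh.SupportFT
import Groth.Agent.H9Misc.DRingNilp
import Groth.Agent.RelPC13.Single

/-!
# Nilpotent thickenings: stalks, Nakayama, finite type modules
-/

set_option linter.style.haveILetI false
set_option backward.isDefEq.respectTransparency false
set_option backward.isDefEq.respectTransparency.types false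

universe u

open CategoryTheory CategoryTheory.Limits AlgebraicGeometry TopologicalSpace MonoidalCategory
open Groth.Agent.KFlatLib

attribute [local instance] HasDerivedCategory.standard

namespace Groth.Agent.RelPC13

/-- A thickening whose stalk maps have nilpotent kernels. -/
structure Thick {X X' : Scheme.{u}} (i : X ⟶ X') : Prop where
  surj : Function.Surjective i.base
  emb : Topology.IsEmbedding i.base
  stalkSurj : ∀ y, Function.Surjective (i.stalkMap y)
  nil : ∀ y, IsNilpotent (RingHom.ker (i.stalkMap y).hom)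

section Ring

open H9Misc

variable {A B : Type u} [CommRing A] [CommRing B] (φ : A →+* B)

/-- Nakayama along a nilpotent ideal. -/
lemma isZero_of_extendScalars (hφ : Function.Surjective φ) (hnil : IsNilpotent (RingHom.ker φ))
    (M : ModuleCat.{u} A) (h : IsZero ((ModuleCat.extendScalars.{u, u, u} φ).obj M)) : IsZero M := by
  let p : Submodule A M := (RingHom.ker φ) • ⊤
  let Q : ModuleCat.{u} A := ModuleCat.of A (M ⧸ p)
  let π : M ⟶ Q := ModuleCat.ofHom p.mkQ
  haveI : Epi π := (ModuleCat.epi_iff_surjective _).2 p.mkQ_surjective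
  haveI : (ModuleCat.extendScalars.{u, u, u} φ).IsLeftAdjoint :=
    (ModuleCat.extendRestrictScalarsAdj φ).isLeftAdjoint
  haveI : Epi ((ModuleCat.extendScalars.{u, u, u} φ).map π) := inferInstance
  have hQ : IsZero ((ModuleCat.extendScalars.{u, u, u} φ).obj Q) :=
    IsZero.of_epi ((ModuleCat.extendScalars.{u, u, u} φ).map π) h
  haveI := DRingNilp.isIso_unit φ hφ Q fun r hr x => by
    obtain ⟨y, rfl⟩ := p.mkQ_surjective x
    exact (Submodule.Quotient.mk_eq_zero p).2 (Submodule.smul_mem_smul hr Submodule.mem_top)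
  have hQ' : IsZero Q := ((ModuleCat.restrictScalars φ).map_isZero hQ).of_iso
    (asIso ((ModuleCat.extendRestrictScalarsAdj φ).unit.app Q))
  haveI := ModuleCat.subsingleton_of_isZero hQ'
  have htop : (⊤ : Submodule A M) ≤ RingHom.ker φ • ⊤ := fun x _ =>
    (Submodule.Quotient.mk_eq_zero p).1 (Subsingleton.elim (α := M ⧸ p) _ _)
  obtain ⟨n, hn⟩ := hnil
  have hpow : ∀ k : ℕ, (⊤ : Submodule A M) ≤ (RingHom.ker φ) ^ k • ⊤ := fun k => by
    induction k with
    | zero => rw [pow_zero, Ideal.one_eq_top, Submodule.top_smul]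
    | succ k ih =>
      refine htop.trans ?_
      rw [pow_succ', ← smul_smul]
      exact Submodule.smul_mono le_rfl ih
  refine ModuleCat.isZero_of_iff_subsingleton.2 ((subsingleton_iff_forall_eq 0).2 fun x => ?_)
  have := hpow n (Submodule.mem_top (x := x))
  rwa [hn, Ideal.zero_eq_bot, Submodule.bot_smul, Submodule.mem_bot] at this

/-- A K-flat complex of flat modules is exact in the degrees above those of its reduction. -/
lemma exactAt_of_nilp (hφ : Function.Surjective φ) (hnil : IsNilpotent (RingHom.ker φ))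
    {P : CochainComplex (ModuleCat.{u} A) ℤ} (hP : DRingLTensor.IsKF P)
    (hflat : ∀ n, Module.Flat A (P.X n)) (b : ℤ)
    (h : ∀ j, b < j → IsZero (((DRingLTensor.extC' φ).obj P).homology j)) (j : ℤ) (hj : b < j) :
    P.ExactAt j := by
  obtain ⟨n, hn⟩ := hnil
  have := DRingNilp.exactAt_of_pow φ hφ hflat j (fun N =>
    (HomologicalComplex.exactAt_iff_isZero_homology _ j).2
      (DRingRightExact.isZero_homology_tensC N (KFlatLib.kFlat_extendScalars φ hP) b h j hj))
    n (𝟙_ (ModuleCat.{u} A)) fun r hr x => by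
      rw [hn, Ideal.zero_eq_bot, Ideal.mem_bot] at hr
      rw [hr, zero_smul]
  exact this.of_iso (HomologicalComplex.Hom.isoOfComponents (fun m => ρ_ (P.X m))
    (fun a c _ => (MonoidalCategory.rightUnitor_naturality (P.d a c)).symm))

end Ring

variable {X X' : Scheme.{u}} {i : X ⟶ X'}

/-- A finite order thickening is a `Thick`. -/
lemma Thick.of_finiteOrder (hi : MoreMor.IsFiniteOrderThickening i) : Thick i := by
  obtain ⟨⟨hcl, hs⟩, n, hn⟩ := hi
  haveI := hcl
  refine ⟨hs.surj, i.isClosedEmbedding.isEmbedding, fun y => i.stalkMap_surjective y, fun y => ?_⟩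
  refine ⟨n, ?_⟩
  let K := RingHom.ker (i.stalkMap y).hom
  let P : ℕ → X'.presheaf.stalk (i.base y) → Prop := fun k a => ∀ U₀ : X'.Opens, i.base y ∈ U₀ →
    ∃ (U : X'.affineOpens) (hx : i.base y ∈ U.1), U.1 ≤ U₀ ∧
      ∃ s ∈ (i.ker.ideal U) ^ k, (X'.presheaf.germ U.1 (i.base y) hx).hom s = a
  have hres : ∀ {k} (U V : X'.affineOpens) (h : V.1 ≤ U.1) (s : Γ(X', U.1)),
      s ∈ (i.ker.ideal U) ^ k → (X'.presheaf.map (homOfLE h).op).hom s ∈ (i.ker.ideal V) ^ k :=
    fun {k} U V h s hs' => by
      have h' := Ideal.mem_map_of_mem (X'.presheaf.map (homOfLE h).op).hom hs'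
      rw [Ideal.map_pow] at h'
      exact Ideal.pow_right_mono (i.ker.map_ideal' (homOfLE h).op).le k h'
  have h1 : ∀ a ∈ K, P 1 a := fun a ha U₀ hx₀ => by
    obtain ⟨U₁, hxU₁, s, rfl⟩ := X'.presheaf.exists_germ_eq a
    have h0 : (X.presheaf.germ (i ⁻¹ᵁ U₁) y hxU₁).hom ((i.app U₁).hom s) = 0 := by
      rw [← ha]; exact (Scheme.Hom.germ_stalkMap_apply i U₁ y hxU₁ s).symm
    obtain ⟨W, hyW, j₁, j₂, e⟩ := TopCat.Presheaf.germ_eq X.presheaf y
      (show y ∈ i ⁻¹ᵁ U₁ from hxU₁) (show y ∈ i ⁻¹ᵁ U₁ from hxU₁)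
      ((i.app U₁).hom s) 0 (h0.trans (map_zero _).symm)
    obtain ⟨W', hW', hWW⟩ := (i.isClosedEmbedding.isEmbedding.isInducing.isOpen_iff).1 W.2
    have hxW : i.base y ∈ W' := by
      have : y ∈ i.base ⁻¹' W' := hWW.ge hyW
      exact this
    obtain ⟨U, hU, hxU, hle⟩ := TopologicalSpace.Opens.isBasis_iff_nbhd.1 X'.isBasis_affineOpens
      (show i.base y ∈ U₁ ⊓ U₀ ⊓ ⟨W', hW'⟩ from ⟨⟨hxU₁, hx₀⟩, hxW⟩)
    have hle₁ : U ≤ U₁ := fun z hz => (hle hz).1.1
    refine ⟨⟨U, hU⟩, hxU, fun z hz => (hle hz).1.2,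
      (X'.presheaf.map (homOfLE hle₁).op).hom s, ?_, ?_⟩
    · rw [pow_one, Scheme.Hom.ker_apply, RingHom.mem_ker]
      have hW : i ⁻¹ᵁ U ≤ W := fun z hz => hWW.le (show i.base z ∈ W' from (hle hz).2)
      have e' : X.presheaf.map j₁.op ((i.app U₁).hom s) = 0 := e.trans (map_zero _)
      have hn₁ := congrArg (fun f => f.hom s) (i.naturality (homOfLE hle₁).op)
      refine hn₁.trans ?_
      have hfac : (i.app U₁ ≫ X.presheaf.map ((Opens.map i.base).map (homOfLE hle₁).op.unop).op).hom s =
          (X.presheaf.map (homOfLE hW).op).hom (X.presheaf.map j₁.op ((i.app U₁).hom s)) := by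
        rw [← CategoryTheory.comp_apply (X.presheaf.map j₁.op), ← Functor.map_comp]
        rfl
      exact hfac.trans ((congrArg _ e').trans (map_zero _))
    · exact TopCat.Presheaf.germ_res_apply X'.presheaf (homOfLE hle₁) _ hxU s
  have hmul : ∀ k a b, P k a → P 1 b → P (k + 1) (a * b) := fun k a b hka hb U₀ hx₀ => by
    obtain ⟨U, hxU, hle, s, hs', rfl⟩ := hka U₀ hx₀
    obtain ⟨V, hxV, hle', t, ht, rfl⟩ := hb U.1 hxU
    refine ⟨V, hxV, hle'.trans hle, (X'.presheaf.map (homOfLE hle').op).hom s * t, ?_, ?_⟩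
    · rw [pow_succ]
      exact Ideal.mul_mem_mul (hres U V hle' s hs') (by rwa [pow_one] at ht)
    · rw [map_mul]
      exact congrArg (· * _) (TopCat.Presheaf.germ_res_apply X'.presheaf (homOfLE hle') _ hxV s)
  have hP : ∀ k : ℕ, ∀ a ∈ K ^ k, P k a := fun k => by
    induction k with
    | zero =>
        intro a _ U₀ hx₀
        obtain ⟨U₁, hxU₁, s, rfl⟩ := X'.presheaf.exists_germ_eq a
        obtain ⟨U, hU, hxU, hle⟩ := TopologicalSpace.Opens.isBasis_iff_nbhd.1
          X'.isBasis_affineOpens (show i.base y ∈ U₁ ⊓ U₀ from ⟨hxU₁, hx₀⟩)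
        refine ⟨⟨U, hU⟩, hxU, fun z hz => (hle hz).2,
          (X'.presheaf.map (homOfLE (fun z hz => (hle hz).1 : U ≤ U₁)).op).hom s, ?_, ?_⟩
        · rw [pow_zero, Ideal.one_eq_top]; exact Submodule.mem_top
        · exact TopCat.Presheaf.germ_res_apply X'.presheaf _ _ hxU s
    | succ k ih =>
      intro a ha
      rw [pow_succ] at ha
      refine Submodule.mul_induction_on ha (fun b hb c hc => hmul k b c (ih b hb) (h1 c hc)) ?_
      intro b c hb hc U₀ hx₀
      obtain ⟨U, hxU, hle, s, hs', rfl⟩ := hb U₀ hx₀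
      obtain ⟨V, hxV, hle', t, ht, rfl⟩ := hc U.1 hxU
      refine ⟨V, hxV, hle'.trans hle, (X'.presheaf.map (homOfLE hle').op).hom s + t,
        add_mem (hres U V hle' s hs') ht, ?_⟩
      rw [map_add]
      exact congrArg (· + _) (TopCat.Presheaf.germ_res_apply X'.presheaf (homOfLE hle') _ hxV s)
  refine (eq_bot_iff).2 fun a ha => ?_
  obtain ⟨U, hxU, -, s, hs', rfl⟩ := hP n a ha ⊤ trivial
  have : (i.ker.ideal U) ^ n = ⊥ := by
    have h := congrArg (fun I : X'.IdealSheafData => I.ideal U) hn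
    simpa using h
  rw [this, Ideal.mem_bot] at hs'
  rw [hs', map_zero]
  exact Submodule.zero_mem _

variable (hi : Thick i)

include hi

/-- Nakayama for sheaves of modules on a thickening. -/
lemma isZero_stalk_of_pullback (C : X'.Modules) (y : X)
    (h : IsZero ((DerSch.stalkFunctor X y).obj ((Scheme.Modules.pullback i).obj C))) :
    IsZero ((DerSch.stalkFunctor X' (i.base y)).obj C) :=
  isZero_of_extendScalars _ (hi.stalkSurj y) (hi.nil y) _
    (h.of_iso ((stalkPullbackIso i y).app C).symm)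

omit hi in
lemma surjective_stalk_iff_isZero_cokernel {M N : X'.Modules} (F : M ⟶ N) (x : X') :
    Function.Surjective ((DerSch.stalkFunctor X' x).map F) ↔
      IsZero ((DerSch.stalkFunctor X' x).obj (cokernel F)) := by
  rw [← ModuleCat.epi_iff_surjective]
  constructor
  · intro h
    exact (isZero_cokernel_of_epi _).of_iso (PreservesCokernel.iso (DerSch.stalkFunctor X' x) F)
  · intro h
    exact Preadditive.epi_of_isZero_cokernel _
      (h.of_iso (PreservesCokernel.iso (DerSch.stalkFunctor X' x) F).symm)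

omit hi in
lemma epi_of_surjective_stalk {M N : X'.Modules} (F : M ⟶ N)
    (h : ∀ x, Function.Surjective ((DerSch.stalkFunctor X' x).map F)) : Epi F :=
  Preadditive.epi_of_isZero_cokernel F
    (isZero_of_stalk _ fun x => (surjective_stalk_iff_isZero_cokernel F x).1 (h x))

omit hi in
lemma surjective_restrict_stalk {U : Scheme.{u}} (j : U ⟶ X') [IsOpenImmersion j] {M N : X'.Modules}
    (F : M ⟶ N) (z : U) (h : Function.Surjective ((DerSch.stalkFunctor X' (j.base z)).map F)) :
    Function.Surjective ((DerSch.stalkFunctor U z).map ((Scheme.Modules.restrictFunctor j).map F)) := by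
  have e := Scheme.Modules.restrictStalkNatIso j z
  let F₁ := Scheme.Modules.toPresheaf X' ⋙ TopCat.Presheaf.stalkFunctor Ab.{u} (j.base z)
  have hF : Epi (F₁.map F) := (AddCommGrpCat.epi_iff_surjective _).2 h
  have h1 : Epi ((Scheme.Modules.restrictFunctor j ⋙ Scheme.Modules.toPresheaf U ⋙
      TopCat.Presheaf.stalkFunctor Ab.{u} z).map F) :=
    ((MorphismProperty.epimorphisms _).arrow_mk_iso_iff
      (((Functor.mapArrowFunctor _ _).mapIso e).app (Arrow.mk F))).2 hF
  exact (AddCommGrpCat.epi_iff_surjective _).1 h1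

omit hi in
lemma epi_restrict_of_surjective_stalk {U : Scheme.{u}} (j : U ⟶ X') [IsOpenImmersion j]
    {M N : X'.Modules} (F : M ⟶ N)
    (h : ∀ z : U, Function.Surjective ((DerSch.stalkFunctor X' (j.base z)).map F)) :
    Epi ((Scheme.Modules.restrictFunctor j).map F) :=
  epi_of_surjective_stalk _ fun z => surjective_restrict_stalk j F z (h z)

omit hi in
lemma isIso_restrict_of_stalk {U : Scheme.{u}} (j : U ⟶ X') [IsOpenImmersion j]
    {M N : X'.Modules} (F : M ⟶ N)
    (h : ∀ z : U, IsIso ((DerSch.stalkFunctor X' (j.base z)).map F)) :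
    IsIso ((Scheme.Modules.restrictFunctor j).map F) := by
  refine isIso_of_stalk _ fun z => ?_
  have e := Scheme.Modules.restrictStalkNatIso j z
  haveI := h z
  have hF : IsIso ((Scheme.Modules.toPresheaf X' ⋙
      TopCat.Presheaf.stalkFunctor Ab.{u} (j.base z)).map F) :=
    (ConcreteCategory.isIso_iff_bijective _).2
      (ConcreteCategory.bijective_of_isIso ((DerSch.stalkFunctor X' (j.base z)).map F))
  have h1 : IsIso ((Scheme.Modules.restrictFunctor j ⋙ Scheme.Modules.toPresheaf U ⋙
      TopCat.Presheaf.stalkFunctor Ab.{u} z).map F) := (NatIso.isIso_map_iff e F).2 hF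
  haveI := h1
  exact (ConcreteCategory.isIso_iff_bijective _).2 (ConcreteCategory.bijective_of_isIso
    ((Scheme.Modules.restrictFunctor j ⋙ Scheme.Modules.toPresheaf U ⋙
      TopCat.Presheaf.stalkFunctor Ab.{u} z).map F))

/-- The cokernel `C` of `F` vanishes near `i y`, given generators of `i^* H`. -/
lemma exists_surjective_near {H G : X'.Modules} {n : ℕ} (F : FlatMod.freeMod X' n ⟶ G) (u₀ : H ⟶ G)
    {U : X'.Opens} (hu : ∀ z ∈ U, IsIso ((DerSch.stalkFunctor X' z).map u₀)) (y : X)
    (hxU : i.base y ∈ U) {W : X.Opens} (hyW : y ∈ W)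
    (p' : (FlatMod.freeMod X n).restrict W.ι ⟶ ((Scheme.Modules.pullback i).obj H).restrict W.ι)
    [Epi p'] (v : Fin n → (DerSch.stalkFunctor X' (i.base y)).obj H)
    (hv : ∀ k, (ModuleCat.extendRestrictScalarsAdj.{u} (i.stalkMap y).hom).unit.app _ (v k) =
      ((stalkPullbackIso i y).app H).hom (stalkAt hyW p' (eGerm y k)))
    (hF : ∀ k, (DerSch.stalkFunctor X' (i.base y)).map F (eGerm (i.base y) k) =
      (DerSch.stalkFunctor X' (i.base y)).map u₀ (v k)) :
    ∃ V : X'.Opens, i.base y ∈ V ∧ V ≤ U ∧ ∀ z ∈ V,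
      Function.Surjective ((DerSch.stalkFunctor X' z).map F) := by
  let S := DerSch.stalkFunctor X y
  let S' := DerSch.stalkFunctor X' (i.base y)
  let φ := (i.stalkMap y).hom
  let e := (stalkPullbackIso i y).app H
  let C := cokernel F
  let π : (Scheme.Modules.pullback i).obj H ⟶ (Scheme.Modules.pullback i).obj C :=
    (Scheme.Modules.pullback i).map (u₀ ≫ cokernel.π F)
  -- the cokernel vanishes at `y`
  have hπe : ∀ k, S.map π (stalkAt hyW p' (eGerm y k)) = 0 := fun k => by
    have hn : S.map π ≫ ((stalkPullbackIso i y).app C).hom =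
        e.hom ≫ (ModuleCat.extendScalars.{u, u, u} φ).map (S'.map (u₀ ≫ cokernel.π F)) :=
      (stalkPullbackIso i y).hom.naturality _
    apply ((ConcreteCategory.bijective_of_isIso ((stalkPullbackIso i y).app C).hom)).1
    rw [map_zero]
    refine (congrArg (fun f => f.hom (stalkAt hyW p' (eGerm y k))) hn).trans ?_
    show (ModuleCat.extendScalars.{u, u, u} φ).map (S'.map (u₀ ≫ cokernel.π F))
      (e.hom (stalkAt hyW p' (eGerm y k))) = 0
    rw [show e.hom (stalkAt hyW p' (eGerm y k)) = _ from (hv k).symm]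
    refine (congrArg (fun f => f.hom (v k))
      ((ModuleCat.extendRestrictScalarsAdj.{u} φ).unit.naturality
        (S'.map (u₀ ≫ cokernel.π F))).symm).trans ?_
    refine (congrArg ((ModuleCat.extendRestrictScalarsAdj.{u} φ).unit.app (S'.obj C)).hom
      (?_ : (S'.map (u₀ ≫ cokernel.π F)).hom (v k) = 0)).trans (map_zero _)
    rw [Functor.map_comp, CategoryTheory.comp_apply]
    refine (congrArg _ (hF k).symm).trans ?_
    rw [← CategoryTheory.comp_apply, ← Functor.map_comp, cokernel.condition, Functor.map_zero]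
    rfl
  have hzero : IsZero (S.obj ((Scheme.Modules.pullback i).obj C)) := by
    let q := stalkAt hyW p' ≫ S.map π
    have hq0 : q = 0 := free_stalk_ext fun k => hπe k
    have hpsurj : Function.Surjective (stalkAt hyW p') := by
      let w : (W : Scheme.{u}) := ⟨y, hyW⟩
      haveI := isIso_stalk_unitW hyW ((Scheme.Modules.pullback i).obj H)
      let Fp := unitW W _ ≫ (Scheme.Modules.pushforward W.ι).map p'
      have hres : Function.Surjective ((DerSch.stalkFunctor (W : Scheme.{u}) w).map
          ((Scheme.Modules.restrictFunctor W.ι).map Fp)) := by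
        have hfac : (Scheme.Modules.restrictFunctor W.ι).map Fp ≫
            (Scheme.Modules.restrictAdjunction W.ι).counit.app _ = p' :=
          (((Scheme.Modules.restrictAdjunction W.ι).homEquiv _ _).symm_apply_apply p').symm.trans
            ((Scheme.Modules.restrictAdjunction W.ι).homEquiv_counit ..) |>.symm
        haveI : IsIso ((Scheme.Modules.restrictAdjunction W.ι).counit.app
            (((Scheme.Modules.pullback i).obj H).restrict W.ι)) := inferInstance
        have heq : (Scheme.Modules.restrictFunctor W.ι).map Fp = p' ≫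
            inv ((Scheme.Modules.restrictAdjunction W.ι).counit.app _) := by
          exact (IsIso.eq_comp_inv _).2 hfac
        rw [heq, ← ModuleCat.epi_iff_surjective]
        haveI : Epi (p' ≫ inv ((Scheme.Modules.restrictAdjunction W.ι).counit.app
            (((Scheme.Modules.pullback i).obj H).restrict W.ι))) := epi_comp _ _
        infer_instance
      have h2 := surjective_stalk_of_restrict W.ι Fp w hres
      replace h2 : Function.Surjective (S.map Fp) := h2
      rw [show S.map Fp = _ from (stalkAt_spec hyW p').symm] at h2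
      exact Function.Surjective.of_comp_left (f := (S.map (unitW W _)))
        (fun b => by obtain ⟨a, ha⟩ := h2 b; exact ⟨a, ha⟩)
        (ConcreteCategory.bijective_of_isIso (S.map (unitW W ((Scheme.Modules.pullback i).obj H)))).1
    have hπsurj : Function.Surjective (S.map π) := by
      rw [← ModuleCat.epi_iff_surjective]
      haveI : IsIso (S'.map u₀) := hu _ hxU
      haveI : Epi (S'.map (u₀ ≫ cokernel.π F)) := by
        rw [Functor.map_comp]
        exact epi_comp _ _
      haveI : (ModuleCat.extendScalars.{u, u, u} φ).IsLeftAdjoint :=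
        (ModuleCat.extendRestrictScalarsAdj φ).isLeftAdjoint
      have := ((stalkPullbackIso i y).hom.naturality (u₀ ≫ cokernel.π F))
      have heq : S.map π = e.hom ≫ (ModuleCat.extendScalars.{u, u, u} φ).map
          (S'.map (u₀ ≫ cokernel.π F)) ≫ ((stalkPullbackIso i y).app C).inv := by
        rw [← Category.assoc, Iso.eq_comp_inv]
        exact this
      rw [heq]
      exact epi_comp' inferInstance (epi_comp' inferInstance inferInstance)
    refine ModuleCat.isZero_of_iff_subsingleton.2 ((subsingleton_iff_forall_eq 0).2 fun z => ?_)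
    obtain ⟨b, rfl⟩ := hπsurj z
    obtain ⟨a, rfl⟩ := hpsurj b
    exact congrArg (fun f => f.hom a) hq0
  -- it vanishes near `y`
  let W₁ : X.Opens := W ⊓ (i ⁻¹ᵁ U)
  let j := X.homOfLE (inf_le_left : W₁ ≤ W)
  let M₁ := ((Scheme.Modules.pullback i).obj C).restrict W₁.ι
  have hftC : CohB1.IsFT M₁ := by
    let R := Scheme.Modules.restrictFunctor j
    let π₁ : (((Scheme.Modules.pullback i).obj H).restrict W.ι).restrict j ⟶ M₁ :=
      (restrict₂Iso j W.ι W₁.ι (X.homOfLE_ι _) _).hom ≫
        (Scheme.Modules.restrictFunctor W₁.ι).map π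
    haveI : Epi ((Scheme.Modules.restrictFunctor W₁.ι).map π) := by
      refine epi_restrict_of_surjective_stalk _ _ fun z => ?_
      have hzU : i.base (W₁.ι.base z) ∈ U := z.2.2
      rw [← ModuleCat.epi_iff_surjective]
      haveI := hu _ hzU
      haveI : Epi ((DerSch.stalkFunctor X' (i.base (W₁.ι.base z))).map
          (u₀ ≫ cokernel.π F)) := by
        rw [Functor.map_comp]
        exact epi_comp _ _
      haveI : (ModuleCat.extendScalars.{u, u, u} (i.stalkMap (W₁.ι.base z)).hom).IsLeftAdjoint :=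
        (ModuleCat.extendRestrictScalarsAdj _).isLeftAdjoint
      exact ((MorphismProperty.epimorphisms _).arrow_mk_iso_iff
        (((Functor.mapArrowFunctor _ _).mapIso (stalkPullbackIso i (W₁.ι.base z))).app
          (Arrow.mk (u₀ ≫ cokernel.π F)))).2
        ((ModuleCat.extendScalars.{u, u, u} (i.stalkMap (W₁.ι.base z)).hom).map_epi
          ((DerSch.stalkFunctor X' (i.base (W₁.ι.base z))).map (u₀ ≫ cokernel.π F)))
    haveI : Epi π₁ := epi_comp _ _
    haveI : Epi (R.map p') := inferInstance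
    exact isFT_of_epi_free fun z => ⟨⊤, n,
      ((Scheme.Modules.restrictFunctorIsoPullback (⊤ : (W₁ : Scheme.{u}).Opens).ι).app _ ≪≫
          pullFreeIso (⊤ : (W₁ : Scheme.{u}).Opens).ι n).inv ≫
        (Scheme.Modules.restrictFunctor (⊤ : (W₁ : Scheme.{u}).Opens).ι).map
          (((Scheme.Modules.restrictFunctorIsoPullback W₁.ι).app _ ≪≫ pullFreeIso W₁.ι n).inv ≫
            (restrict₂Iso j W.ι W₁.ι (X.homOfLE_ι _) _).inv ≫ R.map p' ≫ π₁), trivial,
      inferInstance⟩
  let w₁ : (W₁ : Scheme.{u}) := ⟨y, hyW, hxU⟩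
  have hns : w₁ ∉ CohB1.support M₁ := fun hs => hs (by
    haveI : Subsingleton ((Scheme.Modules.toPresheaf X ⋙ TopCat.Presheaf.stalkFunctor Ab.{u}
        (W₁.ι.base w₁)).obj ((Scheme.Modules.pullback i).obj C) : Type u) :=
      ModuleCat.subsingleton_of_isZero hzero
    exact ((Scheme.Modules.restrictStalkNatIso W₁.ι w₁).app
      ((Scheme.Modules.pullback i).obj C)).addCommGroupIsoToAddEquiv.toEquiv.injective.subsingleton)
  let O : X.Opens := W₁.ι ''ᵁ ⟨(CohB1.support M₁)ᶜ, (QCoh.isClosed_support_of_ft hftC).isOpen_compl⟩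
  obtain ⟨O', hO', hOO⟩ := hi.emb.isInducing.isOpen_iff.1 O.2
  refine ⟨⟨O', hO'⟩ ⊓ U, ⟨show y ∈ i.base ⁻¹' O' by rw [hOO]; exact ⟨w₁, hns, rfl⟩, hxU⟩,
    inf_le_right, fun z hz => ?_⟩
  obtain ⟨a, rfl⟩ := hi.surj z
  refine (surjective_stalk_iff_isZero_cokernel F _).2 (isZero_stalk_of_pullback hi C a ?_)
  obtain ⟨a₁, ha₁, rfl⟩ := (show a ∈ O from hOO.le hz.1)
  refine isZero_stalk_of_restrict W₁.ι a₁ (@ModuleCat.isZero_of_subsingleton _ _ _ ?_)
  exact not_not.1 ha₁

/-- Finite type descends along thickenings. -/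
theorem isFT_of_pullback_thick (H : X'.Modules)
    (h : CohB1.IsFT ((Scheme.Modules.pullback i).obj H)) : CohB1.IsFT H := by
  refine isFT_of_epi_free fun x => ?_
  obtain ⟨y, rfl⟩ := hi.surj x
  obtain ⟨W, n, p, hyW, hp⟩ := exists_epi_free_of_isFT h y
  let p' : (FlatMod.freeMod X n).restrict W.ι ⟶
      ((Scheme.Modules.pullback i).obj H).restrict W.ι :=
    ((Scheme.Modules.restrictFunctorIsoPullback W.ι).app _ ≪≫ pullFreeIso W.ι n).hom ≫ p
  haveI : Epi p' := epi_comp' inferInstance hp
  let η := (ModuleCat.extendRestrictScalarsAdj.{u} (i.stalkMap y).hom).unit.app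
    ((DerSch.stalkFunctor X' (i.base y)).obj H)
  have hη : Function.Surjective η := by
    letI := (i.stalkMap y).hom.toAlgebra
    exact TensorProduct.mk_surjective _ _ _ (hi.stalkSurj y)
  choose v hv using fun k => hη (((stalkPullbackIso i y).app H).hom (stalkAt hyW p' (eGerm y k)))
  obtain ⟨U, hxU, hU⟩ := exists_of_germs H (i.base y) v
  obtain ⟨g, hg⟩ := hU U hxU le_rfl
  let F : FlatMod.freeMod X' n ⟶ (Scheme.Modules.pushforward U.ι).obj (H.restrict U.ι) :=
    unitW U _ ≫ (Scheme.Modules.pushforward U.ι).map g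
  obtain ⟨V, hyV, hVU, hsurj⟩ := exists_surjective_near hi F (unitW U H)
    (fun z hz => isIso_stalk_unitW hz H) y hxU hyW p' v hv fun k => by
      rw [← hg k, ← stalkAt_spec hxU g]
      rfl
  haveI := epi_restrict_of_surjective_stalk V.ι F fun z => hsurj _ z.2
  haveI : IsIso ((Scheme.Modules.restrictFunctor V.ι).map (unitW U H)) :=
    isIso_restrict_of_stalk V.ι _ fun z => isIso_stalk_unitW (hVU z.2) H
  exact ⟨V, n, (((Scheme.Modules.restrictFunctorIsoPullback V.ι).app _ ≪≫ pullFreeIso V.ι n).inv ≫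
    (Scheme.Modules.restrictFunctor V.ι).map F ≫
      inv ((Scheme.Modules.restrictFunctor V.ι).map (unitW U H))), hyV,
    epi_comp' inferInstance (epi_comp' inferInstance inferInstance)⟩

end Groth.Agent.RelPC13
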