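import Groth.Agent.RelPC13.Thick
import Groth.Agent.KFlatLib.Perfect.Retract
import Groth.Agent.KFlatLib.Scheme.CohD
import Groth.Agent.KFlatLib.Scheme.Derived
import Mathlib.Algebra.Homology.DerivedCategory.TStructure

/-!
# Pseudo-coherence along nilpotent thickenings
-/

set_option linter.style.haveILetI false
set_option backward.isDefEq.respectTransparency false
set_option backward.isDefEq.respectTransparency.types false

universe u

open CategoryTheory CategoryTheory.Limits AlgebraicGeometry TopologicalSpace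
open CategoryTheory.Pretriangulated Groth.Agent.KFlatLib

attribute [local instance] HasDerivedCategory.standard

namespace Groth.Agent.RelPC13

variable {X X' : Scheme.{u}} {i : X ⟶ X'}

/-- The homology of a complex and its class. -/
noncomputable def hdQIso (F : CochainComplex X.Modules ℤ) (n : ℤ) :
    DCoh.HD (DCoh.toD X F) n ≅ F.homology n :=
  (DerivedCategory.homologyFunctorFactors X.Modules n).app F

lemma Thick.restrict (hi : Thick i) (V : X'.Opens) : Thick (i ∣_ V) := by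
  have hs : ∀ y : ↥(i ⁻¹ᵁ V : X.Opens), ((i ∣_ V).base y).1 = i.base y.1 :=
    fun y => morphismRestrict_base_coe i V y
  refine ⟨fun z => ?_, ?_, fun y => ?_, fun y => ?_⟩
  · obtain ⟨y, hy⟩ := hi.surj z.1
    exact ⟨⟨y, show i.base y ∈ V from hy ▸ z.2⟩, Subtype.ext ((hs _).trans hy)⟩
  · refine Topology.IsEmbedding.of_comp ((i ∣_ V).continuous) continuous_subtype_val ?_
    have : (Subtype.val ∘ (i ∣_ V).base : _ → X') = i.base ∘ Subtype.val := funext hs
    rw [this]
    exact hi.emb.comp Topology.IsEmbedding.subtypeVal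
  · have e := morphismRestrictStalkMap i V y
    have : Arrow.mk ((i ∣_ V).stalkMap y) ≅ Arrow.mk (i.stalkMap y.1) := e
    exact ((MorphismProperty.surjective CommRingCat.{u}).arrow_mk_iso_iff this).2 (hi.stalkSurj y.1)
  · have e := morphismRestrictStalkMap i V y
    obtain ⟨n, hn⟩ := hi.nil y.1
    refine ⟨n, ?_⟩
    have hle : RingHom.ker ((i ∣_ V).stalkMap y).hom ≤
        (RingHom.ker (i.stalkMap y.1).hom).comap e.hom.left.hom := fun a ha => by
      rw [Ideal.mem_comap, RingHom.mem_ker]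
      have := congrArg (fun f => f.hom a) e.hom.w
      refine this.trans ?_
      show e.hom.right.hom (((i ∣_ V).stalkMap y).hom a) = 0
      rw [RingHom.mem_ker.1 ha, map_zero]
    refine eq_bot_iff.2 fun a ha => ?_
    have h1 : e.hom.left.hom a ∈ (RingHom.ker (i.stalkMap y.1).hom) ^ n :=
      (Ideal.le_comap_pow _ n) (Ideal.pow_right_mono hle n ha)
    rw [hn, Ideal.zero_eq_bot, Ideal.mem_bot] at h1
    rw [Ideal.mem_bot]
    exact (ConcreteCategory.bijective_of_isIso e.hom.left).1 (h1.trans (map_zero _).symm)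

variable (hi : Thick i)

include hi

/-- Bounds on the cohomology go up along a thickening. -/
theorem isZero_hd_of_lpull [DCoh.HasLpull i] (K' : DCoh.D X') (b : ℤ)
    (h : ∀ j, b < j → IsZero (DCoh.HD ((DCoh.Lpull i).obj K') j)) (j : ℤ) (hj : b < j) :
    IsZero (DCoh.HD K' j) := by
  have hz : ∀ m, b < m → IsZero (((pullCx i).obj (repK K')).homology m) := fun m hm =>
    (h m hm).of_iso ((hdQIso _ m).symm ≪≫
      (DerivedCategory.homologyFunctor X.Modules m).mapIso (lpullRepIso i K'))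
  suffices hR : IsZero ((repK K').homology j) from hR.of_iso
    ((DerivedCategory.homologyFunctor X'.Modules j).mapIso (repKIso K').symm ≪≫ hdQIso _ j)
  refine isZero_of_stalk _ fun x => ?_
  obtain ⟨y, rfl⟩ := hi.surj x
  refine IsZero.of_iso ?_ (((repK K').sc j).mapHomologyIso (DerSch.stalkFunctor X' (i.base y))).symm
  refine (HomologicalComplex.exactAt_iff_isZero_homology
    ((stalkCx (i.base y)).obj (repK K')) j).1 ?_
  refine exactAt_of_nilp (i.stalkMap y).hom (hi.stalkSurj y) (hi.nil y)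
    ((kFlat_iff_stalk _).1 (isKFlat_repK K') (i.base y)) (fun n => isFlat_kRes _ n (i.base y)) b
    (fun m hm => ?_) j hj
  exact (((DerSch.stalkFunctor X y).map_isZero (hz m hm)).of_iso
    (((pullCx i).obj (repK K')).sc m |>.mapHomologyIso (DerSch.stalkFunctor X y))).of_iso
      ((HomologicalComplex.homologyFunctor _ _ m).mapIso (stalkPullCxIso i y (repK K')).symm)

/-- The top step. -/
theorem locPC_top_thick [DCoh.HasLpull i] (K' : DCoh.D X') (b : ℤ)
    (hb : ∀ j, b < j → IsZero (DCoh.HD K' j)) (hL : LocPC b ((DCoh.Lpull i).obj K')) :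
    LocPC b K' := by
  have hz : ∀ m, b < m → IsZero ((repK K').homology m) := fun m hm =>
    (hb m hm).of_iso ((hdQIso _ m).symm ≪≫
      (DerivedCategory.homologyFunctor X'.Modules m).mapIso (repKIso K'))
  obtain ⟨R, ψ, hψ, hflat, hzR⟩ := (flatCover X').exists_bounded_resolution (repK K') b hz
  haveI := hψ
  haveI : R.IsStrictlyLE b := (CochainComplex.isStrictlyLE_iff R b).2 hzR
  haveI := isIso_Q_map ψ hψ
  let eR : DCoh.toD X' R ≅ K' := asIso (DerivedCategory.Q.map ψ) ≪≫ repKIso K'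
  let eL : (DCoh.Lpull i).obj K' ≅ DCoh.toD X ((pullCx i).obj R) :=
    (DCoh.Lpull i).mapIso eR.symm ≪≫ lpullIso i (isKFlat_of_isStrictlyLE R b hflat)
  let G := Scheme.Modules.pullback i
  have hzP : ∀ m, b < m → IsZero (((pullCx i).obj R).X m) := fun m hm => G.map_isZero (hzR m hm)
  -- the top cohomology
  haveI : IsIso (((pullCx i).obj R).homologyι b) :=
    ((pullCx i).obj R).isIso_homologyι b (b + 1) (by simp) ((hzP (b + 1) (by omega)).eq_of_tgt _ _)
  haveI : IsIso (R.homologyι b) :=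
    R.isIso_homologyι b (b + 1) (by simp) ((hzR (b + 1) (by omega)).eq_of_tgt _ _)
  let cR₀ := IsColimit.coconePointUniqueUpToIso (cokernelIsCokernel (R.d (b - 1) b))
    (R.opcyclesIsCokernel (b - 1) b (by simp))
  let cR : cokernel (R.d (b - 1) b) ≅ R.homology b := cR₀ ≪≫ (asIso (R.homologyι b)).symm
  let cP₀ := IsColimit.coconePointUniqueUpToIso (cokernelIsCokernel (G.map (R.d (b - 1) b)))
    (((pullCx i).obj R).opcyclesIsCokernel (b - 1) b (by simp))
  let cP : cokernel (G.map (R.d (b - 1) b)) ≅ ((pullCx i).obj R).homology b :=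
    cP₀ ≪≫ (asIso (((pullCx i).obj R).homologyι b)).symm
  have hzL : ∀ m, b < m → IsZero (DCoh.HD ((DCoh.Lpull i).obj K') m) := fun m hm =>
    (ShortComplex.isZero_homology_of_isZero_X₂ _ (hzP m hm)).of_iso
      ((DerivedCategory.homologyFunctor X.Modules m).mapIso eL ≪≫ hdQIso _ m)
  have hFT : CohB1.IsFT (R.homology b) := by
    refine isFT_of_pullback_thick hi _ (isFT_iso ?_ (isFT_top hL hzL))
    exact (DerivedCategory.homologyFunctor X.Modules b).mapIso eL ≪≫ hdQIso _ b ≪≫ cP.symm ≪≫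
      (PreservesCokernel.iso G (R.d (b - 1) b)).symm ≪≫ G.mapIso cR
  -- the truncation
  haveI : R.IsLE b := inferInstance
  let T := R.truncGE b
  obtain ⟨A, ⟨eA⟩⟩ : ∃ A : X'.Modules,
      Nonempty (DCoh.toD X' T ≅ (DerivedCategory.singleFunctor X'.Modules b).obj A) := by
    haveI : (DerivedCategory.Q.obj T).IsGE b := inferInstance
    haveI : (DerivedCategory.Q.obj T).IsLE b := inferInstance
    exact DerivedCategory.exists_iso_singleFunctor_obj_of_isGE_of_isLE _ b
  haveI hqb : QuasiIsoAt (R.πTruncGE b) b := CochainComplex.quasiIsoAt_πTruncGE R b b le_rfl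
  let eSh : ((DerivedCategory.singleFunctor X'.Modules b).obj A)⟦b⟧ ≅ DCoh.inD X' A :=
    ((DerivedCategory.singleFunctors X'.Modules).shiftIso b 0 b (add_zero b)).app A
  let eHA : DCoh.HD (DCoh.inD X' A) 0 ≅ R.homology b :=
    (DerivedCategory.homologyFunctor X'.Modules 0).mapIso
        (eSh.symm ≪≫ (shiftFunctor (DCoh.D X') b).mapIso eA.symm) ≪≫
      ((DerivedCategory.homologyFunctor X'.Modules 0).shiftIso b 0 b (add_zero b)).app _ ≪≫
      hdQIso T b ≪≫ (isoOfQuasiIsoAt (R.πTruncGE b) b).symm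
  have hT : LocPC b (DCoh.toD X' T) := by
    refine LocPC.of_shift b ?_
    rw [sub_self]
    exact (locPC_of_isFT A (isFT_iso (eHA.symm ≪≫ hdSingleIso A) hFT)).of_iso
      (eSh.symm ≪≫ (shiftFunctor (DCoh.D X') b).mapIso eA.symm)
  have hpc : IsPcMap (b - 1) (DerivedCategory.Q.map (R.πTruncGE b)) := by
    refine isPcMap_of_homologyMap _ _ (fun m hm => ?_) ?_
    · haveI := CochainComplex.quasiIsoAt_πTruncGE R b m (by omega)
      exact (quasiIsoAt_iff_isIso_homologyMap _ m).1 inferInstance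
    · exact ⟨fun g h _ => ((T.exactAt_of_isGE b (b - 1) (by omega)).isZero_homology).eq_of_src g h⟩
  let Tr : Triangle (DCoh.D X') :=
    DerivedCategory.Q.mapTriangle.obj (CochainComplex.mappingCone.triangle (R.πTruncGE b))
  have hTr : Tr ∈ distinguishedTriangles :=
    (DerivedCategory.mem_distTriang_iff Tr).2 ⟨_, _, R.πTruncGE b, ⟨Iso.refl _⟩⟩
  have hC : LocPC (b - 1) Tr.obj₃ := locPC_of_isZero _ _ fun m hm =>
    ((isPcMap_iff_cone (b - 1) _).1 hpc m hm).of_iso
      (hdQIso (CochainComplex.mappingCone (R.πTruncGE b)) m)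
  have := (locPC_two_of_three (b - 1) Tr hTr).2.2
  rw [sub_add_cancel] at this
  exact (this hT hC).of_iso eR

omit hi in
/-- Restriction of the derived pullback. -/
lemma nonempty_lpull_restrict [DCoh.HasLpull i] (K' : DCoh.D X') (V : X'.Opens)
    [DCoh.HasLpull (i ∣_ V)] :
    Nonempty ((DCoh.Lpull (i ∣_ V)).obj (DCoh.toD _ ((DCoh.restrictCx V).obj (repK K'))) ≅
      (rho (i ⁻¹ᵁ V).ι).obj ((DCoh.Lpull i).obj K')) :=
  ⟨lpullIso (i ∣_ V) (isKFlat_restrict V.ι (isKFlat_repK K')) ≪≫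
    DerivedCategory.Q.mapIso (restrictPullIso i V (repK K')).symm ≪≫
    ((rhoQ (i ⁻¹ᵁ V).ι).app _).symm ≪≫ (rho _).mapIso (lpullRepIso i K')⟩

omit hi

/-- Pseudo-coherence along thickenings, given a bound. -/
lemma locPC_thick_aux : ∀ (d : ℕ) {X X' : Scheme.{u}} {i : X ⟶ X'}, Thick i →
    ∀ [DCoh.HasLpull i] (K' : DCoh.D X') (n : ℤ), (∀ j, n + d < j → IsZero (DCoh.HD K' j)) →
      LocPC n ((DCoh.Lpull i).obj K') → LocPC n K'
  | 0, _, _, _, hi, _, K', n, hb, hL => locPC_top_thick hi K' n (fun j hj => hb j (by omega)) hL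
  | d + 1, X, X', i, hi, _, K', n, hb, hL => by
    have h1 : LocPC (n + 1) K' := locPC_thick_aux d hi K' (n + 1)
      (fun j hj => hb j (by push_cast at hj ⊢; omega)) (hL.mono (by omega))
    refine LocPC.of_local fun x => ?_
    obtain ⟨V, hxV, hV⟩ := (isPseudoCoherentD_iff _ _).2 h1 x
    obtain ⟨E, α, hE, hα⟩ := hV (repK K') ⟨repKIso K'⟩
    let eV : DCoh.toD _ ((DCoh.restrictCx V).obj (repK K')) ≅ (rho V.ι).obj K' :=
      ((rhoQ V.ι).app _).symm ≪≫ (rho V.ι).mapIso (repKIso K')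
    refine ⟨_, V.ι, inferInstance, ⟨⟨x, hxV⟩, rfl⟩, LocPC.of_iso eV ?_⟩
    haveI := hasLpull (i ∣_ V)
    let i' := i ∣_ V
    obtain ⟨eL⟩ := nonempty_lpull_restrict (i := i) K' V
    have hB : LocPC n ((DCoh.Lpull i').obj (DCoh.toD _ ((DCoh.restrictCx V).obj (repK K')))) :=
      (hL.restrict (i ⁻¹ᵁ V).ι).of_iso eL.symm
    obtain ⟨E', s, hs, φ, hfac⟩ := DerivedCategory.right_fac α
    haveI := hs
    let φ' := (kRes (V : Scheme.{u})).map φ
    let C := CochainComplex.mappingCone φ'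
    let eE : DCoh.toD _ ((kRes _).obj E') ≅ DCoh.toD _ E :=
      (resQIso _).app E' ≪≫ asIso (DerivedCategory.Q.map s)
    let eG := (resQIso (V : Scheme.{u})).app ((DCoh.restrictCx V).obj (repK K'))
    have hα' : IsPcMap (n + 1) (DerivedCategory.Q.map φ') := by
      have heq : DerivedCategory.Q.map φ' = eE.hom ≫ α ≫ eG.inv := by
        have hn := (resQIso (V : Scheme.{u})).hom.naturality φ
        dsimp at hn
        rw [hfac]
        simp only [eE, eG, Iso.trans_hom, asIso_hom, Category.assoc, Iso.app_hom, Iso.app_inv,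
          IsIso.hom_inv_id_assoc]
        rw [← reassoc_of% hn, Iso.hom_inv_id_app]
        exact (Category.comp_id _).symm
      rw [heq]
      exact IsPcMap.comp_iso _ hα _
    have hC₀ : ∀ j, n < j → IsZero (DCoh.HD (DCoh.toD _ C) j) := fun j hj =>
      ((isPcMap_iff_cone (n + 1) φ').1 hα' j (by omega)).of_iso (hdQIso C j)
    have hCflat : DCoh.IsKFlat C :=
      kFlat_cone (T := DCoh.tensorBi) φ' (isKFlat_kRes _) (isKFlat_kRes _)
    let Tp : Triangle (DCoh.D (i ⁻¹ᵁ V : X.Opens)) := DerivedCategory.Q.mapTriangle.obj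
      (CochainComplex.mappingCone.triangle ((pullCx i').map φ'))
    have hTp : Tp ∈ distinguishedTriangles :=
      (DerivedCategory.mem_distTriang_iff Tp).2 ⟨_, _, _, ⟨Iso.refl _⟩⟩
    have hp₁ : LocPC (n + 1) Tp.obj₁ :=
      ((isPseudoCoherentD_iff _ _).1 (isPseudoCoherentD_lpull i'
        ((isPseudoCoherentD_iff (n + 1) (DCoh.toD _ E)).2 fun y =>
          ⟨_, 𝟙 _, inferInstance, ⟨y, rfl⟩, _, ((rhoQ (𝟙 _)).app E).inv,
            isStrictlyPerfect_restrict _ hE, isPcMap_of_isIso _ _⟩))).of_iso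
        ((DCoh.Lpull i').mapIso eE.symm ≪≫ lpullIso i' (isKFlat_kRes E'))
    have hp₂ : LocPC n Tp.obj₂ :=
      hB.of_iso ((DCoh.Lpull i').mapIso eG.symm ≪≫ lpullIso i' (isKFlat_kRes _))
    have hp₃ : LocPC n ((DCoh.Lpull i').obj (DCoh.toD _ C)) :=
      (locPC_obj₃ Tp hTp hp₁ hp₂).of_iso (DerivedCategory.Q.mapIso
        (CochainComplex.mappingCone.mapHomologicalComplexIso φ'
          (Scheme.Modules.pullback i')).symm ≪≫ (lpullIso i' hCflat).symm)
    have hC : LocPC n (DCoh.toD _ C) :=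
      locPC_top_thick (hi.restrict V) _ n hC₀ hp₃
    let T : Triangle (DCoh.D (V : Scheme.{u})) :=
      DerivedCategory.Q.mapTriangle.obj (CochainComplex.mappingCone.triangle φ')
    have hT : T ∈ distinguishedTriangles :=
      (DerivedCategory.mem_distTriang_iff T).2 ⟨_, _, φ', ⟨Iso.refl _⟩⟩
    refine LocPC.of_iso eG ((locPC_two_of_three n T hT).2.1 ?_ hC)
    refine LocPC.of_iso eE.symm ?_
    exact fun y => ⟨_, 𝟙 _, inferInstance, ⟨y, rfl⟩, _, ((rhoQ (𝟙 _)).app E).inv,
      isStrictlyPerfect_restrict _ hE, isPcMap_of_isIso _ _⟩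

include hi in
/-- Pseudo-coherence along thickenings. -/
theorem locPC_of_lpull_thick [DCoh.HasLpull i] (K' : DCoh.D X') (n : ℤ)
    (hL : LocPC n ((DCoh.Lpull i).obj K')) : LocPC n K' := by
  refine LocPC.of_local fun x => ?_
  obtain ⟨V, hVa, hxV⟩ : ∃ V : X'.Opens, IsAffineOpen V ∧ x ∈ V := by
    obtain ⟨V, hV, hx, -⟩ := TopologicalSpace.Opens.isBasis_iff_nbhd.1 X'.isBasis_affineOpens
      (show x ∈ (⊤ : X'.Opens) from trivial)
    exact ⟨V, hV, hx⟩
  haveI := hasLpull (i ∣_ V)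
  obtain ⟨eL⟩ := nonempty_lpull_restrict (i := i) K' V
  have hL' := (hL.restrict (i ⁻¹ᵁ V).ι).of_iso eL.symm
  haveI : CompactSpace (V : Scheme.{u}) := isCompact_iff_compactSpace.1 hVa.isCompact
  haveI : CompactSpace (i ⁻¹ᵁ V : X.Opens) := ((hi.restrict V).emb.toHomeomorphOfSurjective
    (hi.restrict V).surj).symm.compactSpace
  obtain ⟨b, hb⟩ := exists_bound_of_locPC hL'
  refine ⟨_, V.ι, inferInstance, ⟨⟨x, hxV⟩, rfl⟩,
    LocPC.of_iso (((rhoQ V.ι).app _).symm ≪≫ (rho V.ι).mapIso (repKIso K')) ?_⟩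
  exact locPC_thick_aux (b - n).toNat (hi.restrict V) _ n
    (fun j hj => isZero_hd_of_lpull (hi.restrict V) _ b hb j (by omega)) hL'

end Groth.Agent.RelPC13
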